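import Cfsg.Agent.Classical.OrthElusive.Atom

/-!
# Counting an isometry class of subspaces modulo `r`
-/

set_option autoImplicit false
set_option linter.unusedSectionVars false

open QuadraticMap Submodule Cfsg.Lib.FormNormal
open Cfsg.Lib.Classical.PrimeOrd (Inv fix mov mem_fix isCompl_fix_mov)

namespace Cfsg.Lib.OrthEl

universe u v

variable {F : Type u} [Field F] [Fintype F] {V : Type v} [AddCommGroup V] [Module F V] [FiniteDimensional F V]
  {Q : QuadraticForm F V} {r : ℕ}

theorem iso_of_ts {A B : Submodule F V} (hA : TS Q A) (hB : TS Q B) (h : Module.finrank F A = Module.finrank F B) :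
    Iso Q A B :=
  ⟨LinearEquiv.ofFinrankEq _ _ h, fun w => by rw [hA _ w.2, hB _ (Subtype.coe_prop _)]⟩

theorem Iso.ts {A B : Submodule F V} (h : Iso Q A B) (hA : TS Q A) : TS Q B := by
  obtain ⟨e, he⟩ := h
  intro u hu
  obtain ⟨a, ha⟩ := e.surjective ⟨u, hu⟩
  have := he a
  rw [ha] at this
  exact this.trans (hA _ a.2)

theorem iso_map_of_inj (x : Module.End F V) (hx : ∀ v, Q (x v) = Q v) (hi : Function.Injective x) (W : Submodule F V) :
    Iso Q W (W.map x) :=
  ⟨Submodule.equivMapOfInjective x hi W, fun w => hx w⟩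

variable (Q) in
/-- The isometries, as a group. -/
def isomGroup : Subgroup (V ≃ₗ[F] V) where
  carrier := {e | ∀ v, Q (e v) = Q v}
  one_mem' := fun _ => rfl
  mul_mem' := fun {a b} ha hb v => (ha (b v)).trans (hb v)
  inv_mem' := fun {a} ha v => by
    conv_rhs => rw [← a.apply_symm_apply v, ha]
    rfl

variable {p : ℕ} [Fact p.Prime] [CharP F p] [Fact r.Prime]

include p in
theorem mov_eq_bot (hr2 : r ≠ 2) (hrp : r ≠ p) (hQ : ND Q (⊤ : Submodule F V)) {i c : ℕ}
    (hi : i = orderOf (Fintype.card F : ZMod r)) (hc : c = if Even i then i else 2 * i)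
    (hroom : Module.finrank F V < c ∨ (Module.finrank F V = c ∧ (Plus Q (⊤ : Submodule F V) ↔ Even i)))
    {x : Module.End F V} (hx : RIsom Q r x) : mov x = ⊥ := by
  obtain ⟨-, hm⟩ := hx.nd_fix (r_cast_ne (p := p) hrp) hQ
  obtain ⟨j, hj, -, hjp⟩ := fpf_dim (p := p) hx hr2 hrp hm hi hc
  have hle := Submodule.finrank_le (mov x)
  rcases Nat.eq_zero_or_pos j with rfl | hj0
  · exact Submodule.finrank_eq_zero.1 (by simpa using hj)
  exfalso
  have h1 : c ≤ c * j := Nat.le_mul_of_pos_right c hj0
  rcases hroom with h | ⟨h, ht⟩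
  · omega
  have htop : mov x = ⊤ := Submodule.eq_top_of_finrank_eq (by omega)
  have hj1 : j = 1 := by
    rcases Nat.lt_or_ge 1 j with h2 | h2
    · have : c * 2 ≤ c * j := Nat.mul_le_mul_left c h2
      have hc0 : 0 < c := by
        have := Cfsg.Lib.Classical.PrimeOrd.ord_pos (F := F) (r := r)
          (Cfsg.Lib.Classical.PrimeOrd.not_dvd_card (p := p) Fact.out hrp)
        rw [hc]; split_ifs <;> omega
      omega
    · omega
  rw [htop, hj1] at hjp
  by_cases hev : Even i
  · exact (hjp.1 (ht.2 hev)).elim (· hev) (by decide)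
  · exact hev (ht.1 (hjp.2 (Or.inl hev)))

include p in
/-- An orbit of a group without elements of order `r`. -/
theorem not_dvd_class (hr2 : r ≠ 2) (hrp : r ≠ p) (hQ : ND Q (⊤ : Submodule F V)) {i c : ℕ}
    (hi : i = orderOf (Fintype.card F : ZMod r)) (hc : c = if Even i then i else 2 * i)
    (hroom : Module.finrank F V < c ∨ (Module.finrank F V = c ∧ (Plus Q (⊤ : Submodule F V) ↔ Even i)))
    (W₀ : Submodule F V) : ¬ r ∣ Nat.card {W : Submodule F V // Iso Q W₀ W} := by
  classical
  haveI : Finite V := Module.finite_of_finite F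
  haveI : Finite (Submodule F V) := Finite.of_injective _ SetLike.coe_injective
  haveI : Finite (V ≃ₗ[F] V) := Finite.of_injective (fun e => (⇑e : V → V)) DFunLike.coe_injective
  letI : MulAction (isomGroup Q) (Submodule F V) :=
    { smul := fun g W => W.map (g.1 : V ≃ₗ[F] V).toLinearMap
      one_smul := fun W => Submodule.map_id W
      mul_smul := fun a b W => (Submodule.map_comp _ _ W) }
  have horb : Nat.card {W : Submodule F V // Iso Q W₀ W} = Nat.card (MulAction.orbit (isomGroup Q) W₀) := by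
    refine Nat.card_congr (Equiv.subtypeEquivRight fun W => ⟨fun h => ?_, ?_⟩)
    · obtain ⟨e, he⟩ := h
      obtain ⟨g, hg, hge⟩ := Cfsg.Lib.Classical.WittQuad.witt Q ⟨fun x h => hQ x trivial fun y _ => h y,
        fun y h => hQ y trivial fun x _ => by rw [QuadraticMap.polar_comm]; exact h x⟩ W₀ W e he
      refine ⟨⟨g, hg⟩, ?_⟩
      show W₀.map g.toLinearMap = W
      refine le_antisymm ?_ fun w hw => ?_
      · rintro _ ⟨a, ha, rfl⟩
        show g a ∈ W
        rw [show g a = (e ⟨a, ha⟩ : V) from hge ⟨a, ha⟩]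
        exact Subtype.coe_prop _
      · exact ⟨(e.symm ⟨w, hw⟩ : V), Subtype.coe_prop _, by
          show g (e.symm ⟨w, hw⟩ : V) = w
          rw [hge, e.apply_symm_apply]⟩
    · rintro ⟨g, rfl⟩
      exact iso_map_of_inj _ g.2 g.1.injective W₀
  rw [horb, Nat.card_congr (MulAction.orbitEquivQuotientStabilizer (isomGroup Q) W₀)]
  intro hd
  obtain ⟨g, hg⟩ := exists_prime_orderOf_dvd_card' (G := isomGroup Q) r
    (hd.trans (Subgroup.index_dvd_card _))
  have hgr : (g.1 : V ≃ₗ[F] V) ^ r = 1 := by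
    rw [← Subgroup.coe_pow, ← hg, pow_orderOf_eq_one]; rfl
  have hj : ∀ (j : ℕ) (v : V), ((g.1 : V ≃ₗ[F] V).toLinearMap ^ j) v = ((g.1 : V ≃ₗ[F] V) ^ j) v := fun j => by
    induction j with
    | zero => intro v; simp
    | succ j ih => intro v; rw [pow_succ', Module.End.mul_apply, ih, pow_succ']; rfl
  have hx : RIsom Q r (g.1 : V ≃ₗ[F] V).toLinearMap :=
    ⟨g.2, LinearMap.ext fun v => by rw [hj, hgr]; rfl⟩
  have h0 := mov_eq_bot (p := p) hr2 hrp hQ hi hc hroom hx
  have h1 : g = 1 := by
    refine Subtype.ext (LinearEquiv.ext fun v => ?_)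
    have h2 : ((g.1 : V ≃ₗ[F] V).toLinearMap - 1) v ∈ mov (g.1 : V ≃ₗ[F] V).toLinearMap := ⟨v, rfl⟩
    rw [h0, Submodule.mem_bot, LinearMap.sub_apply, sub_eq_zero] at h2
    exact h2
  rw [h1, orderOf_one] at hg
  exact (Fact.out : r.Prime).ne_one hg.symm

include p in
/-- Fixed members inside the fixed space keep the count prime to `r`. -/
theorem not_dvd_of_small (hr2 : r ≠ 2) (hrp : r ≠ p) (hQ : ND Q (⊤ : Submodule F V)) {i c : ℕ}
    (hi : i = orderOf (Fintype.card F : ZMod r)) (hc : c = if Even i then i else 2 * i)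
    {x : Module.End F V} (hx : RIsom Q r x) (W₀ : Submodule F V)
    (hsmall : ∀ W, Iso Q W₀ W → Inv x W → W ≤ fix x)
    (hroom : Module.finrank F (fix x) < c ∨ (Module.finrank F (fix x) = c ∧ (Plus Q (fix x) ↔ Even i)))
    (hex : ∃ W, Iso Q W₀ W ∧ Inv x W) : ¬ r ∣ Nat.card {W : Submodule F V // Iso Q W₀ W} := by
  classical
  obtain ⟨W₁, hW₁, hW₁x⟩ := hex
  have hW₁C := hsmall W₁ hW₁ hW₁x
  haveI : Finite V := Module.finite_of_finite F
  haveI : Finite (Submodule F V) := Finite.of_injective _ SetLike.coe_injective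
  have hrc := r_cast_ne (p := p) (F := F) hrp
  have hinj : Function.Injective x := fun a b h => by
    have := congrArg (x ^ (r - 1)) h
    rwa [← Module.End.mul_apply, ← Module.End.mul_apply, ← pow_succ, Nat.sub_add_cancel r_pos, hx.pow] at this
  let f : {W : Submodule F V // Iso Q W₀ W} → {W : Submodule F V // Iso Q W₀ W} :=
    fun W => ⟨W.1.map x, W.2.trans (iso_map_of_inj x hx.iso hinj W.1)⟩
  have hf : ∀ W, f^[r] W = W := fun W => by
    have hj : ∀ j, (f^[j] W).1 = W.1.map (x ^ j) := fun j => by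
      induction j with
      | zero => exact (Submodule.map_id W.1).symm
      | succ j ih =>
        rw [Function.iterate_succ_apply', pow_succ', Module.End.mul_eq_comp, Submodule.map_comp, ← ih]
    exact Subtype.ext (by rw [hj, hx.pow]; exact Submodule.map_id W.1)
  have hmod := card_modEq (r := r) f hf
  set C := fix x
  set QC := Q.comp C.subtype
  obtain ⟨hCn, -⟩ := hx.nd_fix hrc hQ
  have hQC : ND QC (⊤ : Submodule F C) := nd_top _ (nd_restrict hCn)
  have hup : ∀ A : Submodule F C, Iso Q (A.map C.subtype) (A.map C.subtype) := fun A => Iso.refl _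
  have hiso : ∀ A B : Submodule F C, Iso QC A B ↔ Iso Q (A.map C.subtype) (B.map C.subtype) := fun A B => by
    let eA := Submodule.equivMapOfInjective C.subtype C.injective_subtype A
    let eB := Submodule.equivMapOfInjective C.subtype C.injective_subtype B
    constructor
    · rintro ⟨e, he⟩
      refine ⟨(eA.symm.trans e).trans eB, fun w => ?_⟩
      obtain ⟨a, rfl⟩ := eA.surjective w
      show Q ((eB (e (eA.symm (eA a)))) : V) = Q (eA a : V)
      rw [eA.symm_apply_apply]
      exact he a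
    · rintro ⟨e, he⟩
      refine ⟨(eA.trans e).trans eB.symm, fun a => ?_⟩
      show Q (((eB.symm (e (eA a))) : C) : V) = Q ((a : C) : V)
      rw [show (((eB.symm (e (eA a))) : C) : V) = (e (eA a) : V) from congrArg Subtype.val (eB.apply_symm_apply (e (eA a)))]
      exact he _
  have hW₁' : (W₁.comap C.subtype).map C.subtype = W₁ := by
    rw [Submodule.map_comap_subtype, inf_eq_right.2 hW₁C]
  have hcard : Nat.card {W : {W : Submodule F V // Iso Q W₀ W} // f W = W} =
      Nat.card {A : Submodule F C // Iso QC (W₁.comap C.subtype) A} := by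
    refine Nat.card_congr
      { toFun := fun W => ⟨W.1.1.comap C.subtype, (hiso _ _).2 ?_⟩
        invFun := fun A => ⟨⟨A.1.map C.subtype, hW₁.trans (by have h' := (hiso _ _).1 A.2; rwa [hW₁'] at h')⟩, Subtype.ext ?_⟩
        left_inv := fun W => Subtype.ext (Subtype.ext ?_)
        right_inv := fun A => Subtype.ext (Submodule.comap_map_eq_of_injective C.injective_subtype A.1) }
    · have hle := hsmall W.1.1 W.1.2 fun w hw => (congrArg Subtype.val W.2).le ⟨w, hw, rfl⟩
      rw [hW₁', Submodule.map_comap_subtype, inf_eq_right.2 hle]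
      exact hW₁.symm.trans W.1.2
    · show (A.1.map C.subtype).map x = A.1.map C.subtype
      have e : ∀ w ∈ A.1.map C.subtype, x w = w := fun w hw => mem_fix.1 (Submodule.map_subtype_le C A.1 hw)
      refine le_antisymm ?_ fun w hw => ⟨w, hw, e w hw⟩
      rintro _ ⟨w, hw, rfl⟩
      rw [e w hw]; exact hw
    · have hle := hsmall W.1.1 W.1.2 fun w hw => (congrArg Subtype.val W.2).le ⟨w, hw, rfl⟩
      show (W.1.1.comap C.subtype).map C.subtype = W.1.1
      rw [Submodule.map_comap_subtype, inf_eq_right.2 hle]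
  rw [hcard] at hmod
  intro hd
  refine not_dvd_class (p := p) hr2 hrp hQC hi hc ?_ (W₁.comap C.subtype) ((hmod.dvd_iff dvd_rfl).1 hd)
  have hplus : Plus QC (⊤ : Submodule F C) ↔ Plus Q C := by
    constructor
    · rintro ⟨U, -, hts, hdim⟩
      rw [finrank_top] at hdim
      refine ⟨U.map C.subtype, Submodule.map_subtype_le C U, ?_, ?_⟩
      · rintro _ ⟨u, hu, rfl⟩; exact hts u hu
      · rw [← (Submodule.equivMapOfInjective C.subtype C.injective_subtype U).finrank_eq, hdim]
    · rintro ⟨U, hU, hts, hdim⟩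
      refine ⟨U.comap C.subtype, le_top, fun u hu => hts _ hu, ?_⟩
      rw [(Submodule.comapSubtypeEquivOfLe hU).finrank_eq, finrank_top, hdim]
  rcases hroom with h | ⟨h, ht⟩
  · exact Or.inl h
  · exact Or.inr ⟨h, hplus.trans ht⟩

end Cfsg.Lib.OrthEl
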