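import Cfsg.Agent.Classical.OrthElusive.Models
import Cfsg.Agent.Classical.OrthElusive.Count

/-!
# Invariant members of a class of nondegenerate subspaces
-/

set_option autoImplicit false
set_option linter.unusedSectionVars false

open QuadraticMap Submodule Cfsg.Lib.FormNormal Polynomial
open Cfsg.Lib.Classical.PrimeOrd (Inv fix mov mem_fix isCompl_fix_mov)
open Cfsg.Lib.PrimeOrderPoly (factorSet card_factorSet)

namespace Cfsg.Lib.OrthEl

universe u v

variable {F : Type u} [Field F] [Fintype F] {V : Type v} [AddCommGroup V] [Module F V] [FiniteDimensional F V]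
  {Q : QuadraticForm F V} {r : ℕ} {x : Module.End F V}

/-- Plus type of a fixed-point-free space made of `j` pieces. -/
def Sgn (i j : ℕ) : Prop := ¬ Even i ∨ Even j

/-- The criterion for nondegenerate classes. -/
def Cond (i c m n : ℕ) (pV pW : Prop) : Prop :=
  (n % c = 0 ∧ (¬ (pV ↔ Sgn i (n / c)) ∨ (m % c = 0 ∧ (pW ↔ Sgn i (m / c))))) ∨
  (0 < n % c ∧ ((m % c < n % c ∧ (0 < m % c ∨ (pW ↔ Sgn i (m / c)))) ∨
    (m % c = n % c ∧ Even m ∧ (pW ↔ ((pV ↔ Sgn i (n / c)) ↔ Sgn i (m / c))))))

/-- Both types occur below the full dimension. -/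
theorem exists_type {W : Submodule F V} (hW : ND Q W) {a : ℕ} (ha : Even a) (h0 : 0 < a)
    (h : a < Module.finrank F W) (b : Prop) :
    ∃ R ≤ W, ND Q R ∧ Module.finrank F R = a ∧ (Plus Q R ↔ b) := by
  have hbd := idx_bounds hW
  obtain ⟨k, rfl⟩ := ha
  by_cases hb : b
  · obtain ⟨H, hH, hHn, hHd, hHp⟩ := exists_pairs hW (k := k) (by omega)
    exact ⟨H, hH, hHn, by omega, iff_of_true hHp hb⟩
  obtain ⟨H, hH, hHn, hHd, hHp⟩ := exists_pairs hW (k := k - 1) (by omega)
  have hS := finrank_perp hW hH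
  obtain ⟨-, hSn⟩ := sup_perp hW hH hHn
  obtain ⟨ζ, hζ⟩ : ∃ ζ : F, ∀ t : F, t ^ 2 + t + ζ ≠ 0 := by
    by_contra hh
    push Not at hh
    have hsur : Function.Surjective fun t : F => t ^ 2 + t := fun z => by
      obtain ⟨t, ht⟩ := hh (-z); exact ⟨t, by linear_combination ht⟩
    have hinj := (Finite.injective_iff_surjective.2 hsur)
      (show (fun t : F => t ^ 2 + t) 0 = (fun t : F => t ^ 2 + t) (-1) by simp)
    exact one_ne_zero (neg_eq_zero.1 hinj.symm)
  obtain ⟨u, w, hu, hw, hQu, huw, hQw⟩ := exists_plane_in hSn (by omega) ζ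
  set P₂ := span F ({u, w} : Set V)
  have hdet : ∀ α β : F, α * 2 + β = 0 → α + β * (2 * ζ) = 0 → α = 0 ∧ β = 0 := by
    intro α β e1 e2
    have h4 : (4 * ζ - 1) ≠ 0 := (exists_shift hζ hζ).1
    have hα : α * (4 * ζ - 1) = 0 := by linear_combination (2 * ζ) * e1 - e2
    have hα0 := (mul_eq_zero.1 hα).resolve_right h4
    exact ⟨hα0, by rw [hα0, zero_mul, zero_add] at e1; exact e1⟩
  have hpu : polar (⇑Q) u u = 2 := by rw [FormNormal.polar_self', hQu, mul_one]
  have hpw : polar (⇑Q) w w = 2 * ζ := by rw [FormNormal.polar_self', hQw]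
  have hwu : polar (⇑Q) w u = 1 := by rw [QuadraticMap.polar_comm]; exact huw
  have hP₂n : ND Q P₂ := by
    intro z hz hp
    obtain ⟨α, β, rfl⟩ := mem_span_pair.1 hz
    have e1 := hp u (subset_span (by simp))
    have e2 := hp w (subset_span (by simp))
    simp only [QuadraticMap.polar_add_left, QuadraticMap.polar_smul_left, smul_eq_mul, hpu, hpw, hwu, huw,
      mul_one] at e1 e2
    obtain ⟨rfl, rfl⟩ := hdet α β e1 e2
    simp
  have hP₂d : Module.finrank F P₂ = 2 := by
    have hli : LinearIndependent F ![u, w] := by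
      rw [LinearIndependent.pair_iff]
      intro α β e
      have e1 := congrArg (fun z => polar (⇑Q) z u) e
      have e2 := congrArg (fun z => polar (⇑Q) z w) e
      simp only [QuadraticMap.polar_add_left, QuadraticMap.polar_smul_left, smul_eq_mul, hpu, hpw, hwu, huw,
        mul_one, QuadraticMap.polar_zero_left] at e1 e2
      exact hdet α β e1 e2
    have := finrank_span_eq_card hli
    rw [Matrix.range_cons_cons_empty] at this
    simpa using this
  have hP₂p : ¬ Plus Q P₂ := by
    rintro ⟨U, hU, hts, hd⟩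
    obtain ⟨z, hz, hz0⟩ := U.exists_mem_ne_zero_of_ne_bot (fun e => by rw [e, finrank_bot] at hd; omega)
    obtain ⟨α, β, rfl⟩ := mem_span_pair.1 (hU hz)
    have hQ0 := hts _ hz
    rw [QuadraticMap.map_add (f := Q), QuadraticMap.map_smul, QuadraticMap.map_smul, QuadraticMap.polar_smul_left,
      QuadraticMap.polar_smul_right, hQu, hQw, huw] at hQ0
    simp only [smul_eq_mul] at hQ0
    by_cases hβ : β = 0
    · subst hβ
      rw [zero_smul, add_zero] at hz0
      exact hz0 (by rw [mul_self_eq_zero.1 (show α * α = 0 by linear_combination hQ0), zero_smul])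
    · exact hζ (α / β) (by field_simp; linear_combination hQ0)
  have hle : P₂ ≤ perp Q W H := span_le.2 (by rintro z (rfl | rfl); exacts [hu, hw])
  have hor : Orth Q H P₂ := (orth_perp _ _).mono le_rfl hle
  refine ⟨H ⊔ P₂, sup_le hH (hle.trans (perp_le _ _)), nd_sup hHn hP₂n hor, ?_,
    iff_of_false (not_plus_sup hHn hP₂n hor hHp hP₂p) hb⟩
  rw [finrank_sup_orth hHn hor]; omega

variable {p : ℕ} [Fact p.Prime] [CharP F p] [Fact r.Prime]

include p in
/-- Fixed-point-free spaces have pieces of every size. -/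
theorem exists_sub (hx : RIsom Q r x) (hr2 : r ≠ 2) (hrp : r ≠ p) {i c : ℕ}
    (hi : i = orderOf (Fintype.card F : ZMod r)) (hc : c = if Even i then i else 2 * i) :
    ∀ (j' : ℕ) (E : Submodule F V), Fpf Q x E → c * j' ≤ Module.finrank F E →
      ∃ E' ≤ E, Fpf Q x E' ∧ Module.finrank F E' = c * j' := by
  subst hi
  intro j'
  induction j' with
  | zero =>
    exact fun E hE _ => ⟨⊥, bot_le, hE.mono bot_le nd_bot fun w hw => by
      rw [(Submodule.mem_bot F).1 hw, map_zero]; exact Submodule.zero_mem _, by simp⟩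
  | succ j ih =>
    intro E hE hd
    rw [Nat.mul_succ] at hd
    have hc0 : 0 < c := by
      have := Cfsg.Lib.Classical.PrimeOrd.ord_pos (F := F) (r := r)
        (Cfsg.Lib.Classical.PrimeOrd.not_dvd_card (p := p) Fact.out hrp)
      rw [hc]; split_ifs <;> omega
    obtain ⟨A, hA, hAf, hAd, -, -⟩ := exists_atom (p := p) hx hr2 hrp hE fun e => by
      rw [e, finrank_bot] at hd; omega
    rw [← hc] at hAd
    obtain ⟨-, hn⟩ := sup_perp hE.nd hA hAf.nd
    have hB : Fpf Q x (perp Q E A) := hE.mono (perp_le E A) hn (hx.inv_perp r_pos hE.inv hAf.inv)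
    obtain ⟨E', hE', hE'f, hE'd⟩ := ih _ hB (by have := finrank_perp hE.nd hA; omega)
    have hor : Orth Q A E' := (orth_perp E A).mono le_rfl hE'
    refine ⟨A ⊔ E', sup_le hA (hE'.trans (perp_le E A)), hE.mono (sup_le hA (hE'.trans (perp_le E A)))
      (nd_sup hAf.nd hE'f.nd hor) (hAf.inv.sup hE'f.inv), ?_⟩
    rw [finrank_sup_orth hAf.nd hor, hAd, hE'd, Nat.mul_succ]; omega

include p in
theorem c_facts (hrp : r ≠ p) {i c : ℕ} (hi : i = orderOf (Fintype.card F : ZMod r))
    (hc : c = if Even i then i else 2 * i) : Even c ∧ 0 < c ∧ 0 < i := by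
  have := Cfsg.Lib.Classical.PrimeOrd.ord_pos (F := F) (r := r)
    (Cfsg.Lib.Classical.PrimeOrd.not_dvd_card (p := p) Fact.out hrp)
  subst hi
  rw [hc]
  split_ifs with he
  exacts [⟨he, this, this⟩, ⟨even_two_mul _, by omega, this⟩]

include p in
/-- Assemble an invariant member from a moved piece and a fixed piece. -/
theorem exists_member (hx : RIsom Q r x) (hr2 : r ≠ 2) (hrp : r ≠ p) (hQ : ND Q (⊤ : Submodule F V)) {i c : ℕ}
    (hi : i = orderOf (Fintype.card F : ZMod r)) (hc : c = if Even i then i else 2 * i) {W₀ : Submodule F V}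
    (hW₀ : ND Q W₀) {j' : ℕ} (hj : c * j' ≤ Module.finrank F (mov x)) (hm : c * j' ≤ Module.finrank F W₀)
    (h : (Module.finrank F W₀ = c * j' ∧ (Plus Q W₀ ↔ Sgn i j')) ∨
      (c * j' < Module.finrank F W₀ ∧ Module.finrank F W₀ - c * j' < Module.finrank F (fix x)) ∨
      (Module.finrank F W₀ - c * j' = Module.finrank F (fix x) ∧ Even (Module.finrank F W₀) ∧
        (Plus Q W₀ ↔ (Plus Q (fix x) ↔ Sgn i j')))) :
    ∃ W, Iso Q W₀ W ∧ Inv x W := by
  obtain ⟨hce, hc0, -⟩ := c_facts (p := p) (F := F) hrp hi hc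
  obtain ⟨hfn, hmf⟩ := hx.nd_fix (r_cast_ne (p := p) hrp) hQ
  obtain ⟨E, hE, hEf, hEd⟩ := exists_sub (p := p) hx hr2 hrp hi hc j' _ hmf hj
  obtain ⟨j, hjd, -, hjp⟩ := fpf_dim (p := p) hx hr2 hrp hEf hi hc
  have hjj : j = j' := Nat.eq_of_mul_eq_mul_left hc0 (hjd.symm.trans hEd)
  subst hjj
  have hEe : Even (Module.finrank F E) := hEd ▸ hce.mul_right j
  rcases h with ⟨h1, h2⟩ | ⟨h1, h2⟩ | ⟨h1, h2, h3⟩
  · exact ⟨E, iso_of_plus hW₀ hEf.nd (h1.trans hEd.symm) (h1 ▸ hce.mul_right j) (h2.trans hjp.symm), hEf.inv⟩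
  · obtain ⟨E'', hE'', hiso, hn''⟩ := exists_iso_in hEf.nd hW₀ (by omega)
    obtain ⟨hsup, hRn⟩ := sup_perp hW₀ hE'' hn''
    have hRd : Module.finrank F (perp Q W₀ E'') = Module.finrank F W₀ - c * j := by
      have := finrank_perp hW₀ hE''; have := hiso.finrank; omega
    obtain ⟨R', hR', hRiso, -⟩ := exists_iso_in hRn hfn (by omega)
    have hor : Orth Q E R' := hx.fix_orth_mov.symm.mono hE hR'
    refine ⟨E ⊔ R', ?_, hEf.inv.sup fun w hw => by rw [mem_fix.1 (hR' hw)]; exact hw⟩
    conv_lhs => rw [← hsup]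
    exact hiso.symm.sup hRiso hn'' (orth_perp W₀ E'') hor
  · have hor : Orth Q E (fix x) := hx.fix_orth_mov.symm.mono hE le_rfl
    have hfe : Even (Module.finrank F (fix x)) := h1 ▸ (Nat.even_sub hm).2 (iff_of_true h2 (hce.mul_right j))
    refine ⟨E ⊔ fix x, iso_of_plus hW₀ (nd_sup hEf.nd hfn hor) ?_ h2 ?_,
      hEf.inv.sup fun w hw => by rw [mem_fix.1 hw]; exact hw⟩
    · rw [finrank_sup_orth hEf.nd hor]; omega
    · rw [plus_sup_iff hEf.nd hfn hor hEe hfe, h3, hjp]
      exact iff_comm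

include p in
/-- The shape of an invariant member. -/
theorem member_shape (hx : RIsom Q r x) (hr2 : r ≠ 2) (hrp : r ≠ p) (hQ : ND Q (⊤ : Submodule F V)) {i c : ℕ}
    (hi : i = orderOf (Fintype.card F : ZMod r)) (hc : c = if Even i then i else 2 * i) {W₀ W : Submodule F V}
    (hW₀ : ND Q W₀) (hiso : Iso Q W₀ W) (hW : Inv x W) :
    ∃ j a, Module.finrank F W₀ = a + c * j ∧ a ≤ Module.finrank F (fix x) ∧ (j = 0 → W ≤ fix x) ∧
      (a = 0 → (Plus Q W₀ ↔ Sgn i j)) ∧
      (a = Module.finrank F (fix x) → Even a → (Plus Q W₀ ↔ (Plus Q (fix x) ↔ Sgn i j))) := by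
  obtain ⟨hce, hc0, -⟩ := c_facts (p := p) (F := F) hrp hi hc
  have hrc := r_cast_ne (p := p) (F := F) hrp
  have hWn := hiso.nd hW₀
  obtain ⟨hsup, han, hbn⟩ := hx.split hrc hW hWn
  have hEf : Fpf Q x (W ⊓ mov x) := ⟨hbn, hW.inf (hx.nd_fix hrc hQ).2.inv,
    eq_bot_iff.2 ((inf_le_inf_right _ inf_le_right).trans (hx.nd_fix hrc hQ).2.free.le)⟩
  obtain ⟨j, hj, -, hjp⟩ := fpf_dim (p := p) hx hr2 hrp hEf hi hc
  have hor : Orth Q (W ⊓ fix x) (W ⊓ mov x) := hx.fix_orth_mov.mono inf_le_right inf_le_right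
  have hdim : Module.finrank F W₀ = Module.finrank F ↥(W ⊓ fix x) + c * j := by
    rw [hiso.finrank, ← hj, ← finrank_sup_orth han hor, hsup]
  have hp : Plus Q W₀ ↔ Plus Q W := ⟨hiso.plus, hiso.symm.plus⟩
  refine ⟨j, _, hdim, Submodule.finrank_mono inf_le_right, fun h0 => ?_, fun ha => ?_, fun ha hae => ?_⟩
  · have : W ⊓ mov x = ⊥ := Submodule.finrank_eq_zero.1 (by rw [hj, h0, mul_zero])
    rw [← hsup, this, sup_bot_eq]
    exact inf_le_right
  · have : W ⊓ fix x = ⊥ := Submodule.finrank_eq_zero.1 ha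
    unfold Sgn
    rw [hp, ← hjp, show W ⊓ mov x = W by conv_rhs => rw [← hsup, this, bot_sup_eq]]
  · have e : W ⊓ fix x = fix x := Submodule.eq_of_le_of_finrank_eq inf_le_right ha
    rw [hp, ← hsup, plus_sup_iff han hbn hor hae (hj ▸ hce.mul_right j), hjp, e]
    rfl

include p in
/-- The fixed space against the whole space. -/
theorem fix_type (hx : RIsom Q r x) (hr2 : r ≠ 2) (hrp : r ≠ p) (hQ : ND Q (⊤ : Submodule F V)) {i c : ℕ}
    (hi : i = orderOf (Fintype.card F : ZMod r)) (hc : c = if Even i then i else 2 * i) :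
    ∃ j, Module.finrank F (mov x) = c * j ∧ Module.finrank F (fix x) + c * j = Module.finrank F V ∧
      (Even (Module.finrank F V) → (Plus Q (fix x) ↔ (Plus Q (⊤ : Submodule F V) ↔ Sgn i j))) ∧
      (Even (Module.finrank F V) → Module.finrank F (fix x) = 0 → (Plus Q (⊤ : Submodule F V) ↔ Sgn i j)) := by
  obtain ⟨hce, -, -⟩ := c_facts (p := p) (F := F) hrp hi hc
  have hrc := r_cast_ne (p := p) (F := F) hrp
  obtain ⟨-, hmf⟩ := hx.nd_fix hrc hQ
  obtain ⟨j, hj, hje, hjp⟩ := fpf_dim (p := p) hx hr2 hrp hmf hi hc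
  have hsum := Submodule.finrank_add_eq_of_isCompl (isCompl_fix_mov hrc hx.pow)
  rw [hj] at hsum
  refine ⟨j, hj, hsum, fun hn => ?_, fun hn h0 => ?_⟩
  · have h := plus_fix hx hrc hQ hn hje
    rw [hjp] at h
    show _ ↔ (_ ↔ (¬ Even i ∨ Even j))
    tauto
  · have h := plus_fix hx hrc hQ hn hje
    rw [hjp, show Plus Q (fix x) ↔ True from iff_true_intro (by rw [Submodule.finrank_eq_zero.1 h0]; exact plus_bot)] at h
    show _ ↔ (¬ Even i ∨ Even j)
    tauto

set_option maxHeartbeats 1000000 in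
include p in
/-- The criterion. -/
theorem nondeg_criterion (hr2 : r ≠ 2) (hrp : r ≠ p) (hQ : ND Q (⊤ : Submodule F V)) {i c : ℕ}
    (hi : i = orderOf (Fintype.card F : ZMod r)) (hc : c = if Even i then i else 2 * i) {W₀ : Submodule F V}
    (hW₀ : ND Q W₀) {m n : ℕ} (hm : Module.finrank F W₀ = m) (hn : Module.finrank F V = n) (hm0 : 0 < m) (hmn : m < n)
    (hpar : Even m ∨ Even n) :
    ((∀ x : Module.End F V, RIsom Q r x → ∃ W, Iso Q W₀ W ∧ Inv x W) ↔
      Cond i c m n (Plus Q (⊤ : Submodule F V)) (Plus Q W₀)) ∧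
    ((∀ x : Module.End F V, RIsom Q r x → ∃ W, Iso Q W₀ W ∧ Inv x W) →
      r ∣ Nat.card {W : Submodule F V // Iso Q W₀ W} → c ≤ m) := by
  classical
  obtain ⟨hce, hc0, hi0⟩ := c_facts (p := p) (F := F) hrp hi hc
  have hparity : ∀ t, (c * t) % 2 = 0 := fun t => Nat.even_iff.1 (hce.mul_right t)
  have hce2 := Nat.even_iff.1 hce
  have hn' := Nat.div_add_mod n c
  have hm' := Nat.div_add_mod m c
  have hnk := Nat.mod_lt n hc0
  have hml := Nat.mod_lt m hc0
  constructor
  · constructor
    · -- the worst element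
      intro hall
      obtain ⟨g, hg⟩ : (factorSet F r).Nonempty := by
        rw [← Finset.card_pos]
        refine Nat.pos_of_ne_zero fun e => ?_
        have := card_factorSet (F := F) (p := p) (r := r) hrp
        rw [e, zero_mul] at this
        have := (Fact.out : r.Prime).two_le
        omega
      obtain ⟨J, hJ, hroom⟩ : ∃ J, ((n % c = 0 ∧ ¬ (Plus Q (⊤ : Submodule F V) ↔ Sgn i (n / c)) ∧ J + 1 = n / c) ∨
          (¬ (n % c = 0 ∧ ¬ (Plus Q (⊤ : Submodule F V) ↔ Sgn i (n / c))) ∧ J = n / c)) ∧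
          (c * J < n ∨ (c * J = n ∧ (Plus Q (⊤ : Submodule F V) ↔ (¬ Even i ∨ Even J)))) := by
        by_cases hw : n % c = 0 ∧ ¬ (Plus Q (⊤ : Submodule F V) ↔ Sgn i (n / c))
        · obtain ⟨J, hJ⟩ : ∃ J, J + 1 = n / c := ⟨n / c - 1, by
            rcases Nat.eq_zero_or_pos (n / c) with e | e
            · rw [e, mul_zero] at hn'; omega
            · omega⟩
          refine ⟨J, Or.inl ⟨hw.1, hw.2, hJ⟩, Or.inl ?_⟩
          rw [← hJ, Nat.mul_succ] at hn'
          omega
        · refine ⟨n / c, Or.inr ⟨hw, rfl⟩, ?_⟩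
          by_cases hk : n % c = 0
          · exact Or.inr ⟨by omega, not_not.1 fun h => hw ⟨hk, h⟩⟩
          · exact Or.inl (by omega)
      obtain ⟨x, hx, hxd, -⟩ := exists_isom (p := p) hr2 hrp hQ hi hc (Multiset.replicate J g)
        (fun g' hg' => Multiset.eq_of_mem_replicate hg' ▸ hg) (by rw [Multiset.card_replicate, hn]; exact hroom)
      rw [Multiset.card_replicate] at hxd
      obtain ⟨j, hj, hjs, hjt, -⟩ := fix_type (p := p) hx hr2 hrp hQ hi hc
      have hjJ : j = J := Nat.eq_of_mul_eq_mul_left hc0 (hj.symm.trans hxd)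
      subst hjJ
      obtain ⟨W, hiso, hW⟩ := hall x hx
      obtain ⟨j', a, ha, hab, -, ha0, haC⟩ := member_shape (p := p) hx hr2 hrp hQ hi hc hW₀ hiso hW
      rw [hm] at ha
      rw [hn] at hjs hjt
      rcases hJ with ⟨hk, hw, -⟩ | ⟨hw, hJ⟩
      · exact Or.inl ⟨hk, Or.inl hw⟩
      subst hJ
      have hb : Module.finrank F (fix x) = n % c := by omega
      have hal : a < c := by omega
      obtain ⟨hq, hr'⟩ : j' = m / c ∧ a = m % c := by
        have h1 : m / c = j' := by
          rw [ha, Nat.add_mul_div_left _ _ hc0, Nat.div_eq_of_lt hal, zero_add]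
        exact ⟨h1.symm, by rw [h1] at hm'; omega⟩
      subst hq
      rcases Nat.eq_zero_or_pos (n % c) with hk | hk
      · exact Or.inl ⟨hk, Or.inr ⟨by omega, ha0 (by omega)⟩⟩
      refine Or.inr ⟨hk, ?_⟩
      rcases Nat.lt_or_ge (m % c) (n % c) with hlt | hge
      · refine Or.inl ⟨hlt, ?_⟩
        rcases Nat.eq_zero_or_pos (m % c) with h0 | h0
        · exact Or.inr (ha0 (by omega))
        · exact Or.inl h0
      · have hp1 := hparity (m / c)
        have hp2 := hparity (n / c)
        have hev : Even m ∧ Even n := by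
          rw [Nat.even_iff, Nat.even_iff] at hpar ⊢
          omega
        have hae : Even a := Nat.even_iff.2 (by have := Nat.even_iff.1 hev.1; omega)
        refine Or.inr ⟨by omega, hev.1, ?_⟩
        rw [haC (by omega) hae, hjt hev.2]
    · intro hcond x hx
      obtain ⟨j, hj, hjs, hjt, hjt0⟩ := fix_type (p := p) hx hr2 hrp hQ hi hc
      rw [hn] at hjs hjt hjt0
      rcases Nat.lt_or_ge j (m / c) with hlt | hge
      · have h1 : c * (j + 1) ≤ c * (m / c) := Nat.mul_le_mul_left c hlt
        rw [Nat.mul_succ] at h1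
        exact exists_member (p := p) hx hr2 hrp hQ hi hc hW₀ (j' := j) (by omega) (by omega)
          (Or.inr (Or.inl ⟨by omega, by omega⟩))
      have h1 : c * (m / c) ≤ c * j := Nat.mul_le_mul_left c hge
      have hjn : j ≤ n / c := (Nat.le_div_iff_mul_le hc0).2 (by rw [mul_comm]; omega)
      have h2 : c * j ≤ c * (n / c) := Nat.mul_le_mul_left c hjn
      have h3 : j = n / c ∨ c * j + c ≤ c * (n / c) := by
        rcases eq_or_lt_of_le hjn with h | h
        · exact Or.inl h
        · exact Or.inr (by have := Nat.mul_le_mul_left c h; rw [Nat.mul_succ] at this; exact this)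
      have h4 : c * j = c * (n / c) ∨ c * j + c ≤ c * (n / c) := h3.imp_left fun e => by rw [e]
      have mk := exists_member (p := p) hx hr2 hrp hQ hi hc hW₀ (j' := m / c) (by omega) (by omega)
      rw [hm] at mk
      rcases hcond with ⟨hk, hor⟩ | ⟨hk, hor⟩
      · -- `c` divides the dimension
        have hevn : Even n := Nat.even_iff.2 (by have := hparity (n / c); omega)
        by_cases hl : m % c = 0
        · by_cases hpW : Plus Q W₀ ↔ Sgn i (m / c)
          · exact mk (Or.inl ⟨by omega, hpW⟩)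
          have hw : ¬ (Plus Q (⊤ : Submodule F V) ↔ Sgn i (n / c)) := hor.resolve_right fun h => hpW h.2
          obtain ⟨t, ht⟩ : ∃ t, m / c = t + 1 := ⟨m / c - 1, by
            rcases Nat.eq_zero_or_pos (m / c) with e | e
            · rw [e, mul_zero] at hm'; omega
            · omega⟩
          rw [ht, Nat.mul_succ] at hm' h1
          have hbpos : 0 < Module.finrank F (fix x) := by
            refine Nat.pos_of_ne_zero fun e => hw ?_
            have hjn' : j = n / c := h3.resolve_right (by omega)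
            rw [← hjn']
            exact hjt0 hevn e
          have hbc : c ≤ Module.finrank F (fix x) := by omega
          refine exists_member (p := p) hx hr2 hrp hQ hi hc hW₀ (j' := t) (by omega) (by omega) ?_
          rw [hm]
          rcases eq_or_lt_of_le hbc with hb | hb
          · refine Or.inr (Or.inr ⟨by omega, Nat.even_iff.2 (by have := hparity t; omega), ?_⟩)
            have hjn' : n / c = j + 1 := by
              refine Nat.eq_of_mul_eq_mul_left hc0 ?_
              rw [Nat.mul_succ]; omega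
            rw [hjn'] at hw
            rw [hjt hevn]
            rw [ht] at hpW
            clear * - hw hpW
            simp only [Sgn, Nat.even_add_one] at hw hpW ⊢
            tauto
          · exact Or.inr (Or.inl ⟨by omega, by omega⟩)
        · have hw : ¬ (Plus Q (⊤ : Submodule F V) ↔ Sgn i (n / c)) := hor.resolve_right fun h => hl h.1
          have hbpos : 0 < Module.finrank F (fix x) := by
            refine Nat.pos_of_ne_zero fun e => hw ?_
            have hjn' : j = n / c := h3.resolve_right (by omega)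
            rw [← hjn']
            exact hjt0 hevn e
          exact mk (Or.inr (Or.inl ⟨by omega, by omega⟩))
      · rcases hor with ⟨hlt, ht⟩ | ⟨heq, hme, ht⟩
        · rcases Nat.eq_zero_or_pos (m % c) with h0 | h0
          · exact mk (Or.inl ⟨by omega, ht.resolve_left (by omega)⟩)
          · exact mk (Or.inr (Or.inl ⟨by omega, by omega⟩))
        · rcases h3 with rfl | h3
          · have hevn : Even n := Nat.even_iff.2 (by
              have := hparity (n / c); have := hparity (m / c); have := Nat.even_iff.1 hme; omega)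
            refine mk (Or.inr (Or.inr ⟨by omega, hme, ?_⟩))
            rw [hjt hevn]
            exact ht
          · exact mk (Or.inr (Or.inl ⟨by omega, by omega⟩))
  · -- classes inside a fixed space
    intro hall hdvd
    by_contra hlt
    push Not at hlt
    obtain ⟨g, hg⟩ : (factorSet F r).Nonempty := by
      rw [← Finset.card_pos]
      refine Nat.pos_of_ne_zero fun e => ?_
      have := card_factorSet (F := F) (p := p) (r := r) hrp
      rw [e, zero_mul] at this
      have := (Fact.out : r.Prime).two_le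
      omega
    obtain ⟨J, hroom, hmax⟩ : ∃ J, (c * J < n ∨ (c * J = n ∧ (Plus Q (⊤ : Submodule F V) ↔ (¬ Even i ∨ Even J)))) ∧
        (n - c * J < c ∨ (n - c * J = c ∧ ¬ (Plus Q (⊤ : Submodule F V) ↔ Sgn i (J + 1)) ∧ Even n)) := by
      by_cases hk : n % c = 0
      · have hevn : Even n := Nat.even_iff.2 (by have := hparity (n / c); omega)
        by_cases hw : Plus Q (⊤ : Submodule F V) ↔ Sgn i (n / c)
        · exact ⟨n / c, Or.inr ⟨by omega, hw⟩, Or.inl (by omega)⟩
        · obtain ⟨J, hJ⟩ : ∃ J, n / c = J + 1 := ⟨n / c - 1, by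
            rcases Nat.eq_zero_or_pos (n / c) with e | e
            · rw [e, mul_zero] at hn'; omega
            · omega⟩
          rw [hJ, Nat.mul_succ] at hn'
          rw [hJ] at hw
          exact ⟨J, Or.inl (by omega), Or.inr ⟨by omega, hw, hevn⟩⟩
      · exact ⟨n / c, Or.inl (by omega), Or.inl (by omega)⟩
    obtain ⟨x, hx, hxd, -⟩ := exists_isom (p := p) hr2 hrp hQ hi hc (Multiset.replicate J g)
      (fun g' hg' => Multiset.eq_of_mem_replicate hg' ▸ hg) (by rw [Multiset.card_replicate, hn]; exact hroom)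
    rw [Multiset.card_replicate] at hxd
    obtain ⟨j, hj, hjs, hjt, -⟩ := fix_type (p := p) hx hr2 hrp hQ hi hc
    have hjJ : j = J := Nat.eq_of_mul_eq_mul_left hc0 (hj.symm.trans hxd)
    subst hjJ
    rw [hn] at hjs hjt
    refine not_dvd_of_small (p := p) hr2 hrp hQ hi hc hx W₀ (fun W hiso hW => ?_) ?_ ?_ hdvd
    · obtain ⟨j', a, ha, -, hsmall, -, -⟩ := member_shape (p := p) hx hr2 hrp hQ hi hc hW₀ hiso hW
      refine hsmall (Nat.eq_zero_of_not_pos fun h0 => ?_)
      have := Nat.le_mul_of_pos_right c h0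
      omega
    · rcases hmax with h | ⟨h, hw, hevn⟩
      · exact Or.inl (by omega)
      · refine Or.inr ⟨by omega, ?_⟩
        rw [hjt hevn]
        simp only [Sgn, Nat.even_add_one] at hw ⊢
        tauto
    · exact hall x hx

end Cfsg.Lib.OrthEl
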