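import Cfsg.Prelude.Def_GeometricClasses
import Cfsg.Agent.Classical.Misc.Spinor
import Cfsg.Agent.Classical.Orth.FamilyOvergroups
import Cfsg.Agent.Classical.Orth.StdForms
import Cfsg.Agent.Classical.OrthElusive.Nondeg

/-!
# From elements of `Ω` as matrices to isometries of odd prime order
-/

set_option autoImplicit false
set_option linter.unusedSectionVars false

open QuadraticMap Submodule Cfsg.Lib.FormNormal
open Cfsg.Lib.Classical.PrimeOrd (Inv)

namespace Cfsg.Lib.OrthEl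

universe u

variable {F : Type u} [Field F] [Fintype F] {ι : Type} [Fintype ι] [DecidableEq ι]
  {Q : QuadraticForm F (ι → F)}

theorem nd_top_of_nondeg (hQ : (polarBilin Q).Nondegenerate) : ND Q (⊤ : Submodule F (ι → F)) :=
  nd_top Q hQ

theorem isND_iff {W : Submodule F (ι → F)} : Cfsg.Geo.IsNondegenerateOn (polar (⇑Q)) W ↔ ND Q W := by
  refine ⟨fun h x hx hp => ?_, fun h w hw hw0 => ?_⟩
  · by_contra h0
    obtain ⟨-, y, hy, hne⟩ := h x hx h0
    exact hne (hp y hy)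
  · obtain ⟨y, hy, hne⟩ : ∃ y ∈ W, polar (⇑Q) w y ≠ 0 := by
      by_contra hh
      push Not at hh
      exact hw0 (h w hw hh)
    exact ⟨⟨y, hy, by rwa [QuadraticMap.polar_comm]⟩, y, hy, hne⟩

theorem isPlus_iff {W : Submodule F (ι → F)} : Cfsg.Geo.IsPlusTypeOn (⇑Q) W ↔ Plus Q W := Iff.rfl

theorem polar_nd_iff {W : Submodule F (ι → F)} :
    (∀ u ∈ W, u ≠ 0 → ∃ v ∈ W, polar (⇑Q) u v ≠ 0) ↔ ND Q W := by
  refine ⟨fun h x hx hp => ?_, fun h w hw hw0 => ?_⟩
  · by_contra h0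
    obtain ⟨y, hy, hne⟩ := h x hx h0
    exact hne (hp y hy)
  · by_contra hh
    push Not at hh
    exact hw0 (h w hw hh)

/-- An even class. -/
theorem class_iff {W₀ W : Submodule F (ι → F)} (hW₀ : ND Q W₀) {m : ℕ} (hm : Module.finrank F W₀ = m) (hme : Even m) :
    (Module.finrank F W = m ∧ ND Q W ∧ (Plus Q W ↔ Plus Q W₀)) ↔ Iso Q W₀ W :=
  ⟨fun ⟨h1, h2, h3⟩ => iso_of_plus hW₀ h2 (hm.trans h1.symm) (hm ▸ hme) h3.symm,
    fun h => ⟨h.finrank.symm.trans hm, h.nd hW₀, ⟨h.symm.plus, h.plus⟩⟩⟩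

theorem iso_iff_are {W₀ W : Submodule F (ι → F)} (hW₀ : ND Q W₀) {m : ℕ} (hm : Module.finrank F W₀ = m) :
    (Module.finrank F W = m ∧ ND Q W ∧ Cfsg.Geo.AreIsometricFor (⇑Q) W W₀) ↔ Iso Q W₀ W :=
  ⟨fun h => (show Iso Q W W₀ from h.2.2).symm, fun h => ⟨h.finrank.symm.trans hm, h.nd hW₀, h.symm⟩⟩

theorem pow_toLin' (M : Matrix ι ι F) : ∀ j : ℕ, Matrix.toLin' (M ^ j) = (Matrix.toLin' M : Module.End F (ι → F)) ^ j
  | 0 => by rw [pow_zero, pow_zero, Matrix.toLin'_one]; rfl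
  | j + 1 => by rw [pow_succ, pow_succ, Matrix.toLin'_mul, pow_toLin' M j]; rfl

/-- Odd order isometries lie in `Ω`. -/
theorem mem_omega_odd_order (hQ : (polarBilin Q).Nondegenerate) (hn : 6 ≤ Fintype.card ι) (x : GL ι F)
    (hx : ∀ v, Q ((x : Matrix ι ι F).mulVec v) = Q v) {r : ℕ} (hr : Odd r) (hxr : x ^ r = 1) :
    x ∈ Cfsg.Geo.omegaGL (⇑Q) := by
  classical
  let g : Cfsg.isometryGroup F (⇑Q) := ⟨x, (Cfsg.Lib.Classical.Refl.mem_iff Q).mpr hx⟩
  refine (Cfsg.Lib.Classical.Refl.mem_omegaGL Q x).mpr ⟨g, ?_, rfl⟩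
  have hgr : g ^ r = 1 := Subtype.ext (by simp [g, hxr])
  haveI : (Cfsg.Omega F (⇑Q)).Normal := inferInstanceAs (commutator _).Normal
  have key : ∀ j : ℕ, (Cfsg.Omega F (⇑Q)).index = 2 ^ j → g ∈ Cfsg.Omega F (⇑Q) := fun j hj => by
    have h := Subgroup.pow_index_mem (Cfsg.Omega F (⇑Q)) g
    rw [hj] at h
    have hco : Nat.Coprime r (2 ^ j) := Nat.Coprime.pow_right j (Nat.coprime_two_right.2 hr)
    obtain ⟨a, b, hab⟩ := Nat.isCoprime_iff_coprime.2 hco
    have : g = (g ^ r) ^ a * (g ^ (2 ^ j)) ^ b := by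
      rw [← zpow_natCast, ← zpow_natCast, ← zpow_mul, ← zpow_mul, ← zpow_add, mul_comm, mul_comm _ b, hab, zpow_one]
    rw [this, hgr, one_zpow, one_mul]
    exact Subgroup.zpow_mem _ h _
  by_cases h2 : (2 : F) = 0
  · haveI : CharP F 2 := CharTwo.of_one_ne_zero_of_two_eq_zero one_ne_zero h2
    exact key 1 (Cfsg.Lib.Classical.Refl.index_omega_two Q hQ (by omega) (Or.inr (by omega)))
  · exact key 2 (Cfsg.Lib.Classical.Refl.index_omega_odd Q h2 hQ (by omega))

theorem omega_isom {x : GL ι F} (hx : x ∈ Cfsg.Geo.omegaGL (⇑Q)) (v : ι → F) :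
    Q ((x : Matrix ι ι F).mulVec v) = Q v := by
  classical
  obtain ⟨g, -, rfl⟩ := (Cfsg.Lib.Classical.Refl.mem_omegaGL Q x).mp hx
  exact (Cfsg.Lib.Classical.Refl.mem_iff Q).mp g.2 v

theorem inv_of_map_le {M : Matrix ι ι F} {W : Submodule F (ι → F)} (h : W.map (Matrix.toLin' M) ≤ W) :
    Inv (Matrix.toLin' M : Module.End F (ι → F)) W := fun w hw => h ⟨w, hw, rfl⟩

theorem map_le_of_inv {M : Matrix ι ι F} {W : Submodule F (ι → F)}
    (h : Inv (Matrix.toLin' M : Module.End F (ι → F)) W) : W.map (Matrix.toLin' M) ≤ W := by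
  rintro _ ⟨w, hw, rfl⟩
  exact h w hw

variable {r : ℕ} [Fact r.Prime]

/-- The matrix of an isometry of order dividing `r`. -/
theorem exists_gl (hQ : (polarBilin Q).Nondegenerate) (hn : 6 ≤ Fintype.card ι) (hr2 : r ≠ 2)
    {x : Module.End F (ι → F)} (hx : RIsom Q r x) :
    ∃ X : GL ι F, X ∈ Cfsg.Geo.omegaGL (⇑Q) ∧ X ^ r = 1 ∧ Matrix.toLin' (X : Matrix ι ι F) = x := by
  have hr : r.Prime := Fact.out
  have hM : LinearMap.toMatrix' x ^ r = 1 := Matrix.toLin'.injective (by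
    rw [pow_toLin', Matrix.toLin'_toMatrix', hx.pow, Matrix.toLin'_one]; rfl)
  let X : GL ι F := Units.ofPowEqOne _ r hM hr.ne_zero
  have hX : Matrix.toLin' (X : Matrix ι ι F) = x := Matrix.toLin'_toMatrix' x
  have hXr : X ^ r = 1 := Units.ext (by rw [Units.val_pow_eq_pow_val]; exact hM)
  refine ⟨X, mem_omega_odd_order hQ hn X (fun v => ?_) (hr.odd_of_ne_two hr2) hXr, hXr, hX⟩
  rw [← Matrix.toLin'_apply, hX]
  exact hx.iso v

/-- Bridge for projective elements. -/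
theorem bridge_scalar (hQ : (polarBilin Q).Nondegenerate) (hn : 6 ≤ Fintype.card ι) (hr2 : r ≠ 2)
    (P : Submodule F (ι → F) → Prop) (hP : ∃ W, P W) :
    (∀ x : GL ι F, x ∈ Cfsg.Geo.omegaGL (⇑Q) →
      (∃ z : F, ((x ^ r : GL ι F) : Matrix ι ι F) = z • (1 : Matrix ι ι F)) →
      (∀ z : F, (x : Matrix ι ι F) ≠ z • (1 : Matrix ι ι F)) →
      ∃ W, P W ∧ W.map (Matrix.toLin' (x : Matrix ι ι F)) ≤ W) ↔
    ∀ x : Module.End F (ι → F), RIsom Q r x → ∃ W, P W ∧ Inv x W := by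
  have hr : r.Prime := Fact.out
  obtain ⟨W₁, hW₁⟩ := hP
  constructor
  · intro h x hx
    obtain ⟨X, hXΩ, hXr, hX⟩ := exists_gl hQ hn hr2 hx
    by_cases hs : ∀ z : F, (X : Matrix ι ι F) ≠ z • (1 : Matrix ι ι F)
    · obtain ⟨W, hW, hmap⟩ := h X hXΩ ⟨1, by rw [hXr, Units.val_one, one_smul]⟩ hs
      exact ⟨W, hW, hX ▸ inv_of_map_le hmap⟩
    · push Not at hs
      obtain ⟨z, hz⟩ := hs
      refine ⟨W₁, hW₁, fun w hw => ?_⟩
      rw [← hX, Matrix.toLin'_apply, hz, Matrix.smul_mulVec, Matrix.one_mulVec]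
      exact W₁.smul_mem z hw
  · rintro h X hXΩ ⟨z, hz⟩ -
    set M : Module.End F (ι → F) := Matrix.toLin' (X : Matrix ι ι F) with hM
    have hiso : ∀ v, Q (M v) = Q v := fun v => by rw [hM, Matrix.toLin'_apply]; exact omega_isom hXΩ v
    have hMr : ∀ v, (M ^ r) v = z • v := fun v => by
      rw [hM, ← pow_toLin', ← Units.val_pow_eq_pow_val, hz, Matrix.toLin'_apply, Matrix.smul_mulVec, Matrix.one_mulVec]
    obtain ⟨v, -, hv⟩ := exists_value Q ⊤ (nd_top_of_nondeg hQ) (by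
      rw [finrank_top, Module.finrank_fintype_fun_eq_card]; omega) 1 one_ne_zero
    have hpow : ∀ j : ℕ, ∀ w, Q ((M ^ j) w) = Q w := fun j => by
      induction j with
      | zero => intro w; simp
      | succ j ih => intro w; rw [pow_succ', Module.End.mul_apply, hiso, ih]
    have hz2 : z * z = 1 := by
      have := hpow r v
      rw [hMr, QuadraticMap.map_smul, hv, smul_eq_mul, mul_one] at this
      exact this
    have hx : RIsom Q r (z • M) := by
      refine ⟨fun w => ?_, LinearMap.ext fun w => ?_⟩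
      · rw [LinearMap.smul_apply, QuadraticMap.map_smul, hiso, smul_eq_mul, hz2, one_mul]
      · obtain ⟨k, hk⟩ := hr.odd_of_ne_two hr2
        rw [smul_pow, LinearMap.smul_apply, hMr, smul_smul, ← pow_succ, hk,
          show 2 * k + 1 + 1 = 2 * (k + 1) by ring, pow_mul, _root_.sq, hz2, one_pow, one_smul]
        rfl
    obtain ⟨W, hW, hinv⟩ := h _ hx
    refine ⟨W, hW, map_le_of_inv fun w hw => ?_⟩
    have := W.smul_mem z (hinv w hw)
    rwa [LinearMap.smul_apply, smul_smul, hz2, one_smul] at this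

/-- Bridge for elements of order `r`. -/
theorem bridge_order (hQ : (polarBilin Q).Nondegenerate) (hn : 6 ≤ Fintype.card ι) (hr2 : r ≠ 2)
    (P : Submodule F (ι → F) → Prop) (hP : ∃ W, P W) :
    (∀ x : GL ι F, x ∈ Cfsg.Geo.omegaGL (⇑Q) → orderOf x = r →
      ∃ W, P W ∧ W.map (Matrix.toLin' (x : Matrix ι ι F)) ≤ W) ↔
    ∀ x : Module.End F (ι → F), RIsom Q r x → ∃ W, P W ∧ Inv x W := by
  obtain ⟨W₁, hW₁⟩ := hP
  constructor
  · intro h x hx
    obtain ⟨X, hXΩ, hXr, hX⟩ := exists_gl hQ hn hr2 hx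
    by_cases h1 : X = 1
    · refine ⟨W₁, hW₁, fun w hw => ?_⟩
      rw [← hX, h1, Units.val_one, Matrix.toLin'_one]
      exact hw
    · obtain ⟨W, hW, hmap⟩ := h X hXΩ (orderOf_eq_prime hXr h1)
      exact ⟨W, hW, hX ▸ inv_of_map_le hmap⟩
  · intro h X hXΩ hord
    have hXr : X ^ r = 1 := hord ▸ pow_orderOf_eq_one X
    obtain ⟨W, hW, hinv⟩ := h (Matrix.toLin' (X : Matrix ι ι F))
      ⟨fun v => by rw [Matrix.toLin'_apply]; exact omega_isom hXΩ v, by
        rw [← pow_toLin', ← Units.val_pow_eq_pow_val, hXr, Units.val_one, Matrix.toLin'_one]; rfl⟩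
    exact ⟨W, hW, map_le_of_inv hinv⟩

/-- The type of the minus form. -/
theorem minus_not_plus (m : ℕ) {a b : F}
    (hab : ∀ z₁ z₂ : F, z₁ ^ 2 + a * z₁ * z₂ + b * z₂ ^ 2 = 0 → z₁ = 0 ∧ z₂ = 0) :
    ¬ Plus (Cfsg.Lib.Classical.Refl.minusForm m F a b) (⊤ : Submodule F ((Fin m ⊕ Fin m) ⊕ Fin 2 → F)) := by
  classical
  set R := Cfsg.Lib.Classical.Refl.minusForm m F a b with hR
  have hRn := nd_top_of_nondeg (Cfsg.Lib.Classical.Refl.minusForm_nondegenerate' (F := F) m hab)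
  let A : Submodule F ((Fin m ⊕ Fin m) ⊕ Fin 2 → F) := LinearMap.ker (LinearMap.funLeft F F Sum.inr)
  let B : Submodule F ((Fin m ⊕ Fin m) ⊕ Fin 2 → F) := LinearMap.ker (LinearMap.funLeft F F Sum.inl)
  have hA : ∀ v, v ∈ A ↔ ∀ i, v (Sum.inr i) = 0 := fun v =>
    ⟨fun h i => congrFun (LinearMap.mem_ker.1 h) i, fun h => LinearMap.mem_ker.2 (funext h)⟩
  have hB : ∀ v, v ∈ B ↔ ∀ i, v (Sum.inl i) = 0 := fun v =>
    ⟨fun h i => congrFun (LinearMap.mem_ker.1 h) i, fun h => LinearMap.mem_ker.2 (funext h)⟩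
  have hor : Orth R A B := fun u hu w hw => by
    rw [hA] at hu
    rw [hB] at hw
    simp [polar, hR, Cfsg.Lib.Classical.Refl.minusForm_coe, Cfsg.quadFormMinus, hu, hw]
  have hsup : ∀ v, ∃ u ∈ A, ∃ w ∈ B, u + w = v := fun v =>
    ⟨Sum.elim (fun i => v (Sum.inl i)) 0, (hA _).2 fun i => rfl, Sum.elim 0 (fun i => v (Sum.inr i)),
      (hB _).2 fun i => rfl, funext fun i => by rcases i with i | i <;> simp⟩
  have hAn : ND R A := fun x hx hp => hRn x trivial fun y _ => by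
    obtain ⟨u, hu, w, hw, rfl⟩ := hsup y
    rw [QuadraticMap.polar_add_right, hp u hu, hor x hx w hw, add_zero]
  have hBn : ND R B := fun x hx hp => hRn x trivial fun y _ => by
    obtain ⟨u, hu, w, hw, rfl⟩ := hsup y
    rw [QuadraticMap.polar_add_right, hp w hw, hor.symm x hx u hu, zero_add]
  have htop : A ⊔ B = ⊤ := eq_top_iff.2 fun v _ => by
    obtain ⟨u, hu, w, hw, rfl⟩ := hsup v
    exact add_mem_sup hu hw
  rw [← htop]
  refine not_plus_sup hAn hBn hor ?_ ?_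
  · let f : (Fin m → F) →ₗ[F] ((Fin m ⊕ Fin m) ⊕ Fin 2 → F) :=
      { toFun := fun u => Sum.elim (Sum.elim u 0) 0
        map_add' := fun u v => by funext i; rcases i with (i | i) | i <;> simp
        map_smul' := fun c u => by funext i; rcases i with (i | i) | i <;> simp }
    refine ⟨LinearMap.range f, ?_, ?_, ?_⟩
    · rintro _ ⟨u, rfl⟩; exact (hA _).2 fun i => rfl
    · rintro _ ⟨u, rfl⟩
      simp [hR, Cfsg.Lib.Classical.Refl.minusForm_coe, Cfsg.quadFormMinus, f]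
    · rw [LinearMap.finrank_range_of_inj fun u v h => funext fun i => congrFun h (Sum.inl (Sum.inl i)),
        Module.finrank_fintype_fun_eq_card, Fintype.card_fin]
      have h := LinearMap.finrank_range_add_finrank_ker
        (LinearMap.funLeft F F (Sum.inr : Fin 2 → (Fin m ⊕ Fin m) ⊕ Fin 2))
      rw [LinearMap.range_eq_top.mpr (LinearMap.funLeft_surjective_of_injective _ _ _ Sum.inr_injective), finrank_top,
        Module.finrank_fintype_fun_eq_card, Module.finrank_fintype_fun_eq_card] at h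
      simp [A] at h ⊢
      omega
  · rintro ⟨U, hU, hts, hd⟩
    have hU0 : U = ⊥ := eq_bot_iff.2 fun u hu => by
      have h0 := (hB u).1 (hU hu)
      have h := hts u hu
      simp [hR, Cfsg.Lib.Classical.Refl.minusForm_coe, Cfsg.quadFormMinus, h0] at h
      obtain ⟨e0, e1⟩ := hab _ _ h
      refine (Submodule.mem_bot F).2 (funext fun i => ?_)
      rcases i with i | i
      · exact h0 i
      · fin_cases i
        exacts [e0, e1]
    rw [hU0, finrank_bot, mul_zero] at hd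
    have h := LinearMap.finrank_range_add_finrank_ker
      (LinearMap.funLeft F F (Sum.inl : Fin m ⊕ Fin m → (Fin m ⊕ Fin m) ⊕ Fin 2))
    rw [LinearMap.range_eq_top.mpr (LinearMap.funLeft_surjective_of_injective _ _ _ Sum.inl_injective), finrank_top,
      Module.finrank_fintype_fun_eq_card, Module.finrank_fintype_fun_eq_card] at h
    simp [B] at h hd
    omega

/-- The type of the plus form. -/
theorem plus_top_plus (m : ℕ) :
    Plus (Cfsg.Lib.Classical.HypQuad.plusForm m F) (⊤ : Submodule F (Fin m ⊕ Fin m → F)) := by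
  classical
  refine ⟨LinearMap.ker (LinearMap.funLeft F F (Sum.inr : Fin m → Fin m ⊕ Fin m)), le_top, fun u hu => ?_, ?_⟩
  · rw [Cfsg.Lib.Classical.HypQuad.plusForm_apply, Cfsg.quadFormPlus]
    exact Finset.sum_eq_zero fun i _ => by
      rw [show u (Sum.inr i) = 0 from congrFun (LinearMap.mem_ker.1 hu) i, mul_zero]
  · have h := LinearMap.finrank_range_add_finrank_ker (LinearMap.funLeft F F (Sum.inr : Fin m → Fin m ⊕ Fin m))
    rw [LinearMap.range_eq_top.mpr (LinearMap.funLeft_surjective_of_injective _ _ _ Sum.inr_injective), finrank_top,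
      Module.finrank_fintype_fun_eq_card, Module.finrank_fintype_fun_eq_card] at h
    rw [finrank_top, Module.finrank_fintype_fun_eq_card]
    simp at h ⊢
    omega

end Cfsg.Lib.OrthEl
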