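import Cfsg.Agent.Classical.OrthElusive.Nondeg
import Cfsg.Agent.Classical.Symp.Decomp

/-!
# Unipotent isometries with square zero and totally singular image
-/

set_option autoImplicit false
set_option linter.unusedSectionVars false

open QuadraticMap Submodule Cfsg.Lib.FormNormal
open Cfsg.Lib.Classical.PrimeOrd (Inv)

namespace Cfsg.Lib.OrthEl

universe u v

variable {F : Type u} [Field F] [Fintype F] {V : Type v} [AddCommGroup V] [Module F V] [FiniteDimensional F V]
  {Q : QuadraticForm F V} {x : Module.End F V}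

/-- The displacement. -/
abbrev disp (x : Module.End F V) : Module.End F V := x - 1

theorem disp_apply (v : V) : disp x v = x v - v := rfl

theorem x_eq (v : V) : x v = v + disp x v := by rw [disp_apply]; abel

theorem disp_orth_ker (hiso : ∀ v, Q (x v) = Q v) {k : V} (hk : disp x k = 0) (u : V) :
    polar (⇑Q) (disp x u) k = 0 := by
  have hxk : x k = k := by rw [x_eq, hk, add_zero]
  have h : polar (⇑Q) (x u) (x k) = polar (⇑Q) u k := by simp only [polar, ← map_add, hiso]
  rw [hxk, x_eq u, QuadraticMap.polar_add_left] at h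
  exact add_eq_left.1 h

/-- The shape of an invariant subspace killed by the square of the displacement. -/
theorem atype_member (hiso : ∀ v, Q (x v) = Q v) {W : Submodule F V} (hW : ND Q W) (hWi : Inv x W)
    (hsq : ∀ w ∈ W, disp x (disp x w) = 0) (hts : ∀ w ∈ W, Q (disp x w) = 0) :
    ∃ (s : ℕ) (Z E : Submodule F V), Even s ∧ E ≤ W ⊓ LinearMap.ker (disp x) ∧ ND Q E ∧ ND Q Z ∧ Plus Q Z ∧
      Module.finrank F Z = 2 * s ∧ Orth Q Z E ∧ Z ⊔ E = W ∧ E ⊓ LinearMap.range (disp x) = ⊥ := by
  classical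
  have hN : ∀ w ∈ W, disp x w ∈ W := fun w hw => by rw [disp_apply]; exact W.sub_mem (hWi w hw) hw
  set T := W.map (disp x) with hT
  set K := W ⊓ LinearMap.ker (disp x) with hK
  have hTK : T ≤ K := by
    rintro _ ⟨w, hw, rfl⟩
    exact ⟨hN w hw, LinearMap.mem_ker.2 (hsq w hw)⟩
  have hor : Orth Q T K := by
    rintro _ ⟨w, -, rfl⟩ k hk
    exact disp_orth_ker hiso (LinearMap.mem_ker.1 (Submodule.mem_inf.1 hk).2) w
  have hTd : Module.finrank F T + Module.finrank F K = Module.finrank F W := by
    have h := LinearMap.finrank_range_add_finrank_ker ((disp x).domRestrict W)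
    rw [LinearMap.range_domRestrict, LinearMap.ker_domRestrict] at h
    rw [← h, hT, hK]
    congr 1
    rw [← (Submodule.equivMapOfInjective W.subtype W.injective_subtype _).finrank_eq.symm, Submodule.map_comap_subtype]
  have hTW : T ≤ W := hTK.trans inf_le_left
  have hperpT : perp Q W T = K := (Submodule.eq_of_le_of_finrank_le
    (fun k (hk : k ∈ K) => mem_perp.2 ⟨hk.1, fun a ha => hor a ha k hk⟩)
    (by have := finrank_perp hW hTW; omega)).symm
  have hperpK : perp Q W K = T := (Submodule.eq_of_le_of_finrank_le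
    (fun t ht => mem_perp.2 ⟨hTW ht, fun k hk => by rw [QuadraticMap.polar_comm]; exact hor t ht k hk⟩)
    (by have := finrank_perp hW (show K ≤ W from inf_le_left); omega)).symm
  obtain ⟨E₀, hE₀⟩ := Submodule.exists_isCompl T
  set E := E₀ ⊓ K
  have hsup : T ⊔ E = K := by
    rw [← sup_inf_assoc_of_le E₀ hTK, hE₀.sup_eq_top, top_inf_eq]
  have hdisj : T ⊓ E = ⊥ := eq_bot_iff.2 ((inf_le_inf_left _ inf_le_left).trans hE₀.inf_eq_bot.le)
  have hEn : ND Q E := fun z hz hp => by
    have h1 : z ∈ perp Q W K := mem_perp.2 ⟨hz.2.1, fun k hk => by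
      rw [← hsup] at hk
      obtain ⟨t, ht, e, he, rfl⟩ := mem_sup.1 hk
      rw [QuadraticMap.polar_add_left, hor t ht z hz.2, zero_add, QuadraticMap.polar_comm]
      exact hp e he⟩
    rw [hperpK] at h1
    exact (Submodule.mem_bot F).1 (hdisj ▸ ⟨h1, hz⟩)
  have hEd : Module.finrank F T + Module.finrank F E = Module.finrank F K := by
    have := Submodule.finrank_sup_add_finrank_inf_eq T E
    rw [hsup, hdisj, finrank_bot] at this
    omega
  have hEW : E ≤ W := inf_le_right.trans inf_le_left
  obtain ⟨hsW, hZn⟩ := sup_perp hW hEW hEn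
  have hd := finrank_perp hW hEW
  have hZp : Plus Q (perp Q W E) := by
    refine ⟨T, fun t ht => mem_perp.2 ⟨hTW ht, fun e he => by rw [QuadraticMap.polar_comm]; exact hor t ht e he.2⟩, ?_,
      by omega⟩
    rintro _ ⟨w, hw, rfl⟩
    exact hts w hw
  -- the alternating form
  obtain ⟨C, hC⟩ := Submodule.exists_isCompl (K.comap W.subtype)
  let β : LinearMap.BilinForm F C :=
    ((polarBilin Q).compl₁₂ (W.subtype ∘ₗ C.subtype) (disp x ∘ₗ W.subtype ∘ₗ C.subtype))
  have hβ : ∀ u v : C, β u v = polar (⇑Q) ((u : W) : V) (disp x ((v : W) : V)) := fun u v => rfl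
  have halt : β.IsAlt := fun u => by
    rw [hβ]
    have h := hiso ((u : W) : V)
    rw [x_eq, QuadraticMap.map_add (f := Q), hts _ (u : W).2, add_zero] at h
    exact add_eq_left.1 h
  have hkey : ∀ u : C, (∀ v, β u v = 0) → u = 0 := fun u hu => by
    have hmem : ((u : W) : V) ∈ perp Q W T := mem_perp.2 ⟨(u : W).2, by
      rintro _ ⟨w, hw, rfl⟩
      obtain ⟨k, hk, c, hc, hkc⟩ := mem_sup.1 (hC.sup_eq_top.ge (mem_top (x := (⟨w, hw⟩ : W))))
      have e : disp x w = disp x (c : V) := by
        rw [show w = ((k : W) : V) + (c : V) from (congrArg Subtype.val hkc).symm, map_add,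
          LinearMap.mem_ker.1 (show ((k : W) : V) ∈ K from hk).2, zero_add]
      rw [e, QuadraticMap.polar_comm]
      exact (hβ u ⟨c, hc⟩).symm.trans (hu ⟨c, hc⟩)⟩
    rw [hperpT] at hmem
    exact Subtype.ext (Submodule.disjoint_def.1 hC.disjoint _ hmem u.2)
  have hnd : β.Nondegenerate := ⟨hkey, fun u hu => hkey u fun v => by rw [← halt.neg_eq, hu v, neg_zero]⟩
  obtain ⟨a, -, ha, -⟩ := Cfsg.Lib.Classical.exists_symplectic_basis_nondegenerate (B := β) halt hnd
  have hCd := Submodule.finrank_add_eq_of_isCompl hC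
  rw [(Submodule.comapSubtypeEquivOfLe (show K ≤ W from inf_le_left)).finrank_eq] at hCd
  refine ⟨Module.finrank F T, perp Q W E, E, ⟨a, by omega⟩, inf_le_right, hEn, hZn, hZp, by omega,
    (orth_perp W E).symm, by rw [sup_comm]; exact hsW, eq_bot_iff.2 fun z hz => ?_⟩
  obtain ⟨v, hv⟩ := hz.2
  exact (Submodule.mem_bot F).2 (hEn z hz.1 fun e he => by
    rw [← hv]; exact disp_orth_ker hiso (LinearMap.mem_ker.1 he.2.2) v)

/-- The standard element. -/
theorem exists_atype (hQ : ND Q (⊤ : Submodule F V)) {t : ℕ} (ht : 2 * t ≤ idx Q (⊤ : Submodule F V)) :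
    ∃ (x : Module.End F V) (P : Submodule F V), (∀ v, Q (x v) = Q v) ∧ ND Q P ∧
      Module.finrank F P + 4 * t = Module.finrank F V ∧ (Even (Module.finrank F V) → (Plus Q P ↔ Plus Q (⊤ : Submodule F V))) ∧
      (∀ v, disp x (disp x v) = 0) ∧ (∀ v, Q (disp x v) = 0) ∧
      Module.finrank F (LinearMap.range (disp x)) = 2 * t ∧ Orth Q (LinearMap.range (disp x)) P ∧
      LinearMap.range (disp x) ⊔ P = LinearMap.ker (disp x) ∧ LinearMap.range (disp x) ⊓ P = ⊥ := by
  classical
  obtain ⟨H, -, hHn, hHd, hHp⟩ := exists_pairs hQ ht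
  obtain ⟨U, hUH, hUts, hUd⟩ := hHp
  let b := Module.finBasisOfFinrankEq F U (show Module.finrank F U = t + t by omega)
  let a : Fin t → V := fun i => (b (Fin.castAdd t i) : V)
  let a' : Fin t → V := fun i => (b (Fin.natAdd t i) : V)
  have haU : ∀ i, a i ∈ U := fun i => Subtype.coe_prop _
  have ha'U : ∀ i, a' i ∈ U := fun i => Subtype.coe_prop _
  let N : Module.End F V := ∑ i, ((polarBilin Q (a i)).smulRight (a' i) - (polarBilin Q (a' i)).smulRight (a i))
  have hN : ∀ v, N v = ∑ i, (polar (⇑Q) (a i) v • a' i - polar (⇑Q) (a' i) v • a i) := fun v => by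
    simp [N, LinearMap.sum_apply]
  have hNU : ∀ v, N v ∈ U := fun v => by
    rw [hN]; exact sum_mem fun i _ => U.sub_mem (U.smul_mem _ (ha'U i)) (U.smul_mem _ (haU i))
  have hpN : ∀ v, polar (⇑Q) v (N v) = 0 := fun v => by
    rw [hN]
    show polarBilin Q v _ = 0
    rw [map_sum]
    refine Finset.sum_eq_zero fun i _ => ?_
    rw [map_sub, map_smul, map_smul]
    show polar (⇑Q) (a i) v * polar (⇑Q) v (a' i) - polar (⇑Q) (a' i) v * polar (⇑Q) v (a i) = 0
    rw [QuadraticMap.polar_comm _ v (a' i), QuadraticMap.polar_comm _ v (a i)]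
    ring
  have hN0 : ∀ u ∈ U, N u = 0 := fun u hu => by
    rw [hN]
    exact Finset.sum_eq_zero fun i _ => by rw [ts_polar hUts (haU i) hu, ts_polar hUts (ha'U i) hu, zero_smul, zero_smul, sub_zero]
  obtain ⟨hsup, hPn⟩ := sup_perp hQ (le_top : H ≤ ⊤) hHn
  have hPd := finrank_perp hQ (le_top : H ≤ ⊤)
  rw [finrank_top] at hPd
  have hd' : disp (1 + N) = N := add_sub_cancel_left _ _
  refine ⟨1 + N, perp Q ⊤ H, fun v => ?_, hPn, by omega, fun hev => ?_, ?_⟩
  · show Q (v + N v) = Q v
    rw [QuadraticMap.map_add (f := Q), hUts _ (hNU v), hpN, add_zero, add_zero]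
  · conv_rhs => rw [← hsup]
    rw [plus_sup_iff hHn hPn (orth_perp ⊤ H) (by rw [hHd]; exact even_two_mul _)
      (by rw [Nat.even_iff] at hev ⊢; omega), iff_true_intro (show Plus Q H from ⟨U, hUH, hUts, hUd⟩), true_iff]
  rw [hd']
  -- kernel
  have hkerU : LinearMap.ker N = perp Q ⊤ U := by
    ext v
    refine ⟨fun hv => mem_perp.2 ⟨trivial, fun u hu => ?_⟩, fun hv => LinearMap.mem_ker.2 ?_⟩
    · rw [LinearMap.mem_ker, hN, Finset.sum_sub_distrib] at hv
      have hzero : ∀ i, polar (⇑Q) (a i) v = 0 ∧ polar (⇑Q) (a' i) v = 0 := by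
        have h0 : ∑ j, (Fin.append (fun i => -polar (⇑Q) (a' i) v) (fun i => polar (⇑Q) (a i) v)) j • (b j : V) = 0 := by
          rw [Fin.sum_univ_add]
          simp only [Fin.append_left, Fin.append_right, neg_smul, Finset.sum_neg_distrib]
          rw [neg_add_eq_sub]
          exact hv
        have hz := Fintype.linearIndependent_iff.1 (b.linearIndependent.map' U.subtype U.ker_subtype) _ h0
        intro i
        have h1 := hz (Fin.castAdd t i)
        have h2 := hz (Fin.natAdd t i)
        rw [Fin.append_left, neg_eq_zero] at h1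
        rw [Fin.append_right] at h2
        exact ⟨h2, h1⟩
      have hle : U ≤ LinearMap.ker ((polarBilin Q).flip v) := by
        intro w hw
        rw [show w = ((⟨w, hw⟩ : U) : V) from rfl, ← b.sum_repr ⟨w, hw⟩]
        simp only [Submodule.coe_sum, Submodule.coe_smul]
        refine sum_mem fun j _ => Submodule.smul_mem _ _ ?_
        induction j using Fin.addCases with
        | left i => exact (hzero i).1
        | right i => exact (hzero i).2
      exact hle hu
    · rw [hN]
      exact Finset.sum_eq_zero fun i _ => by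
        rw [(mem_perp.1 hv).2 _ (haU i), (mem_perp.1 hv).2 _ (ha'U i), zero_smul, zero_smul, sub_zero]
  have hkd : Module.finrank F (LinearMap.ker N) + 2 * t = Module.finrank F V := by
    have := finrank_perp hQ (le_top : U ≤ ⊤)
    rw [finrank_top, ← hkerU] at this
    omega
  have hrd : Module.finrank F (LinearMap.range N) = 2 * t := by
    have := LinearMap.finrank_range_add_finrank_ker N; omega
  have hrange : LinearMap.range N = U := Submodule.eq_of_le_of_finrank_le
    (by rintro _ ⟨v, rfl⟩; exact hNU v) (by omega)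
  have hdisj : U ⊓ perp Q ⊤ H = ⊥ := eq_bot_iff.2 ((inf_le_inf_right _ hUH).trans (nd_disjoint hHn (orth_perp ⊤ H)).le)
  refine ⟨fun v => hN0 _ (hNU v), fun v => hUts _ (hNU v), hrd, ?_, ?_, by rw [hrange]; exact hdisj⟩
  · rw [hrange]; exact (orth_perp ⊤ H).mono hUH le_rfl
  · rw [hrange, hkerU]
    refine Submodule.eq_of_le_of_finrank_le (sup_le (fun u hu => mem_perp.2 ⟨trivial, fun w hw => ts_polar hUts hw hu⟩)
      fun p hp => mem_perp.2 ⟨trivial, fun w hw => (mem_perp.1 hp).2 w (hUH hw)⟩) ?_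
    have := Submodule.finrank_sup_add_finrank_inf_eq U (perp Q ⊤ H)
    rw [hdisj, finrank_bot] at this
    rw [← hkerU]
    omega

/-- The fixed part of a member embeds into the complement of the image. -/
theorem atype_embed {R P E : Submodule F V} (hts : ∀ v ∈ R, Q v = 0) (hor : Orth Q R P) (hE : E ≤ R ⊔ P)
    (hdisj : E ⊓ R = ⊥) (hRP : R ⊓ P = ⊥) :
    Module.finrank F E ≤ Module.finrank F P ∧ (Module.finrank F E = Module.finrank F P → Iso Q E P) := by
  classical
  have hex : ∀ e : E, ∃ q : P, (e : V) - q ∈ R := fun e => by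
    obtain ⟨r, hr, q, hq, he⟩ := mem_sup.1 (hE e.2)
    exact ⟨⟨q, hq⟩, by rw [← he]; simpa using hr⟩
  choose f hf using hex
  have huniq : ∀ (e : E) (q : P), (e : V) - q ∈ R → f e = q := fun e q hq => by
    have h : ((f e : V) - q) ∈ R ⊓ P := ⟨by
      have := R.sub_mem hq (hf e)
      rwa [show ((e : V) - q) - ((e : V) - f e) = (f e : V) - q by abel] at this, P.sub_mem (f e).2 q.2⟩
    rw [hRP, Submodule.mem_bot, sub_eq_zero] at h
    exact Subtype.ext h
  let φ : E →ₗ[F] P :=
    { toFun := f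
      map_add' := fun e e' => huniq _ _ (by
        have := R.add_mem (hf e) (hf e')
        rwa [show ((e : V) - f e) + ((e' : V) - f e') = ((e + e' : E) : V) - ((f e + f e' : P) : V) by
          simp only [Submodule.coe_add]; abel] at this)
      map_smul' := fun c e => huniq _ _ (by
        have := R.smul_mem c (hf e)
        rwa [smul_sub] at this) }
  have hinj : Function.Injective φ := (injective_iff_map_eq_zero φ).2 fun e he => by
    have h := hf e
    rw [show f e = 0 from he, Submodule.coe_zero, sub_zero] at h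
    exact Subtype.ext ((Submodule.mem_bot F).1 (hdisj ▸ ⟨e.2, h⟩))
  refine ⟨LinearMap.finrank_le_finrank_of_injective hinj, fun hd => ⟨LinearEquiv.ofBijective φ ⟨hinj, ?_⟩, fun e => ?_⟩⟩
  · exact (LinearMap.injective_iff_surjective_of_finrank_eq_finrank hd).1 hinj
  · show Q (f e : V) = Q (e : V)
    conv_rhs => rw [← sub_add_cancel (e : V) (f e : V), hor.q_add (hf e) (f e).2, hts _ (hf e), zero_add]

end Cfsg.Lib.OrthEl
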