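import Cfsg.Agent.Classical.OrthElusive.Index
import Cfsg.Agent.Classical.Misc.PrimeOrderCriteria
import Cfsg.Agent.Classical.Orth.Orders
import Cfsg.Agent.Known.PrimeOrderPoly

/-!
# Isometries of odd prime order: the fixed space and minimal nondegenerate invariant subspaces
-/

set_option autoImplicit false
set_option linter.unusedSectionVars false

open QuadraticMap Submodule Cfsg.Lib.FormNormal Polynomial
open Cfsg.Lib.Classical.PrimeOrd (Inv fix mov mem_fix res res_pow exists_compl semisimple exists_minimal)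
open Cfsg.Lib.PrimeOrderPoly (factorSet mem_factorSet natDegree_factorSet card_factorSet)

namespace Cfsg.Lib.OrthEl

universe u v

variable {F : Type u} [Field F] [Fintype F] {V : Type v} [AddCommGroup V] [Module F V] [FiniteDimensional F V]

/-- An isometry whose `r`-th power is trivial. -/
structure RIsom (Q : QuadraticForm F V) (r : ℕ) (x : Module.End F V) : Prop where
  iso : ∀ v, Q (x v) = Q v
  pow : x ^ r = 1

/-- A nondegenerate invariant subspace without fixed points. -/
structure Fpf (Q : QuadraticForm F V) (x : Module.End F V) (E : Submodule F V) : Prop where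
  nd : ND Q E
  inv : Inv x E
  free : E ⊓ fix x = ⊥

variable {Q : QuadraticForm F V} {r : ℕ} {x : Module.End F V}

theorem RIsom.polar_map (hx : RIsom Q r x) (u w : V) : polar (⇑Q) (x u) (x w) = polar (⇑Q) u w := by
  simp only [polar, ← map_add, hx.iso]

theorem RIsom.iso_pow (hx : RIsom Q r x) : ∀ (k : ℕ) (v : V), Q ((x ^ k) v) = Q v
  | 0, v => by simp
  | k + 1, v => by rw [pow_succ', Module.End.mul_apply, hx.iso, hx.iso_pow k]

theorem RIsom.adjoint (hx : RIsom Q r x) (hr : 0 < r) (u w : V) :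
    polar (⇑Q) (x u) w = polar (⇑Q) u ((x ^ (r - 1)) w) := by
  conv_lhs => rw [show w = x ((x ^ (r - 1)) w) by
    rw [← Module.End.mul_apply, ← pow_succ', Nat.sub_add_cancel hr, hx.pow]; rfl]
  exact hx.polar_map _ _

theorem RIsom.adjoint_aeval (hx : RIsom Q r x) (hr : 0 < r) (P : F[X]) (u w : V) :
    polar (⇑Q) (aeval x P u) w = polar (⇑Q) u (aeval (x ^ (r - 1)) P w) := by
  induction P using Polynomial.induction_on' generalizing u w with
  | add P R hP hR =>
    simp only [map_add, LinearMap.add_apply, QuadraticMap.polar_add_left, QuadraticMap.polar_add_right, hP, hR]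
  | monomial k a =>
    simp only [aeval_monomial, Module.End.mul_apply, Module.algebraMap_end_apply, QuadraticMap.polar_smul_left,
      QuadraticMap.polar_smul_right]
    congr 1
    induction k generalizing u w with
    | zero => simp
    | succ k ih =>
      rw [pow_succ, pow_succ', Module.End.mul_apply, Module.End.mul_apply, ih, hx.adjoint hr]

theorem RIsom.fix_orth_mov (hx : RIsom Q r x) : Orth Q (fix x) (mov x) := by
  rintro u hu _ ⟨v, rfl⟩
  rw [LinearMap.sub_apply, Module.End.one_apply, QuadraticMap.polar_sub_right]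
  conv_lhs => enter [1]; rw [← mem_fix.1 hu, hx.polar_map]
  exact sub_self _

/-- An invariant nondegenerate subspace splits into its fixed and moved parts. -/
theorem RIsom.split (hx : RIsom Q r x) (hr : (r : F) ≠ 0) {W : Submodule F V} (hW : Inv x W) (hn : ND Q W) :
    W ⊓ fix x ⊔ W ⊓ mov x = W ∧ ND Q (W ⊓ fix x) ∧ ND Q (W ⊓ mov x) := by
  have hsup : W ⊓ fix x ⊔ W ⊓ mov x = W := by
    refine le_antisymm (sup_le inf_le_left inf_le_left) fun w hw => ?_
    obtain ⟨a, ha⟩ : ∃ a, a = (r : F)⁻¹ • ∑ j ∈ Finset.range r, (x ^ j) w := ⟨_, rfl⟩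
    have hpow : ∀ j, (x ^ j) w ∈ W := fun j => by
      induction j with
      | zero => simpa using hw
      | succ j ih => rw [pow_succ', Module.End.mul_apply]; exact hW _ ih
    have haW : a ∈ W := ha ▸ W.smul_mem _ (sum_mem fun j _ => hpow j)
    have hax : x a = a := by
      rw [ha, map_smul, map_sum]
      congr 1
      have h1 : ∑ j ∈ Finset.range r, x ((x ^ j) w) = ∑ j ∈ Finset.range r, (x ^ (j + 1)) w :=
        Finset.sum_congr rfl fun j _ => by rw [pow_succ', Module.End.mul_apply]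
      rw [h1]
      have h2 := (Finset.sum_range_succ' (fun j => (x ^ j) w) r).symm.trans (Finset.sum_range_succ (fun j => (x ^ j) w) r)
      simp only [pow_zero, hx.pow] at h2
      exact add_right_cancel h2
    have hmov : ∀ j, w - (x ^ j) w ∈ mov x := fun j => by
      induction j with
      | zero => simp
      | succ j ih =>
        rw [show w - (x ^ (j + 1)) w = (w - (x ^ j) w) - (x - 1) ((x ^ j) w) by
          rw [pow_succ', Module.End.mul_apply, LinearMap.sub_apply, Module.End.one_apply]; abel]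
        exact sub_mem ih ⟨_, rfl⟩
    have hwa : w - a ∈ mov x := by
      have : w - a = (r : F)⁻¹ • ∑ j ∈ Finset.range r, (w - (x ^ j) w) := by
        rw [Finset.sum_sub_distrib, Finset.sum_const, Finset.card_range, smul_sub, ← Nat.cast_smul_eq_nsmul F,
          smul_smul, inv_mul_cancel₀ hr, one_smul, ha]
      rw [this]
      exact (mov x).smul_mem _ (sum_mem fun j _ => hmov j)
    have hdec : w = a + (w - a) := by abel
    rw [hdec]
    exact add_mem_sup ⟨haW, mem_fix.2 hax⟩ ⟨W.sub_mem hw haW, hwa⟩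
  refine ⟨hsup, fun y hy h => hn y hy.1 fun z hz => ?_, fun y hy h => hn y hy.1 fun z hz => ?_⟩
  · rw [← hsup] at hz
    obtain ⟨a, ha, b, hb, rfl⟩ := mem_sup.1 hz
    rw [QuadraticMap.polar_add_right, h a ha, hx.fix_orth_mov y hy.2 b hb.2, add_zero]
  · rw [← hsup] at hz
    obtain ⟨a, ha, b, hb, rfl⟩ := mem_sup.1 hz
    rw [QuadraticMap.polar_add_right, h b hb, hx.fix_orth_mov.symm y hy.2 a ha.2, add_zero]

theorem RIsom.nd_fix (hx : RIsom Q r x) (hr : (r : F) ≠ 0) (hQ : ND Q (⊤ : Submodule F V)) :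
    ND Q (fix x) ∧ Fpf Q x (mov x) := by
  obtain ⟨-, h1, h2⟩ := hx.split hr (W := ⊤) (fun w _ => trivial) hQ
  rw [top_inf_eq] at h1 h2
  refine ⟨h1, h2, Cfsg.Lib.Classical.PrimeOrd.inv_mov x, ?_⟩
  rw [inf_comm]
  exact (Cfsg.Lib.Classical.PrimeOrd.isCompl_fix_mov hr hx.pow).disjoint.eq_bot

theorem RIsom.inv_perp (hx : RIsom Q r x) (hr : 0 < r) {W U : Submodule F V} (hW : Inv x W) (hU : Inv x U) :
    Inv x (perp Q W U) := fun w hw => by
  rw [mem_perp] at hw ⊢
  refine ⟨hW w hw.1, fun a ha => ?_⟩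
  have hpow : ∀ j, (x ^ j) a ∈ U := fun j => by
    induction j with
    | zero => simpa using ha
    | succ j ih => rw [pow_succ', Module.End.mul_apply]; exact hU _ ih
  rw [QuadraticMap.polar_comm, hx.adjoint hr, QuadraticMap.polar_comm]
  exact hw.2 _ (hpow _)

theorem Fpf.mono {E A : Submodule F V} (hE : Fpf Q x E) (hA : A ≤ E) (hn : ND Q A) (hi : Inv x A) : Fpf Q x A :=
  ⟨hn, hi, eq_bot_iff.2 ((inf_le_inf_right _ hA).trans hE.free.le)⟩

theorem Fpf.mov_le (hx : RIsom Q r x) (hr : (r : F) ≠ 0) {E : Submodule F V} (hE : Fpf Q x E) : E ≤ mov x := by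
  obtain ⟨h, -, -⟩ := hx.split hr hE.inv hE.nd
  rw [hE.free, bot_sup_eq] at h
  exact h ▸ inf_le_right

section Poly

variable {p : ℕ} [Fact p.Prime] [CharP F p] [Fact r.Prime]

include p in
theorem r_cast_ne (hrp : r ≠ p) : (r : F) ≠ 0 :=
  Cfsg.Lib.Classical.PrimeOrd.cast_ne_zero (p := p) (Fact.out : r.Prime) hrp

theorem r_pos : 0 < r := (Fact.out : r.Prime).pos

include p in
theorem prod_factorSet (hrp : r ≠ p) : ∏ g ∈ factorSet F r, g = cyclotomic r F := by
  classical
  have hsq : Squarefree (cyclotomic r F) :=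
    Squarefree.squarefree_of_dvd (cyclotomic.dvd_X_pow_sub_one r F) (by
      have := (separable_X_pow_sub_C (1 : F) (r_cast_ne (p := p) hrp) one_ne_zero).squarefree
      rwa [C_1] at this)
  have hnd := (UniqueFactorizationMonoid.squarefree_iff_nodup_normalizedFactors (cyclotomic_ne_zero r F)).mp hsq
  show (Multiset.map id (factorSet F r).val).prod = _
  rw [Multiset.map_id, factorSet, Multiset.toFinset_val, Multiset.dedup_eq_self.mpr hnd,
    UniqueFactorizationMonoid.prod_normalizedFactors_eq (cyclotomic_ne_zero r F),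
    (cyclotomic.monic r F).normalize_eq_self]

theorem mov_killed (hx : RIsom Q r x) {w : V} (hw : w ∈ mov x) : aeval x (cyclotomic r F) w = 0 := by
  obtain ⟨v, rfl⟩ := hw
  have h := congrArg (fun P => aeval x P v) (cyclotomic_prime_mul_X_sub_one F r)
  simp only [map_mul, map_sub, map_pow, aeval_X, map_one, hx.pow, sub_self, Module.End.mul_apply,
    LinearMap.zero_apply] at h
  exact h

theorem aeval_mem' {W : Submodule F V} (hW : Inv x W) (P : F[X]) {w : V} (hw : w ∈ W) : aeval x P w ∈ W := by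
  induction P using Polynomial.induction_on' with
  | add P R hP hR => rw [map_add, LinearMap.add_apply]; exact add_mem hP hR
  | monomial k a =>
    rw [aeval_monomial, Module.End.mul_apply, Module.algebraMap_end_apply]
    refine W.smul_mem a ?_
    clear a
    induction k with
    | zero => simpa using hw
    | succ k ih => rw [pow_succ', Module.End.mul_apply]; exact hW _ ih

theorem inv_part {W : Submodule F V} (hW : Inv x W) (P : F[X]) : Inv x (W ⊓ LinearMap.ker (aeval x P)) := fun w hw => by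
  refine ⟨hW w hw.1, ?_⟩
  have hc : aeval x P * x = x * aeval x P := by simpa [map_mul] using congrArg (aeval x) (mul_comm P X)
  rw [SetLike.mem_coe, LinearMap.mem_ker, ← Module.End.mul_apply, hc, Module.End.mul_apply,
    show aeval x P w = 0 from hw.2, map_zero]

/-- The parts add up. -/
theorem finrank_le_sum {W : Submodule F V} (hW : Inv x W) (S : Finset F[X])
    (hS : ∀ w ∈ W, aeval x (∏ g ∈ S, g) w = 0) :
    Module.finrank F W ≤ ∑ g ∈ S, Module.finrank F (W ⊓ LinearMap.ker (aeval x g) : Submodule F V) := by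
  classical
  induction S using Finset.induction generalizing W with
  | empty =>
    rw [Finset.sum_empty]
    have : W = ⊥ := eq_bot_iff.2 fun w hw => by
      have := hS w hw
      rw [Finset.prod_empty, map_one] at this
      exact (Submodule.mem_bot F).2 this
    rw [this, finrank_bot]
  | insert g S hg ih =>
    rw [Finset.sum_insert hg]
    let f : W →ₗ[F] V := (aeval x g).domRestrict W
    have h := LinearMap.finrank_range_add_finrank_ker f
    have h1 : Module.finrank F (LinearMap.ker f) = Module.finrank F (W ⊓ LinearMap.ker (aeval x g) : Submodule F V) := by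
      rw [← (Submodule.comapSubtypeEquivOfLe (inf_le_left : W ⊓ LinearMap.ker (aeval x g) ≤ W)).finrank_eq]
      have e : LinearMap.ker f = (W ⊓ LinearMap.ker (aeval x g)).comap W.subtype := by
        ext w
        exact ⟨fun hw => ⟨w.2, hw⟩, fun hw => hw.2⟩
      rw [e]
    have hR : LinearMap.range f ≤ W := by
      rintro _ ⟨w, rfl⟩
      exact aeval_mem' hW g w.2
    have hRi : Inv x (LinearMap.range f) := by
      rintro _ ⟨w, rfl⟩
      refine ⟨⟨x w, hW w w.2⟩, ?_⟩
      show aeval x g (x w) = x (aeval x g w)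
      have hc : aeval x g * x = x * aeval x g := by simpa [map_mul] using congrArg (aeval x) (mul_comm g X)
      rw [← Module.End.mul_apply, hc, Module.End.mul_apply]
    have h2 := ih hRi (by
      rintro _ ⟨w, rfl⟩
      have := hS w w.2
      rw [Finset.prod_insert hg, mul_comm, map_mul, Module.End.mul_apply] at this
      exact this)
    have h3 : ∑ k ∈ S, Module.finrank F (LinearMap.range f ⊓ LinearMap.ker (aeval x k) : Submodule F V) ≤
        ∑ k ∈ S, Module.finrank F (W ⊓ LinearMap.ker (aeval x k) : Submodule F V) :=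
      Finset.sum_le_sum fun k _ => Submodule.finrank_mono (inf_le_inf_right _ hR)
    omega

include p in
theorem factor_facts' (hrp : r ≠ p) {g : F[X]} (hg : g ∈ factorSet F r) :
    Irreducible g ∧ g.natDegree = orderOf (Fintype.card F : ZMod r) ∧ g ∣ X ^ r - 1 ∧
      ¬ (X - 1 : F[X]) ∣ g := by
  obtain ⟨h1, h2, h3⟩ := mem_factorSet g hg
  refine ⟨h2, natDegree_factorSet (p := p) hrp g hg, h3.trans (cyclotomic.dvd_X_pow_sub_one r F), fun hd => ?_⟩
  have h4 : (cyclotomic r F).eval 1 = 0 := by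
    rw [← C_1, dvd_iff_isRoot] at hd
    exact eval_eq_zero_of_dvd_of_eval_eq_zero h3 hd
  rw [eval_one_cyclotomic_prime] at h4
  exact r_cast_ne (p := p) hrp h4

variable {g : F[X]}

/-- The field of a factor acting on a subspace it kills. -/
noncomputable def act (g : F[X]) {W : Submodule F V} (hW : Inv x W) (hg : ∀ w ∈ W, aeval x g w = 0) :
    AdjoinRoot g →ₐ[F] Module.End F W :=
  Ideal.Quotient.liftₐ (Ideal.span {g}) (aeval (res x hW)) fun P hP => by
    obtain ⟨R, rfl⟩ := Ideal.mem_span_singleton'.1 hP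
    refine LinearMap.ext fun w => Subtype.ext ?_
    have : ∀ (Q : F[X]) (v : W), ((aeval (res x hW) Q) v : V) = aeval x Q v := fun Q v => by
      induction Q using Polynomial.induction_on' with
      | add P R hP hR => simp [hP, hR]
      | monomial k a =>
        rw [aeval_monomial, aeval_monomial, Module.End.mul_apply, Module.End.mul_apply, Module.algebraMap_end_apply,
          Module.algebraMap_end_apply, Submodule.coe_smul, res_pow]
    rw [this, map_mul, Module.End.mul_apply, hg w w.2, map_zero]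
    rfl

theorem act_root {W : Submodule F V} (hW : Inv x W) (hg : ∀ w ∈ W, aeval x g w = 0) :
    act g hW hg (AdjoinRoot.root g) = res x hW := by
  show aeval (res x hW) (X : F[X]) = _
  exact aeval_X _

theorem act_mk {W : Submodule F V} (hW : Inv x W) (hg : ∀ w ∈ W, aeval x g w = 0) (P : F[X]) (w : W) :
    (act g hW hg (AdjoinRoot.mk g P) w : V) = aeval x P w := by
  induction P using Polynomial.induction_on' with
  | add P R hP hR => simp [hP, hR]
  | monomial k a =>
    rw [← C_mul_X_pow_eq_monomial, map_mul, map_pow, AdjoinRoot.mk_X, AdjoinRoot.mk_C, map_mul, map_pow, act_root,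
      ← AdjoinRoot.algebraMap_eq, AlgHom.commutes, Module.End.mul_apply, map_mul, map_pow, aeval_C, aeval_X,
      Module.End.mul_apply, Module.algebraMap_end_apply, Module.algebraMap_end_apply, Submodule.coe_smul, res_pow]

theorem act_inv_mem {W : Submodule F V} (hW : Inv x W) (hg : ∀ w ∈ W, aeval x g w = 0) {T : Submodule F V}
    (hT : Inv x T) (k : AdjoinRoot g) {w : W} (hw : (w : V) ∈ T) : (act g hW hg k w : V) ∈ T := by
  obtain ⟨P, rfl⟩ := AdjoinRoot.mk_surjective k
  rw [act_mk]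
  exact aeval_mem' hT P hw

/-- The orbit subspace of a vector. -/
noncomputable def cyc (g : F[X]) {W : Submodule F V} (hW : Inv x W) (hg : ∀ w ∈ W, aeval x g w = 0) (w : W) :
    Submodule F V :=
  LinearMap.range (W.subtype ∘ₗ (LinearMap.applyₗ w) ∘ₗ (act g hW hg).toLinearMap)

theorem mem_cyc {W : Submodule F V} (hW : Inv x W) (hg : ∀ w ∈ W, aeval x g w = 0) (w : W) {y : V} :
    y ∈ cyc g hW hg w ↔ ∃ k, (act g hW hg k w : V) = y := Iff.rfl

theorem self_mem_cyc {W : Submodule F V} (hW : Inv x W) (hg : ∀ w ∈ W, aeval x g w = 0) (w : W) :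
    (w : V) ∈ cyc g hW hg w := ⟨1, by simp⟩

theorem cyc_le {W : Submodule F V} (hW : Inv x W) (hg : ∀ w ∈ W, aeval x g w = 0) (w : W) : cyc g hW hg w ≤ W := by
  rintro _ ⟨k, rfl⟩; exact Subtype.coe_prop _

theorem inv_cyc {W : Submodule F V} (hW : Inv x W) (hg : ∀ w ∈ W, aeval x g w = 0) (w : W) :
    Inv x (cyc g hW hg w) := by
  rintro _ ⟨k, rfl⟩
  refine ⟨AdjoinRoot.root g * k, ?_⟩
  show (act g hW hg (AdjoinRoot.root g * k) w : V) = x (act g hW hg k w : V)
  rw [map_mul, act_root, Module.End.mul_apply]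
  rfl

theorem act_injective [Fact (Irreducible g)] {W : Submodule F V} (hW : Inv x W) (hg : ∀ w ∈ W, aeval x g w = 0)
    {w : W} (hw : w ≠ 0) : Function.Injective fun k => act g hW hg k w := by
  intro a b hab
  by_contra hne
  have h0 : act g hW hg (a - b) w = 0 := by
    rw [map_sub, LinearMap.sub_apply, sub_eq_zero]; exact hab
  have := congrArg (act g hW hg (a - b)⁻¹) h0
  rw [← Module.End.mul_apply, ← map_mul, inv_mul_cancel₀ (sub_ne_zero.2 hne), map_one, map_zero] at this
  exact hw this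

theorem finrank_cyc [Fact (Irreducible g)] {W : Submodule F V} (hW : Inv x W) (hg : ∀ w ∈ W, aeval x g w = 0)
    {w : W} (hw : w ≠ 0) : Module.finrank F (cyc g hW hg w) = g.natDegree := by
  have hg0 : g ≠ 0 := (Fact.out : Irreducible g).ne_zero
  rw [cyc, LinearMap.finrank_range_of_inj]
  · rw [(AdjoinRoot.powerBasis hg0).finrank, AdjoinRoot.powerBasis_dim]
  · exact fun a b hab => act_injective hW hg hw (Subtype.ext hab)

theorem cyc_minimal [Fact (Irreducible g)] {W : Submodule F V} (hW : Inv x W) (hg : ∀ w ∈ W, aeval x g w = 0)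
    {w : W} (hw : w ≠ 0) {T : Submodule F V} (hT : Inv x T) (hle : T ≤ cyc g hW hg w) (h0 : T ≠ ⊥) :
    T = cyc g hW hg w := by
  refine le_antisymm hle ?_
  obtain ⟨y, hy, hy0⟩ := T.exists_mem_ne_zero_of_ne_bot h0
  obtain ⟨k, hk⟩ := hle hy
  have hk0 : k ≠ 0 := fun e => hy0 (by rw [← hk, e]; simp)
  rintro _ ⟨l, rfl⟩
  have hz : (act g hW hg k w : V) ∈ T := by rw [show (act g hW hg k w : V) = y from hk]; exact hy
  have := act_inv_mem hW hg hT (l * k⁻¹) (w := act g hW hg k w) hz
  rwa [← Module.End.mul_apply, ← map_mul, inv_mul_cancel_right₀ hk0] at this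

include p in
/-- A factor killing part of a fixed-point-free subspace. -/
theorem exists_factor (hx : RIsom Q r x) (hrp : r ≠ p) {E : Submodule F V} (hEi : Inv x E) (hE : E ≤ mov x)
    (hE0 : E ≠ ⊥) : ∃ g ∈ factorSet F r, E ⊓ LinearMap.ker (aeval x g) ≠ ⊥ := by
  by_contra h
  push Not at h
  have hs := finrank_le_sum hEi (factorSet F r) fun w hw => by
    rw [prod_factorSet (p := p) hrp]; exact mov_killed hx (hE hw)
  rw [Finset.sum_eq_zero fun g hg => by rw [h g hg, finrank_bot], Nat.le_zero] at hs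
  exact hE0 (Submodule.finrank_eq_zero.1 hs)

theorem ts_of_polar_zero (hx : RIsom Q r x) {U : Submodule F V} (hUi : Inv x U) (hfree : U ⊓ fix x = ⊥)
    (hmin : ∀ T ≤ U, Inv x T → T ≠ ⊥ → T = U) (hpol : ∀ a ∈ U, ∀ b ∈ U, polar (⇑Q) a b = 0) : TS Q U := by
  by_cases h2 : (2 : F) = 0
  swap
  · intro u hu
    have := hpol u hu u hu
    rw [FormNormal.polar_self'] at this
    exact (mul_eq_zero.1 this).resolve_left h2
  haveI : CharP F 2 := CharTwo.of_one_ne_zero_of_two_eq_zero one_ne_zero h2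
  have hadd : ∀ a ∈ U, ∀ b ∈ U, Q (a + b) = Q a + Q b := fun a ha b hb => by
    rw [QuadraticMap.map_add (f := Q), hpol a ha b hb, add_zero]
  let Z : Submodule F V :=
    { carrier := {u | u ∈ U ∧ Q u = 0}
      add_mem' := fun {a b} ha hb => ⟨U.add_mem ha.1 hb.1, by rw [hadd a ha.1 b hb.1, ha.2, hb.2, add_zero]⟩
      zero_mem' := ⟨U.zero_mem, QuadraticMap.map_zero Q⟩
      smul_mem' := fun t a ha => ⟨U.smul_mem t ha.1, by rw [QuadraticMap.map_smul, ha.2, smul_zero]⟩ }
  intro u hu
  by_contra hQu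
  have hZ : Z = ⊥ := by
    by_contra hZ0
    have := hmin Z (fun z hz => hz.1) (fun z hz => ⟨hUi z hz.1, (hx.iso z).trans hz.2⟩) hZ0
    exact hQu ((this.symm ▸ hu : u ∈ Z)).2
  obtain ⟨c, hc⟩ := FiniteField.isSquare_of_char_two (ringChar.eq F 2) (Q (x u) / Q u)
  have hz : x u + c • u ∈ Z := by
    refine ⟨U.add_mem (hUi u hu) (U.smul_mem c hu), ?_⟩
    rw [hadd _ (hUi u hu) _ (U.smul_mem c hu), QuadraticMap.map_smul, ← hc, smul_eq_mul, div_mul_cancel₀ _ hQu]
    exact CharTwo.add_self_eq_zero _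
  rw [hx.iso, div_self hQu] at hc
  have hc1 : c = 1 := by
    have : (c + 1) * (c + 1) = 0 := by rw [show (c + 1) * (c + 1) = c * c + (2 * c + 1) by ring, ← hc, h2]; linear_combination h2
    exact CharTwo.add_eq_zero.1 (mul_self_eq_zero.1 this)
  rw [hZ, Submodule.mem_bot, hc1, one_smul, add_eq_zero_iff_eq_neg] at hz
  have hxu : x u = u := hz.trans (by rw [← neg_one_smul F u, CharTwo.neg_eq, one_smul])
  have hu0 : u = 0 := (Submodule.mem_bot F).1 (hfree ▸ ⟨hu, mem_fix.2 hxu⟩)
  exact hQu (by rw [hu0, QuadraticMap.map_zero])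

theorem nd_or_ts (hx : RIsom Q r x) {U : Submodule F V} (hUi : Inv x U) (hfree : U ⊓ fix x = ⊥)
    (hmin : ∀ T ≤ U, Inv x T → T ≠ ⊥ → T = U) : ND Q U ∨ TS Q U := by
  by_cases h : perp Q U U = ⊥
  · refine Or.inl fun u hu hp => ?_
    have hu' : u ∈ perp Q U U := mem_perp.2 ⟨hu, fun a ha => by rw [QuadraticMap.polar_comm]; exact hp a ha⟩
    rw [h, Submodule.mem_bot] at hu'
    exact hu'
  · refine Or.inr (ts_of_polar_zero hx hUi hfree hmin fun a ha b hb => ?_)
    have e := hmin _ (perp_le U U) (hx.inv_perp r_pos hUi hUi) h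
    exact (mem_perp.1 (e.symm ▸ hb : b ∈ perp Q U U)).2 a ha

include p in
/-- The inverse of a root is its conjugate of order `R`. -/
theorem root_conj (hrp : r ≠ p) (hg : g ∈ factorSet F r) {R : ℕ} (hR : r ∣ R + 1) :
    (AdjoinRoot.root g) ^ R = (AdjoinRoot.root g) ^ (r - 1) := by
  obtain ⟨-, -, hgd, -⟩ := factor_facts' (p := p) hrp hg
  have h1 : (AdjoinRoot.root g) ^ r = 1 := by
    have h := AdjoinRoot.mk_eq_zero.2 hgd
    rw [map_sub, map_pow, AdjoinRoot.mk_X, map_one, sub_eq_zero] at h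
    exact h
  obtain ⟨t, ht⟩ := hR
  obtain ⟨s, rfl⟩ : ∃ s, t = s + 1 := ⟨t - 1, by rcases Nat.eq_zero_or_pos t with rfl | h <;> [simp at ht; omega]⟩
  have hr0 := (Fact.out : r.Prime).pos
  rw [show R = r * s + (r - 1) by rw [Nat.mul_succ] at ht; omega, pow_add, pow_mul, h1, one_pow, one_mul]

/-- The Frobenius power of a factor field. -/
noncomputable def frob (g : F[X]) [Fact (Irreducible g)] (h : ℕ) : AdjoinRoot g →ₐ[F] AdjoinRoot g :=
  (FiniteField.frobeniusAlgHom F (AdjoinRoot g)) ^ h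

theorem frob_apply [Fact (Irreducible g)] (h : ℕ) (k : AdjoinRoot g) : frob g h k = k ^ (Fintype.card F ^ h) := by
  induction h with
  | zero => simp [frob]
  | succ h ih =>
    rw [frob, pow_succ', AlgHom.mul_apply, ← frob, ih, FiniteField.coe_frobeniusAlgHom]
    show (k ^ Fintype.card F ^ h) ^ Fintype.card F = _
    rw [← pow_mul, ← pow_succ]

include p in
theorem comp_dvd [Fact (Irreducible g)] (hrp : r ≠ p) (hg : g ∈ factorSet F r) {h : ℕ}
    (hh : r ∣ Fintype.card F ^ h + 1) : g ∣ g.comp (X ^ (r - 1)) := by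
  rw [← AdjoinRoot.mk_eq_zero, ← AdjoinRoot.aeval_eq, aeval_comp]
  rw [map_pow, aeval_X, ← root_conj (p := p) hrp hg hh, ← frob_apply, aeval_algHom_apply, AdjoinRoot.aeval_eq,
    AdjoinRoot.mk_self, map_zero]

include p in
theorem adjoint_act [Fact (Irreducible g)] (hx : RIsom Q r x) (hrp : r ≠ p) (hg : g ∈ factorSet F r)
    {W : Submodule F V} (hW : Inv x W) (hgW : ∀ w ∈ W, aeval x g w = 0) {h : ℕ}
    (hh : r ∣ Fintype.card F ^ h + 1) (k : AdjoinRoot g) (u w : W) :
    polar (⇑Q) (act g hW hgW k u : V) w = polar (⇑Q) (u : V) (act g hW hgW (frob g h k) w : V) := by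
  obtain ⟨P, rfl⟩ := AdjoinRoot.mk_surjective k
  rw [act_mk, hx.adjoint_aeval r_pos]
  congr 1
  rw [← AdjoinRoot.aeval_eq, ← aeval_algHom_apply, frob_apply, root_conj (p := p) hrp hg hh, ← AdjoinRoot.mk_X,
    ← map_pow, ← AdjoinRoot.aeval_eq]
  have e : (aeval (aeval (AdjoinRoot.root g) (X ^ (r - 1) : F[X]))) P =
      AdjoinRoot.mk g (P.comp (X ^ (r - 1))) := by rw [← AdjoinRoot.aeval_eq, aeval_comp]
  rw [e, act_mk, aeval_comp, map_pow, aeval_X]

include p in
theorem even_of_inverse [Fact (Irreducible g)] (hr2 : r ≠ 2) (hrp : r ≠ p) (hg : g ∈ factorSet F r)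
    (hd : g ∣ g.comp (X ^ (r - 1))) : Even (orderOf (Fintype.card F : ZMod r)) := by
  classical
  obtain ⟨hgi, hdeg, hgd, hg1⟩ := factor_facts' (p := p) hrp hg
  set θ := AdjoinRoot.root g
  set i := orderOf (Fintype.card F : ZMod r) with hi
  haveI : Finite (AdjoinRoot g) := by
    haveI := (AdjoinRoot.powerBasis hgi.ne_zero).finite
    exact Module.finite_of_finite F
  have hθr : θ ^ r = 1 := by
    have h := AdjoinRoot.mk_eq_zero.2 hgd
    rw [map_sub, map_pow, AdjoinRoot.mk_X, map_one, sub_eq_zero] at h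
    exact h
  have hθ1 : θ ≠ 1 := by
    intro e
    refine hg1 ?_
    have h := hgi.dvd_symm (irreducible_X_sub_C (1 : F)) (AdjoinRoot.mk_eq_zero.1 (by
      rw [map_sub, AdjoinRoot.mk_X, AdjoinRoot.mk_C, map_one]; exact sub_eq_zero.2 e))
    rwa [C_1] at h
  have hord : orderOf θ = r := orderOf_eq_prime hθr hθ1
  have hroot : aeval (θ ^ (r - 1)) g = 0 := by
    have h := AdjoinRoot.mk_eq_zero.2 hd
    rw [← AdjoinRoot.aeval_eq, aeval_comp, map_pow, aeval_X] at h
    exact h
  have hminp : minpoly F θ = g := by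
    refine (minpoly.eq_of_irreducible_of_monic hgi ?_ (mem_factorSet g hg).1).symm
    rw [AdjoinRoot.aeval_eq, AdjoinRoot.mk_self]
  have hminp' : minpoly F (θ ^ (r - 1)) = g :=
    (minpoly.eq_of_irreducible_of_monic hgi hroot (mem_factorSet g hg).1).symm
  obtain ⟨j, -, hj⟩ : ∃ j, j < g.natDegree ∧ θ ^ (r - 1) = θ ^ (Fintype.card F ^ j) := by
    haveI : Fintype (AdjoinRoot g) := Fintype.ofFinite _
    obtain ⟨σ, hσ⟩ := (Normal.minpoly_eq_iff_mem_orbit (F := F) (E := AdjoinRoot g) (x := θ ^ (r - 1)) (y := θ)).1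
      (hminp'.trans hminp.symm)
    replace hσ : σ θ = θ ^ (r - 1) := hσ
    obtain ⟨⟨k, hk⟩, hk'⟩ := (FiniteField.bijective_frobeniusAlgEquivOfAlgebraic_pow F (AdjoinRoot g)).2 σ
    refine ⟨k, ?_, ?_⟩
    · rwa [(AdjoinRoot.powerBasis hgi.ne_zero).finrank, AdjoinRoot.powerBasis_dim] at hk
    · replace hk' : FiniteField.frobeniusAlgEquivOfAlgebraic F (AdjoinRoot g) ^ k = σ := hk'
      rw [← hσ, ← hk']
      clear hk' hk hσ
      induction k with
      | zero => simp
      | succ k ih =>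
        rw [pow_succ', AlgEquiv.mul_apply, ih, FiniteField.coe_frobeniusAlgEquivOfAlgebraic]
        show (θ ^ Fintype.card F ^ k) ^ Fintype.card F = _
        rw [← pow_mul, ← pow_succ]
  have hmod : Fintype.card F ^ j % r = (r - 1) % r := by
    have := (IsOfFinOrder.pow_eq_pow_iff_modEq (isOfFinOrder_iff_pow_eq_one.2 ⟨r, r_pos, hθr⟩)).1 hj.symm
    rwa [hord] at this
  have hq : (Fintype.card F : ZMod r) ^ j = -1 := by
    have h := (ZMod.natCast_eq_natCast_iff' _ _ r).2 hmod
    rw [Nat.cast_pow, Nat.cast_sub r_pos, ZMod.natCast_self, Nat.cast_one, zero_sub] at h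
    exact h
  by_contra hodd
  rw [Nat.not_even_iff_odd] at hodd
  have h2 : i ∣ 2 * j := orderOf_dvd_of_pow_eq_one (by rw [mul_comm, pow_mul, hq]; ring)
  have h3 : i ∣ j := (Nat.Coprime.dvd_mul_left (Nat.coprime_two_right.2 hodd)).1 h2
  rw [hi, orderOf_dvd_iff_pow_eq_one, hq] at h3
  haveI : Fact (2 < r) := ⟨lt_of_le_of_ne (Fact.out : r.Prime).two_le (Ne.symm hr2)⟩
  exact ZMod.neg_one_ne_one h3

theorem half_dvd (hq : ¬ r ∣ Fintype.card F) (hev : Even (orderOf (Fintype.card F : ZMod r))) :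
    r ∣ Fintype.card F ^ (orderOf (Fintype.card F : ZMod r) / 2) + 1 := by
  set i := orderOf (Fintype.card F : ZMod r) with hi
  obtain ⟨h, hh⟩ := hev
  have hpos : 0 < i := Cfsg.Lib.Classical.PrimeOrd.ord_pos hq
  rw [← ZMod.natCast_eq_zero_iff, Nat.cast_add, Nat.cast_pow, Nat.cast_one]
  have hsq : ((Fintype.card F : ZMod r) ^ (i / 2)) * ((Fintype.card F : ZMod r) ^ (i / 2)) = 1 := by
    rw [← pow_add, show i / 2 + i / 2 = i by omega, hi]; exact pow_orderOf_eq_one _
  rcases mul_self_eq_one_iff.1 hsq with e | e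
  · exfalso
    have := Nat.le_of_dvd (by omega) (orderOf_dvd_of_pow_eq_one e)
    omega
  · rw [e]; ring

theorem card_modEq {α : Type*} [Finite α] (f : α → α) (hf : ∀ a, f^[r] a = a) :
    Nat.card α ≡ Nat.card {a // f a = a} [MOD r] := by
  classical
  haveI := Fintype.ofFinite α
  have hr0 := r_pos (r := r)
  let σ : Equiv.Perm α :=
    ⟨f, f^[r - 1], fun a => by
      rw [← Function.iterate_succ_apply, Nat.succ_eq_add_one, Nat.sub_add_cancel hr0]; exact hf a,
      fun a => by rw [← Function.iterate_succ_apply' f, Nat.succ_eq_add_one, Nat.sub_add_cancel hr0]; exact hf a⟩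
  have hσ : σ ^ r ^ 1 = 1 := Equiv.ext fun a => by
    rw [pow_one, ← Equiv.Perm.iterate_eq_pow]; exact hf a
  have h := Equiv.Perm.card_compl_support_modEq hσ
  have e : Nat.card {a // f a = a} = σ.supportᶜ.card := by
    rw [Nat.card_eq_fintype_card, Fintype.card_subtype]
    congr 1
    ext a
    simp [σ]
  rw [e, Nat.card_eq_fintype_card]
  exact h.symm

include p in
/-- A nondegenerate fixed-point-free space of dimension twice `h`, with `q ^ h = -1`, is of minus type. -/
theorem not_plus_of_fpf (hx : RIsom Q r x) (hr2 : r ≠ 2) (hrp : r ≠ p) {A : Submodule F V} (hA : Fpf Q x A)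
    (hev : Even (orderOf (Fintype.card F : ZMod r))) (hd : Module.finrank F A = orderOf (Fintype.card F : ZMod r)) :
    ¬ Plus Q A := by
  intro hp
  set i := orderOf (Fintype.card F : ZMod r) with hi
  have hqr : ¬ r ∣ Fintype.card F := Cfsg.Lib.Classical.PrimeOrd.not_dvd_card (p := p) Fact.out hrp
  obtain ⟨h, hh⟩ := hev
  have hpos : 0 < i := Cfsg.Lib.Classical.PrimeOrd.ord_pos hqr
  obtain ⟨-, -, D, hD⟩ := exists_dec hA.nd
  have hidx := (plus_iff hA.nd).1 hp
  have hDd := D.dim
  rw [finrank_top] at hDd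
  obtain ⟨e, he⟩ := plus_equiv D (k := h) (by omega) (by omega)
  have hN : Nat.card {a : A // Q (a : V) = 0} = Fintype.card F ^ (2 * h - 1) + Fintype.card F ^ h - Fintype.card F ^ (h - 1) := by
    rw [← Nat.card_eq_fintype_card, ← Cfsg.Lib.Classical.OrthCard.count_plus h (by omega)]
    exact Nat.card_congr (e.toEquiv.subtypeEquiv fun a => by
      show Q (a : V) = 0 ↔ Cfsg.quadFormPlus h F (e a) = 0
      rw [← he a]; rfl)
  haveI : Finite A := Module.finite_of_finite F
  have hmod := card_modEq (r := r) (fun a : {a : A // Q (a : V) = 0} =>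
    (⟨⟨x a.1, hA.inv _ a.1.2⟩, (hx.iso _).trans a.2⟩ : {a : A // Q (a : V) = 0})) fun a => by
      refine Subtype.ext (Subtype.ext ?_)
      have hj : ∀ j, ((((fun a : {a : A // Q (a : V) = 0} =>
          (⟨⟨x a.1, hA.inv _ a.1.2⟩, (hx.iso _).trans a.2⟩ : {a : A // Q (a : V) = 0}))^[j] a).1 : A) : V) =
          (x ^ j) (a.1 : V) := by
        intro j
        induction j with
        | zero => simp
        | succ j ih =>
          rw [Function.iterate_succ_apply', pow_succ', Module.End.mul_apply, ← ih]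
      rw [hj, hx.pow]; rfl
  rw [hN, show Nat.card {a : {a : A // Q (a : V) = 0} //
      (⟨⟨x a.1, hA.inv _ a.1.2⟩, (hx.iso _).trans a.2⟩ : {a : A // Q (a : V) = 0}) = a} = 1 from by
    refine Nat.card_eq_one_iff_exists.2 ⟨⟨⟨0, QuadraticMap.map_zero Q⟩, by simp⟩, fun ⟨⟨a, ha⟩, hfa⟩ => ?_⟩
    have h1 : x (a : V) = a := congrArg (fun b : {a : A // Q (a : V) = 0} => (b.1 : V)) hfa
    have h0 : (a : V) = 0 := (Submodule.mem_bot F).1 (hA.free ▸ ⟨a.2, mem_fix.2 h1⟩)
    exact Subtype.ext (Subtype.ext (Subtype.ext h0))] at hmod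
  have hhalf := half_dvd hqr ⟨h, hh⟩
  rw [← hi, show i / 2 = h by omega] at hhalf
  set q := Fintype.card F
  have h1 : (q : ZMod r) ^ h = -1 := by
    rw [← ZMod.natCast_eq_zero_iff, Nat.cast_add, Nat.cast_pow, Nat.cast_one] at hhalf
    exact eq_neg_of_add_eq_zero_left hhalf
  obtain ⟨l, hl⟩ : ∃ l, h = l + 1 := ⟨h - 1, by omega⟩
  subst hl
  have hle : q ^ (l + 1 - 1) ≤ q ^ (2 * (l + 1) - 1) + q ^ (l + 1) :=
    le_add_left (Nat.pow_le_pow_right Fintype.card_pos (by omega))
  rw [← ZMod.natCast_eq_natCast_iff, Nat.cast_sub hle, Nat.cast_add, Nat.cast_pow, Nat.cast_pow, Nat.cast_pow,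
    show 2 * (l + 1) - 1 = l + 1 + l by omega, pow_add, h1, Nat.add_sub_cancel, Nat.cast_one] at hmod
  -- so `q ^ l = -1` as well
  have h3 : (q : ZMod r) ^ l = -1 := by
    have h4 : (2 : ZMod r) * ((q : ZMod r) ^ l + 1) = 0 := by linear_combination -hmod
    rcases mul_eq_zero.1 h4 with e | e
    · exfalso
      haveI : Fact (2 < r) := ⟨lt_of_le_of_ne (Fact.out : r.Prime).two_le (Ne.symm hr2)⟩
      exact ZMod.neg_one_ne_one (show (-1 : ZMod r) = 1 by linear_combination -e)
    · exact eq_neg_of_add_eq_zero_left e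
  have h5 : i ∣ 2 * l := orderOf_dvd_of_pow_eq_one (by rw [mul_comm, pow_mul, h3]; ring)
  rcases Nat.eq_zero_or_pos l with rfl | hl0
  · haveI : Fact (2 < r) := ⟨lt_of_le_of_ne (Fact.out : r.Prime).two_le (Ne.symm hr2)⟩
    rw [pow_zero] at h3
    exact ZMod.neg_one_ne_one h3.symm
  · have := Nat.le_of_dvd (by omega) h5
    omega

include p in
theorem nd_part (hx : RIsom Q r x) (hrp : r ≠ p) (hev : Even (orderOf (Fintype.card F : ZMod r)))
    {E : Submodule F V} (hE : Fpf Q x E) (hg : g ∈ factorSet F r) :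
    Fpf Q x (E ⊓ LinearMap.ker (aeval x g)) := by
  classical
  have hrc := r_cast_ne (p := p) (F := F) hrp
  obtain ⟨hgi, -, hgd, -⟩ := factor_facts' (p := p) hrp hg
  haveI := Fact.mk hgi
  have hi := inv_part hE.inv g
  refine hE.mono inf_le_left (fun v hv hperp => hE.nd v hv.1 fun w hw => ?_) hi
  obtain ⟨hP, hhP⟩ := hgd
  have hsq : Squarefree (X ^ r - 1 : F[X]) := by
    have := (separable_X_pow_sub_C (1 : F) hrc one_ne_zero).squarefree
    rwa [C_1] at this
  obtain ⟨a, b, hab⟩ : IsCoprime g hP := hgi.coprime_iff_not_dvd.2 fun hd =>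
    hgi.not_isUnit (hsq g (hhP ▸ mul_dvd_mul_left g hd))
  have hsplit : w = aeval x g (aeval x a w) + aeval x (b * hP) w := by
    rw [← Module.End.mul_apply, ← map_mul, ← LinearMap.add_apply, ← map_add, mul_comm g a, hab, map_one]; rfl
  rw [hsplit, QuadraticMap.polar_add_right, hperp (aeval x (b * hP) w) ⟨aeval_mem' hE.inv _ hw, ?_⟩, add_zero,
    QuadraticMap.polar_comm, hx.adjoint_aeval r_pos, show aeval (x ^ (r - 1)) g v = 0 from ?_,
    QuadraticMap.polar_zero_right]
  · obtain ⟨t, ht⟩ := comp_dvd (p := p) hrp hg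
      (half_dvd (Cfsg.Lib.Classical.PrimeOrd.not_dvd_card (p := p) Fact.out hrp) hev)
    rw [show aeval (x ^ (r - 1)) g = aeval x (g.comp (X ^ (r - 1))) by rw [aeval_comp, map_pow, aeval_X], ht, mul_comm,
      map_mul, Module.End.mul_apply, show aeval x g v = 0 from hv.2, map_zero]
  · rw [SetLike.mem_coe, LinearMap.mem_ker, ← Module.End.mul_apply, ← map_mul,
      show g * (b * hP) = b * (g * hP) by ring, ← hhP, map_mul, map_sub, map_pow, aeval_X, map_one, hx.pow, sub_self,
      mul_zero, LinearMap.zero_apply]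

include p in
theorem finrank_minimal (hx : RIsom Q r x) (hrp : r ≠ p) {U : Submodule F V} (hUi : Inv x U) (hU0 : U ≠ ⊥)
    (hfree : U ⊓ fix x = ⊥) (hmin : ∀ T ≤ U, Inv x T → T ≠ ⊥ → T = U) :
    Module.finrank F U = orderOf (Fintype.card F : ZMod r) := by
  have hqr := Cfsg.Lib.Classical.PrimeOrd.not_dvd_card (F := F) (p := p) (Fact.out : r.Prime) hrp
  refine le_antisymm (Cfsg.Lib.Classical.PrimeOrd.minimal_le Fact.out (Cfsg.Lib.Classical.PrimeOrd.ord_pos hqr).ne'
    ((Cfsg.Lib.Classical.PrimeOrd.dvd_pow_sub_one _).2 dvd_rfl) hx.pow hUi hU0 hmin)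
    (Nat.le_of_dvd (Nat.pos_of_ne_zero fun e => hU0 (Submodule.finrank_eq_zero.1 e))
      (Cfsg.Lib.Classical.PrimeOrd.dvd_of_fpf hx.pow hUi hfree))

include p in
/-- A smallest nondegenerate invariant piece. -/
theorem exists_atom (hx : RIsom Q r x) (hr2 : r ≠ 2) (hrp : r ≠ p) {E : Submodule F V} (hE : Fpf Q x E)
    (hE0 : E ≠ ⊥) :
    ∃ A ≤ E, Fpf Q x A ∧
      Module.finrank F A = (if Even (orderOf (Fintype.card F : ZMod r)) then orderOf (Fintype.card F : ZMod r)
        else 2 * orderOf (Fintype.card F : ZMod r)) ∧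
      (Plus Q A ↔ ¬ Even (orderOf (Fintype.card F : ZMod r))) ∧ A ≠ ⊥ := by
  set i := orderOf (Fintype.card F : ZMod r) with hi
  have hrc := r_cast_ne (p := p) (F := F) hrp
  have hpos : 0 < i := Cfsg.Lib.Classical.PrimeOrd.ord_pos
    (Cfsg.Lib.Classical.PrimeOrd.not_dvd_card (p := p) Fact.out hrp)
  by_cases hev : Even i
  · rw [if_pos hev]
    obtain ⟨g, hg, hg0⟩ := exists_factor (p := p) hx hrp hE.inv (hE.mov_le hx hrc) hE0
    obtain ⟨hgi, hgdeg, -, -⟩ := factor_facts' (p := p) hrp hg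
    haveI := Fact.mk hgi
    have hEg := nd_part (p := p) hx hrp hev hE hg
    set Eg := E ⊓ LinearMap.ker (aeval x g)
    have hk : ∀ w ∈ Eg, aeval x g w = 0 := fun w hw => hw.2
    by_contra hno
    refine hg0 (eq_bot_iff.2 fun v hv => ?_)
    have hQ0 : ∀ u : Eg, Q (u : V) = 0 := fun u => by
      by_cases hu : u = 0
      · rw [hu]; simp
      have hle : cyc g hEg.inv hk u ≤ E := (cyc_le _ _ u).trans inf_le_left
      have hfr : cyc g hEg.inv hk u ⊓ fix x = ⊥ := eq_bot_iff.2 ((inf_le_inf_right _ hle).trans hE.free.le)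
      rcases nd_or_ts hx (inv_cyc hEg.inv hk u) hfr (fun T hT hTi hT0 => cyc_minimal hEg.inv hk hu hTi hT hT0) with hn | ht
      · exfalso
        have hd : Module.finrank F (cyc g hEg.inv hk u) = i := (finrank_cyc hEg.inv hk hu).trans hgdeg
        refine hno ⟨_, hle, hE.mono hle hn (inv_cyc _ _ u), hd, iff_of_false
          (not_plus_of_fpf (p := p) hx hr2 hrp (hE.mono hle hn (inv_cyc _ _ u)) hev hd) (not_not.2 hev), fun e => ?_⟩
        have := self_mem_cyc hEg.inv hk u
        rw [e, Submodule.mem_bot] at this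
        exact hu (Subtype.ext this)
      · exact ht _ (self_mem_cyc hEg.inv hk u)
    exact (Submodule.mem_bot F).2 (hEg.nd v hv fun w hw => ts_polar (U := Eg) (fun z hz => hQ0 ⟨z, hz⟩) hv hw)
  · rw [if_neg hev]
    obtain ⟨U, hUE, hUi, hU0, hmin⟩ := exists_minimal hE.inv hE0
    have hfr : U ⊓ fix x = ⊥ := eq_bot_iff.2 ((inf_le_inf_right _ hUE).trans hE.free.le)
    have hUd := finrank_minimal (p := p) hx hrp hUi hU0 hfr hmin
    -- minimal pieces are totally singular
    have allts : ∀ T ≤ E, Inv x T → T ≠ ⊥ → (∀ T' ≤ T, Inv x T' → T' ≠ ⊥ → T' = T) → TS Q T := by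
      intro T hTE hTi hT0 hTmin
      have hfrT : T ⊓ fix x = ⊥ := eq_bot_iff.2 ((inf_le_inf_right _ hTE).trans hE.free.le)
      refine (nd_or_ts hx hTi hfrT hTmin).resolve_left fun hn => hev ?_
      have hTfp := hE.mono hTE hn hTi
      obtain ⟨g, hg, hgT⟩ := exists_factor (p := p) hx hrp hTi (hTfp.mov_le hx hrc) hT0
      obtain ⟨hgi, -, -, -⟩ := factor_facts' (p := p) hrp hg
      haveI := Fact.mk hgi
      have hTg : ∀ v ∈ T, aeval x g v = 0 := fun v hv =>
        ((hTmin _ inf_le_left (inv_part hTi g) hgT).symm ▸ hv : v ∈ T ⊓ LinearMap.ker (aeval x g)).2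
      obtain ⟨v, hv, hv0⟩ := T.exists_mem_ne_zero_of_ne_bot hT0
      have hkill : aeval x (g.comp (X ^ (r - 1))) v = 0 := by
        rw [aeval_comp, map_pow, aeval_X]
        refine hn _ ?_ fun w hw => ?_
        · rw [← aeval_X (R := F) x, ← map_pow, ← aeval_comp]; exact aeval_mem' hTi _ hv
        · rw [QuadraticMap.polar_comm, ← hx.adjoint_aeval r_pos, hTg w hw, QuadraticMap.polar_zero_left]
      refine even_of_inverse (p := p) hr2 hrp hg ?_
      by_contra hndv
      obtain ⟨a, b, hab⟩ := hgi.coprime_iff_not_dvd.2 hndv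
      have e := congrArg (fun P => aeval x P v) hab
      simp only [map_add, map_mul, map_one, LinearMap.add_apply, Module.End.mul_apply, Module.End.one_apply, hkill,
        hTg v hv, map_zero, add_zero] at e
      exact hv0 e.symm
    have hUts := allts U hUE hUi hU0 hmin
    have hperpi := hx.inv_perp r_pos hE.inv hUi
    have hdp := finrank_perp hE.nd hUE
    obtain ⟨C₀, hC₀, hcompl⟩ := exists_compl (semisimple (c := (1 : F)) hrc one_ne_zero
      (by rw [hx.pow, one_smul])) hperpi
    set C := C₀ ⊓ E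
    have hsup : perp Q E U ⊔ C = E := by
      rw [← sup_inf_assoc_of_le C₀ (perp_le E U), hcompl.sup_eq_top, top_inf_eq]
    have hdisj : perp Q E U ⊓ C = ⊥ := eq_bot_iff.2 ((inf_le_inf_left _ inf_le_left).trans hcompl.inf_eq_bot.le)
    have hCd : Module.finrank F C = i := by
      have := Submodule.finrank_sup_add_finrank_inf_eq (perp Q E U) C
      rw [hsup, hdisj, finrank_bot] at this
      omega
    have hC0 : C ≠ ⊥ := fun e => by rw [e, finrank_bot] at hCd; omega
    have hCi : Inv x C := hC₀.inf hE.inv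
    have hCfr : C ⊓ fix x = ⊥ := eq_bot_iff.2 ((inf_le_inf_right _ inf_le_right).trans hE.free.le)
    have hCmin : ∀ T ≤ C, Inv x T → T ≠ ⊥ → T = C := fun T hT hTi hT0 => by
      refine Submodule.eq_of_le_of_finrank_le hT ?_
      rw [hCd]
      exact Nat.le_of_dvd (Nat.pos_of_ne_zero fun e => hT0 (Submodule.finrank_eq_zero.1 e))
        (Cfsg.Lib.Classical.PrimeOrd.dvd_of_fpf hx.pow hTi (eq_bot_iff.2 ((inf_le_inf_right _ hT).trans hCfr.le)))
    have hCts := allts C inf_le_right hCi hC0 hCmin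
    have hUC : U ⊓ C = ⊥ := eq_bot_iff.2 fun v hv => by
      rw [← hdisj]
      exact ⟨mem_perp.2 ⟨hUE hv.1, fun a ha => ts_polar hUts ha hv.1⟩, hv.2⟩
    have hdim : Module.finrank F ↥(U ⊔ C) = 2 * i := by
      have := Submodule.finrank_sup_add_finrank_inf_eq U C
      rw [hUC, finrank_bot, hUd, hCd] at this
      omega
    have hn : ND Q (U ⊔ C) := by
      intro v hv h
      obtain ⟨a, ha, b, hb, rfl⟩ := mem_sup.1 hv
      have hb0 : b = 0 := by
        have hb' : b ∈ perp Q E U ⊓ C := by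
          refine ⟨mem_perp.2 ⟨hb.2, fun u hu => ?_⟩, hb⟩
          have := h u (mem_sup_left hu)
          rw [QuadraticMap.polar_add_left, ts_polar hUts ha hu, zero_add] at this
          rw [QuadraticMap.polar_comm]; exact this
        rw [hdisj, Submodule.mem_bot] at hb'
        exact hb'
      subst hb0
      rw [add_zero]
      refine hE.nd a (hUE ha) fun w hw => ?_
      rw [← hsup] at hw
      obtain ⟨w₁, hw₁, w₂, hw₂, rfl⟩ := mem_sup.1 hw
      have := h w₂ (mem_sup_right hw₂)
      rw [add_zero] at this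
      rw [QuadraticMap.polar_add_right, this, (mem_perp.1 hw₁).2 a ha, add_zero]
    refine ⟨U ⊔ C, sup_le hUE inf_le_right, hE.mono (sup_le hUE inf_le_right) hn (hUi.sup hCi), hdim,
      iff_of_true ⟨U, le_sup_left, hUts, by omega⟩ hev, fun e => by rw [e, finrank_bot] at hdim; omega⟩

include p in
/-- Dimension and type of a fixed-point-free nondegenerate subspace. -/
theorem fpf_dim (hx : RIsom Q r x) (hr2 : r ≠ 2) (hrp : r ≠ p) {E : Submodule F V} (hE : Fpf Q x E) {i c : ℕ}
    (hi : i = orderOf (Fintype.card F : ZMod r)) (hc : c = if Even i then i else 2 * i) :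
    ∃ j, Module.finrank F E = c * j ∧ Even (Module.finrank F E) ∧ (Plus Q E ↔ (¬ Even i ∨ Even j)) := by
  subst hi
  have hce : Even c := by rw [hc]; split_ifs with he; exacts [he, even_two_mul _]
  suffices H : ∀ n (E : Submodule F V), Module.finrank F E = n → Fpf Q x E →
      ∃ j, Module.finrank F E = c * j ∧
        (Plus Q E ↔ (¬ Even (orderOf (Fintype.card F : ZMod r)) ∨ Even j)) by
    obtain ⟨j, h1, h2⟩ := H _ E rfl hE
    exact ⟨j, h1, h1 ▸ hce.mul_right j, h2⟩
  intro n
  induction n using Nat.strong_induction_on with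
  | _ n ih =>
  intro E hn hE
  by_cases h0 : E = ⊥
  · subst h0
    exact ⟨0, by simp, iff_of_true plus_bot (Or.inr ⟨0, rfl⟩)⟩
  obtain ⟨A, hA, hAf, hAd, hAp, hA0⟩ := exists_atom (p := p) hx hr2 hrp hE h0
  rw [← hc] at hAd
  obtain ⟨hsup, hBn⟩ := sup_perp hE.nd hA hAf.nd
  have hB : Fpf Q x (perp Q E A) := hE.mono (perp_le E A) hBn (hx.inv_perp r_pos hE.inv hAf.inv)
  have hd := finrank_perp hE.nd hA
  have hApos : 0 < Module.finrank F A := Nat.pos_of_ne_zero fun e => hA0 (Submodule.finrank_eq_zero.1 e)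
  obtain ⟨j, hj, hjp⟩ := ih _ (by omega) (perp Q E A) rfl hB
  refine ⟨j + 1, by rw [Nat.mul_succ]; omega, ?_⟩
  conv_lhs => rw [← hsup]
  rw [plus_sup_iff hAf.nd hBn (orth_perp E A) (hAd ▸ hce) (hj ▸ hce.mul_right j), hAp, hjp, Nat.even_add_one]
  tauto

end Poly

end Cfsg.Lib.OrthEl
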