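import Cfsg.Agent.Classical.OrthElusive.TwoOdd

/-!
# The classes of the statements
-/

set_option autoImplicit false
set_option linter.unusedSectionVars false

open QuadraticMap Submodule Cfsg.Lib.FormNormal
open Cfsg.Lib.Classical.PrimeOrd (Inv)

namespace Cfsg.Lib.OrthEl

universe u

variable {F : Type u} [Field F] [Fintype F] {ι : Type} [Fintype ι] [DecidableEq ι]
  {Q : QuadraticForm F (ι → F)}

/-- A representative of an even class. -/
theorem exists_class (hQ : (polarBilin Q).Nondegenerate) {m : ℕ} (hme : Even m) (hm : 0 < m)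
    (hmn : m < Fintype.card ι) (b : Prop) :
    ∃ W₀ : Submodule F (ι → F), ND Q W₀ ∧ Module.finrank F W₀ = m ∧ (Plus Q W₀ ↔ b) := by
  obtain ⟨R, -, h⟩ := exists_type (nd_top_of_nondeg hQ) hme hm
    (by rw [finrank_top, Module.finrank_fintype_fun_eq_card]; exact hmn) b
  exact ⟨R, h⟩

/-- The class of plus type. -/
theorem plus_class_iff {W₀ W : Submodule F (ι → F)} (hW₀ : ND Q W₀) {m : ℕ} (hm : Module.finrank F W₀ = m)
    (hme : Even m) (hp : Plus Q W₀) :
    (Module.finrank F W = m ∧ Cfsg.Geo.IsNondegenerateOn (polar (⇑Q)) W ∧ Cfsg.Geo.IsPlusTypeOn (⇑Q) W) ↔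
      Iso Q W₀ W := by
  rw [← class_iff hW₀ hm hme, isND_iff]
  exact and_congr_right' (and_congr_right' (isPlus_iff.trans (iff_true_right hp).symm))

/-- The class of minus type. -/
theorem minus_class_iff {W₀ W : Submodule F (ι → F)} (hW₀ : ND Q W₀) {m : ℕ} (hm : Module.finrank F W₀ = m)
    (hme : Even m) (hp : ¬ Plus Q W₀) :
    (Module.finrank F W = m ∧ Cfsg.Geo.IsNondegenerateOn (polar (⇑Q)) W ∧ ¬ Cfsg.Geo.IsPlusTypeOn (⇑Q) W) ↔
      Iso Q W₀ W := by
  rw [← class_iff hW₀ hm hme, isND_iff]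
  exact and_congr_right' (and_congr_right' ((not_congr isPlus_iff).trans (iff_false_right hp).symm))

/-- The class of plus type with the predicates written out. -/
theorem plus_class_raw {W₀ W : Submodule F (ι → F)} (hW₀ : ND Q W₀) {m : ℕ} (hm : Module.finrank F W₀ = m)
    (hme : Even m) (hp : Plus Q W₀) :
    (Module.finrank F W = m ∧ (∀ u ∈ W, u ≠ 0 → ∃ v ∈ W, polar (⇑Q) u v ≠ 0) ∧
        ∃ U : Submodule F (ι → F), U ≤ W ∧ 2 * Module.finrank F U = m ∧ ∀ u ∈ U, Q u = 0) ↔ Iso Q W₀ W := by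
  rw [← class_iff hW₀ hm hme, polar_nd_iff]
  refine and_congr_right fun hd => and_congr_right' ⟨fun ⟨U, hU, h1, h2⟩ => iff_of_true ⟨U, hU, h2, h1.trans hd.symm⟩ hp,
    fun h => ?_⟩
  obtain ⟨U, hU, h1, h2⟩ := h.2 hp
  exact ⟨U, hU, h2.trans hd, h1⟩

theorem card_congr_class {P : Submodule F (ι → F) → Prop} {W₀ : Submodule F (ι → F)} (h : ∀ W, P W ↔ Iso Q W₀ W) :
    Nat.card {W : Submodule F (ι → F) // P W} = Nat.card {W : Submodule F (ι → F) // Iso Q W₀ W} :=
  Nat.card_congr (Equiv.subtypeEquivRight h)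

variable {r : ℕ} [Fact r.Prime]

/-- Elements of `Ω` against isometries of order dividing `r`, projective version. -/
theorem allFix_scalar (hQ : (polarBilin Q).Nondegenerate) (hn : 6 ≤ Fintype.card ι) (hr2 : r ≠ 2)
    {P : Submodule F (ι → F) → Prop} {W₀ : Submodule F (ι → F)} (h : ∀ W, P W ↔ Iso Q W₀ W) :
    (∀ x : GL ι F, x ∈ Cfsg.Geo.omegaGL (⇑Q) →
      (∃ z : F, ((x ^ r : GL ι F) : Matrix ι ι F) = z • (1 : Matrix ι ι F)) →
      (∀ z : F, (x : Matrix ι ι F) ≠ z • (1 : Matrix ι ι F)) →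
      ∃ W, P W ∧ W.map (Matrix.toLin' (x : Matrix ι ι F)) ≤ W) ↔ AllFix Q r W₀ := by
  rw [bridge_scalar hQ hn hr2 P ⟨W₀, (h W₀).2 (Iso.refl W₀)⟩]
  exact forall₂_congr fun x _ => exists_congr fun W => and_congr_left' (h W)

/-- Elements of `Ω` against isometries of order dividing `r`. -/
theorem allFix_order (hQ : (polarBilin Q).Nondegenerate) (hn : 6 ≤ Fintype.card ι) (hr2 : r ≠ 2)
    {P : Submodule F (ι → F) → Prop} {W₀ : Submodule F (ι → F)} (h : ∀ W, P W ↔ Iso Q W₀ W) :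
    (∀ x : GL ι F, x ∈ Cfsg.Geo.omegaGL (⇑Q) → orderOf x = r →
      ∃ W, P W ∧ W.map (Matrix.toLin' (x : Matrix ι ι F)) ≤ W) ↔ AllFix Q r W₀ := by
  rw [bridge_order hQ hn hr2 P ⟨W₀, (h W₀).2 (Iso.refl W₀)⟩]
  exact forall₂_congr fun x _ => exists_congr fun W => and_congr_left' (h W)

end Cfsg.Lib.OrthEl
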