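import Cfsg.Agent.Classical.OrthElusive.Atom

/-!
# Existence of isometries of odd prime order with prescribed pieces
-/

set_option autoImplicit false
set_option linter.unusedSectionVars false

open QuadraticMap Submodule Cfsg.Lib.FormNormal Polynomial
open Cfsg.Lib.Classical.PrimeOrd (Inv fix mov mem_fix res res_pow isCompl_fix_mov)
open Cfsg.Lib.PrimeOrderPoly (factorSet mem_factorSet)

namespace Cfsg.Lib.OrthEl

universe u v

variable {F : Type u} [Field F] [Fintype F] {V : Type v} [AddCommGroup V] [Module F V] [FiniteDimensional F V]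
  {Q : QuadraticForm F V} {r : ℕ}

theorem aeval_agree {x x' : Module.End F V} {W : Submodule F V} (hW : Inv x W) (h : ∀ w ∈ W, x' w = x w) (P : F[X])
    {w : V} (hw : w ∈ W) : aeval x' P w = aeval x P w := by
  induction P using Polynomial.induction_on' with
  | add P R hP hR => simp [hP, hR]
  | monomial k a =>
    rw [aeval_monomial, aeval_monomial, Module.End.mul_apply, Module.End.mul_apply]
    congr 1
    have key : ∀ j, (x' ^ j) w = (x ^ j) w ∧ (x ^ j) w ∈ W := fun j => by
      induction j with
      | zero => simpa using hw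
      | succ j ih =>
        rw [pow_succ', pow_succ', Module.End.mul_apply, Module.End.mul_apply, ih.1, h _ ih.2]
        exact ⟨rfl, hW _ ih.2⟩
    exact (key k).1

/-- Gluing isometries of orthogonal complements. -/
theorem glue {A B : Submodule F V} (hAB : IsCompl A B) (hor : Orth Q A B) (TA : Module.End F A) (TB : Module.End F B)
    (hA : ∀ a : A, Q (TA a : V) = Q (a : V)) (hB : ∀ b : B, Q (TB b : V) = Q (b : V)) (hAr : TA ^ r = 1)
    (hBr : TB ^ r = 1) :
    ∃ x : Module.End F V, RIsom Q r x ∧ (∀ a : A, x a = TA a) ∧ ∀ b : B, x b = TB b := by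
  let e := Submodule.prodEquivOfIsCompl A B hAB
  let x : Module.End F V := e.toLinearMap ∘ₗ (TA.prodMap TB) ∘ₗ e.symm.toLinearMap
  have hx : ∀ p : A × B, x ((p.1 : V) + p.2) = (TA p.1 : V) + TB p.2 := fun p => by
    have he : e p = (p.1 : V) + p.2 := Submodule.coe_prodEquivOfIsCompl' A B hAB p
    rw [← he]
    show e ((TA.prodMap TB) (e.symm (e p))) = _
    rw [e.symm_apply_apply]
    exact Submodule.coe_prodEquivOfIsCompl' A B hAB _
  have hsur : ∀ v : V, ∃ p : A × B, v = (p.1 : V) + p.2 := fun v =>
    ⟨e.symm v, by rw [← Submodule.coe_prodEquivOfIsCompl' A B hAB]; exact (e.apply_symm_apply v).symm⟩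
  refine ⟨x, ⟨fun v => ?_, LinearMap.ext fun v => ?_⟩, fun a => ?_, fun b => ?_⟩
  · obtain ⟨p, rfl⟩ := hsur v
    rw [hx, hor.q_add (TA p.1).2 (TB p.2).2, hor.q_add p.1.2 p.2.2, hA, hB]
  · obtain ⟨p, rfl⟩ := hsur v
    have hj : ∀ j, (x ^ j) ((p.1 : V) + p.2) = ((TA ^ j) p.1 : V) + (TB ^ j) p.2 := fun j => by
      induction j with
      | zero => simp
      | succ j ih =>
        rw [pow_succ', pow_succ', pow_succ', Module.End.mul_apply, ih, hx ((TA ^ j) p.1, (TB ^ j) p.2)]
        rfl
    rw [hj, hAr, hBr]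
    rfl
  · simpa using hx (a, 0)
  · simpa using hx (0, b)

theorem last_piece {P A B : Prop} (h : (A ∨ ¬ B) ↔ (P ↔ (A ∨ B))) : P ↔ A := by tauto

variable {p : ℕ} [Fact p.Prime] [CharP F p] [Fact r.Prime]

include p in
/-- The model of a piece. -/
theorem exists_model (hr2 : r ≠ 2) (hrp : r ≠ p) {g : F[X]} (hg : g ∈ factorSet F r) {i c : ℕ}
    (hi : i = orderOf (Fintype.card F : ZMod r)) (hc : c = if Even i then i else 2 * i) :
    ∃ (K : Type u) (_ : AddCommGroup K) (_ : Module F K) (_ : FiniteDimensional F K) (P : QuadraticForm F K)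
      (T : Module.End F K), RIsom P r T ∧ Fpf P T ⊤ ∧ Module.finrank F K = c ∧ (Even i → aeval T g = 0) := by
  classical
  obtain ⟨hgi, hgd, hgr, hg1⟩ := factor_facts' (p := p) hrp hg
  haveI := Fact.mk hgi
  haveI := (AdjoinRoot.powerBasis hgi.ne_zero).finite
  have hK : Module.finrank F (AdjoinRoot g) = i := by
    rw [(AdjoinRoot.powerBasis hgi.ne_zero).finrank, AdjoinRoot.powerBasis_dim, hgd, hi]
  set θ := AdjoinRoot.root g
  have hθr : θ ^ r = 1 := by
    have h := AdjoinRoot.mk_eq_zero.2 hgr
    rw [map_sub, map_pow, AdjoinRoot.mk_X, map_one, sub_eq_zero] at h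
    exact h
  have hθ1 : θ ≠ 1 := by
    intro e
    refine hg1 ?_
    have h := hgi.dvd_symm (irreducible_X_sub_C (1 : F)) (AdjoinRoot.mk_eq_zero.1 (by
      rw [map_sub, AdjoinRoot.mk_X, AdjoinRoot.mk_C, map_one]; exact sub_eq_zero.2 e))
    rwa [C_1] at h
  by_cases hev : Even i
  · obtain ⟨h, hh⟩ := hev
    have hhalf : r ∣ Fintype.card F ^ h + 1 := by
      have := half_dvd (F := F) (r := r) (Cfsg.Lib.Classical.PrimeOrd.not_dvd_card (p := p) Fact.out hrp) (hi ▸ ⟨h, hh⟩)
      rwa [← hi, show i / 2 = h by omega] at this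
    set σ := frob g h
    have hσθ : σ θ = θ ^ (r - 1) := (frob_apply h θ).trans (root_conj (p := p) hrp hg hhalf)
    have hnorm : σ θ * θ = 1 := by rw [hσθ, ← pow_succ, Nat.sub_add_cancel r_pos, hθr]
    obtain ⟨a₀, ha₀⟩ : ∃ a : AdjoinRoot g, a + σ a ≠ 0 := by
      by_contra hh
      push Not at hh
      have h1 := hh 1
      rw [map_one] at h1
      have h2 := hh θ
      have h3 : θ * θ = 1 := by
        rw [← hnorm]
        linear_combination (-θ) * h2 + (θ * θ) * h1
      have h4 : orderOf θ ∣ 2 := orderOf_dvd_of_pow_eq_one (by rw [pow_two, h3])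
      rw [orderOf_eq_prime hθr hθ1] at h4
      exact hr2 ((Nat.prime_dvd_prime_iff_eq Fact.out Nat.prime_two).1 h4)
    obtain ⟨lam, hlam⟩ : ∃ lam : AdjoinRoot g →ₗ[F] F, lam (a₀ + σ a₀) ≠ 0 := by
      by_contra hh
      push Not at hh
      exact ha₀ ((Module.forall_dual_apply_eq_zero_iff F _).mp hh)
    let Bf : LinearMap.BilinMap F (AdjoinRoot g) F :=
      ((LinearMap.mul F (AdjoinRoot g)).comp σ.toLinearMap).compr₂ lam
    let P : QuadraticForm F (AdjoinRoot g) := Bf.toQuadraticMap
    have hP : ∀ z, P z = lam (σ z * z) := fun z => rfl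
    have hpol : ∀ z w, polar (⇑P) z w = lam (σ z * w + σ w * z) := fun z w => by
      rw [LinearMap.BilinMap.polar_toQuadraticMap, map_add]; rfl
    have hσσ : ∀ z, σ (σ z) = z := fun z => by
      haveI : Finite (AdjoinRoot g) := Module.finite_of_finite F
      haveI := Fintype.ofFinite (AdjoinRoot g)
      rw [frob_apply, frob_apply, ← pow_mul, ← pow_add, ← hh, ← hK, ← Module.card_eq_pow_finrank, FiniteField.pow_card]
    refine ⟨_, inferInstance, inferInstance, inferInstance, P, LinearMap.mulLeft F θ, ⟨fun z => ?_, ?_⟩,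
      ⟨fun z _ hz => ?_, fun _ _ => trivial, eq_bot_iff.2 fun z hz => ?_⟩, ?_, fun _ => ?_⟩
    · rw [hP, hP, LinearMap.mulLeft_apply, map_mul σ, mul_mul_mul_comm, hnorm, one_mul]
    · rw [LinearMap.pow_mulLeft, hθr, LinearMap.mulLeft_one]; rfl
    · by_contra hz0
      have hs0 : σ z ≠ 0 := (map_ne_zero σ).2 hz0
      have := hz (a₀ / σ z) trivial
      rw [hpol, map_div₀, hσσ, mul_div_cancel₀ _ hs0, div_mul_cancel₀ _ hz0] at this
      exact hlam this
    · have e := mem_fix.1 hz.2
      rw [LinearMap.mulLeft_apply] at e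
      by_contra h0
      exact hθ1 ((mul_eq_right₀ fun e' => h0 (by rw [Submodule.mem_bot]; exact e')).1 e)
    · rw [hc, if_pos ⟨h, hh⟩, hK]
    · have : LinearMap.mulLeft F θ = Algebra.lmul F (AdjoinRoot g) θ := rfl
      rw [this, aeval_algHom_apply, AdjoinRoot.aeval_eq, AdjoinRoot.mk_self, map_zero]
  · obtain ⟨lam, hlam⟩ : ∃ lam : AdjoinRoot g →ₗ[F] F, lam 1 ≠ 0 := by
      by_contra hh
      push Not at hh
      exact one_ne_zero ((Module.forall_dual_apply_eq_zero_iff F (1 : AdjoinRoot g)).mp hh)
    have hθ0 : θ ≠ 0 := fun e => by rw [e, zero_pow (Fact.out : r.Prime).ne_zero] at hθr; exact zero_ne_one hθr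
    let Bf : LinearMap.BilinMap F (AdjoinRoot g × AdjoinRoot g) F :=
      (((LinearMap.mul F (AdjoinRoot g)).comp (LinearMap.fst F _ _)).compl₂ (LinearMap.snd F _ _)).compr₂ lam
    let P : QuadraticForm F (AdjoinRoot g × AdjoinRoot g) := Bf.toQuadraticMap
    have hP : ∀ z, P z = lam (z.1 * z.2) := fun z => rfl
    have hpol : ∀ z w, polar (⇑P) z w = lam (z.1 * w.2) + lam (w.1 * z.2) := fun z w => by
      rw [LinearMap.BilinMap.polar_toQuadraticMap]; rfl
    refine ⟨_, inferInstance, inferInstance, inferInstance, P,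
      (LinearMap.mulLeft F θ).prodMap (LinearMap.mulLeft F θ⁻¹), ⟨fun z => ?_, ?_⟩,
      ⟨fun z _ hz => ?_, fun _ _ => trivial, eq_bot_iff.2 fun z hz => ?_⟩, ?_, fun e => absurd e hev⟩
    · rw [hP, hP]
      show lam (θ * z.1 * (θ⁻¹ * z.2)) = _
      rw [mul_mul_mul_comm, mul_inv_cancel₀ hθ0, one_mul]
    · refine LinearMap.ext fun z => ?_
      have hj : ∀ j, ((LinearMap.mulLeft F θ).prodMap (LinearMap.mulLeft F θ⁻¹) ^ j) z = (θ ^ j * z.1, θ⁻¹ ^ j * z.2) :=
        fun j => by
          induction j with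
          | zero => simp
          | succ j ih =>
            rw [pow_succ', Module.End.mul_apply, ih]
            simp [pow_succ', mul_assoc]
      rw [hj, hθr, inv_pow, hθr, inv_one, one_mul, one_mul]; rfl
    · refine Prod.ext ?_ ?_ <;> by_contra h0
      · have := hz (0, z.1⁻¹) trivial
        rw [hpol, mul_inv_cancel₀ h0, zero_mul, map_zero, add_zero] at this
        exact hlam this
      · have := hz (z.2⁻¹, 0) trivial
        rw [hpol, mul_zero, map_zero, zero_add, inv_mul_cancel₀ h0] at this
        exact hlam this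
    · have e := mem_fix.1 hz.2
      have e1 : θ * z.1 = z.1 := congrArg Prod.fst e
      have e2 : θ⁻¹ * z.2 = z.2 := congrArg Prod.snd e
      rw [Submodule.mem_bot]
      refine Prod.ext ?_ ?_ <;> by_contra h0
      · exact hθ1 ((mul_eq_right₀ h0).1 e1)
      · exact hθ1 (inv_eq_one.1 ((mul_eq_right₀ h0).1 e2))
    · rw [hc, if_neg hev, Module.finrank_prod, hK]; ring

include p in
/-- An isometry moving exactly a given piece. -/
theorem exists_on_piece (hr2 : r ≠ 2) (hrp : r ≠ p) {g : F[X]} (hg : g ∈ factorSet F r) {i c : ℕ}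
    (hi : i = orderOf (Fintype.card F : ZMod r)) (hc : c = if Even i then i else 2 * i) {A : Submodule F V}
    (hA : ND Q A) (hd : Module.finrank F A = c) (hp : Plus Q A ↔ ¬ Even i) :
    ∃ T : Module.End F A, (∀ a : A, Q (T a : V) = Q (a : V)) ∧ T ^ r = 1 ∧ (∀ a, T a = a → a = 0) ∧
      (Even i → aeval T g = 0) := by
  obtain ⟨K, _, _, _, P, T, hT, hTf, hKd, hTg⟩ := exists_model (p := p) hr2 hrp hg hi hc
  obtain ⟨j, hj, hje, hjp⟩ := fpf_dim (p := p) hT hr2 hrp hTf hi hc
  have hipos : 0 < i := hi ▸ Cfsg.Lib.Classical.PrimeOrd.ord_pos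
    (Cfsg.Lib.Classical.PrimeOrd.not_dvd_card (p := p) Fact.out hrp)
  rw [finrank_top, hKd] at hj
  have hj1 : j = 1 := by
    have hc0 : 0 < c := by rw [hc]; split_ifs <;> omega
    exact (Nat.eq_of_mul_eq_mul_left hc0 (show c * j = c * 1 by omega))
  obtain ⟨D, hD, -⟩ := exists_dec hTf.nd
  obtain ⟨-, -, D', hD'⟩ := exists_dec hA
  have h1 := idx_bounds hTf.nd
  have h2 := idx_bounds hA
  rw [plus_iff hA] at hp
  rw [plus_iff hTf.nd, hj1] at hjp
  rw [finrank_top, hKd] at h1 hjp hje
  obtain ⟨a, ha⟩ := hje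
  have hm : D'.m = D.m := by
    rw [hD, hD']
    by_cases hev : Even i
    · have n1 : ¬ 2 * idx Q A = Module.finrank F A := fun e => hp.1 e hev
      have n2 : ¬ 2 * idx P ⊤ = c := fun e => (hjp.1 e).elim (· hev) (by decide)
      omega
    · have n1 := hp.2 hev
      have n2 := hjp.2 (Or.inl hev)
      omega
  obtain ⟨e, he⟩ := equiv_of_index D' D hm (hd.trans hKd.symm) (hd ▸ ⟨a, ha⟩)
  refine ⟨e.symm.toLinearMap ∘ₗ T ∘ₗ e.toLinearMap, fun w => ?_, LinearMap.ext fun w => ?_, fun w hw => ?_, fun hev => ?_⟩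
  · refine (he _).trans ?_
    show P (e (e.symm (T (e w)))) = _
    rw [e.apply_symm_apply, hT.iso, ← he w]
    rfl
  · have hj' : ∀ j, ((e.symm.toLinearMap ∘ₗ T ∘ₗ e.toLinearMap) ^ j) w = e.symm ((T ^ j) (e w)) := fun j => by
      induction j with
      | zero => simp
      | succ j ih => rw [pow_succ', Module.End.mul_apply, ih, pow_succ', Module.End.mul_apply]; simp
    rw [hj', hT.pow]
    simp
  · have h0 : e w ∈ (⊤ : Submodule F K) ⊓ fix T :=
      ⟨trivial, mem_fix.2 (e.symm.injective (by rw [e.symm_apply_apply]; exact hw))⟩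
    rw [hTf.free, Submodule.mem_bot, LinearEquiv.map_eq_zero_iff] at h0
    exact h0
  · have key : ∀ (R : F[X]) (w : A), aeval (e.symm.toLinearMap ∘ₗ T ∘ₗ e.toLinearMap) R w = e.symm (aeval T R (e w)) := by
      intro R w
      induction R using Polynomial.induction_on' with
      | add R S hR hS => simp [hR, hS]
      | monomial k t =>
        simp only [aeval_monomial, Module.End.mul_apply, Module.algebraMap_end_apply, map_smul]
        congr 1
        induction k with
        | zero => simp
        | succ k ih => rw [pow_succ', Module.End.mul_apply, ih, pow_succ', Module.End.mul_apply]; simp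
    exact LinearMap.ext fun w => by rw [key, hTg hev]; simp

/-- The fixed space and the moved space split the type. -/
theorem plus_fix {x : Module.End F V} (hx : RIsom Q r x) (hr : (r : F) ≠ 0) (hQ : ND Q (⊤ : Submodule F V))
    (hn : Even (Module.finrank F V)) (hm : Even (Module.finrank F (mov x))) :
    Plus Q (⊤ : Submodule F V) ↔ (Plus Q (fix x) ↔ Plus Q (mov x)) := by
  obtain ⟨hfn, hmn⟩ := hx.nd_fix hr hQ
  have hc := isCompl_fix_mov hr hx.pow
  rw [← hc.sup_eq_top]
  refine plus_sup_iff hfn hmn.nd hx.fix_orth_mov ?_ hm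
  have := Submodule.finrank_add_eq_of_isCompl hc
  rw [← this] at hn
  exact (Nat.even_add.1 hn).2 hm

include p in
/-- Build an isometry from a list of factors. -/
theorem exists_isom (hr2 : r ≠ 2) (hrp : r ≠ p) (hQ : ND Q (⊤ : Submodule F V)) {i c : ℕ}
    (hi : i = orderOf (Fintype.card F : ZMod r)) (hc : c = if Even i then i else 2 * i) (L : Multiset F[X])
    (hL : ∀ g ∈ L, g ∈ factorSet F r)
    (hroom : c * L.card < Module.finrank F V ∨
      (c * L.card = Module.finrank F V ∧ (Plus Q (⊤ : Submodule F V) ↔ (¬ Even i ∨ Even L.card)))) :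
    ∃ x : Module.End F V, RIsom Q r x ∧ Module.finrank F (mov x) = c * L.card ∧
      (Even i → ∀ g ∈ factorSet F r, ∀ [DecidableEq F[X]],
        Module.finrank F (mov x ⊓ LinearMap.ker (aeval x g) : Submodule F V) = i * L.count g) := by
  classical
  have hrc := r_cast_ne (p := p) (F := F) hrp
  have hipos : 0 < i := hi ▸ Cfsg.Lib.Classical.PrimeOrd.ord_pos
    (Cfsg.Lib.Classical.PrimeOrd.not_dvd_card (p := p) Fact.out hrp)
  have hce : Even c := by rw [hc]; split_ifs with he; exacts [he, even_two_mul _]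
  induction L using Multiset.induction with
  | empty =>
    refine ⟨1, ⟨fun v => rfl, one_pow r⟩, ?_, fun _ g _ _ => ?_⟩
    · rw [mov, sub_self, LinearMap.range_zero, finrank_bot]; simp
    · rw [mov, sub_self, LinearMap.range_zero, bot_inf_eq, finrank_bot]; simp
  | cons g₀ L ih =>
    rw [Multiset.card_cons, Nat.mul_succ] at hroom
    have hc0 : 0 < c := by rw [hc]; split_ifs <;> omega
    obtain ⟨x, hx, hxd, hxg⟩ := ih (fun g hg => hL g (Multiset.mem_cons_of_mem hg)) (by
      rcases hroom with h | ⟨h, -⟩ <;> exact Or.inl (by omega))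
    obtain ⟨hfn, hmf⟩ := hx.nd_fix hrc hQ
    have hsum := Submodule.finrank_add_eq_of_isCompl (isCompl_fix_mov hrc hx.pow)
    obtain ⟨A, hA, hAn, hAd, hAp⟩ : ∃ A ≤ fix x, ND Q A ∧ Module.finrank F A = c ∧ (Plus Q A ↔ ¬ Even i) := by
      have hbd := idx_bounds hfn
      rcases hroom with h | ⟨h, ht⟩
      · by_cases hev : Even i
        · obtain ⟨a, ha⟩ := hev
          have hci : c = i := by rw [hc, if_pos ⟨a, ha⟩]
          -- one pair short, plus an anisotropic plane
          obtain ⟨H, hH, hHn, hHd, hHp⟩ := exists_pairs hfn (k := a - 1) (by omega)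
          have hS := finrank_perp hfn hH
          obtain ⟨-, hSn⟩ := sup_perp hfn hH hHn
          obtain ⟨ζ, hζ⟩ : ∃ ζ : F, ∀ t : F, t ^ 2 + t + ζ ≠ 0 := by
            by_contra hh
            push Not at hh
            have hsur : Function.Surjective fun t : F => t ^ 2 + t := fun z => by
              obtain ⟨t, ht⟩ := hh (-z); exact ⟨t, by linear_combination ht⟩
            have hinj := (Finite.injective_iff_surjective.2 hsur) (show (fun t : F => t ^ 2 + t) 0 = (fun t : F => t ^ 2 + t) (-1) by simp)
            exact one_ne_zero (neg_eq_zero.1 hinj.symm)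
          obtain ⟨u, w, hu, hw, hQu, huw, hQw⟩ := exists_plane_in hSn (by omega) ζ
          set P₂ := span F ({u, w} : Set V)
          have hdet : ∀ α β : F, α * 2 + β = 0 → α + β * (2 * ζ) = 0 → α = 0 ∧ β = 0 := by
            intro α β e1 e2
            have h4 : (4 * ζ - 1) ≠ 0 := (exists_shift hζ hζ).1
            have hα : α * (4 * ζ - 1) = 0 := by linear_combination (2 * ζ) * e1 - e2
            have hα0 := (mul_eq_zero.1 hα).resolve_right h4
            exact ⟨hα0, by rw [hα0, zero_mul, zero_add] at e1; exact e1⟩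
          have hpu : polar (⇑Q) u u = 2 := by rw [FormNormal.polar_self', hQu, mul_one]
          have hpw : polar (⇑Q) w w = 2 * ζ := by rw [FormNormal.polar_self', hQw]
          have hwu : polar (⇑Q) w u = 1 := by rw [QuadraticMap.polar_comm]; exact huw
          have hP₂n : ND Q P₂ := by
            intro z hz hp
            obtain ⟨α, β, rfl⟩ := mem_span_pair.1 hz
            have e1 := hp u (subset_span (by simp))
            have e2 := hp w (subset_span (by simp))
            simp only [QuadraticMap.polar_add_left, QuadraticMap.polar_smul_left, smul_eq_mul, hpu, hpw, hwu, huw,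
              mul_one] at e1 e2
            obtain ⟨rfl, rfl⟩ := hdet α β e1 e2
            simp
          have hP₂d : Module.finrank F P₂ = 2 := by
            have hli : LinearIndependent F ![u, w] := by
              rw [LinearIndependent.pair_iff]
              intro α β e
              have e1 := congrArg (fun z => polar (⇑Q) z u) e
              have e2 := congrArg (fun z => polar (⇑Q) z w) e
              simp only [QuadraticMap.polar_add_left, QuadraticMap.polar_smul_left, smul_eq_mul, hpu, hpw, hwu, huw,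
                mul_one, QuadraticMap.polar_zero_left] at e1 e2
              exact hdet α β e1 e2
            have := finrank_span_eq_card hli
            rw [Matrix.range_cons_cons_empty] at this
            simpa using this
          have hP₂p : ¬ Plus Q P₂ := by
            rintro ⟨U, hU, hts, hd⟩
            obtain ⟨z, hz, hz0⟩ := U.exists_mem_ne_zero_of_ne_bot (fun e => by rw [e, finrank_bot] at hd; omega)
            obtain ⟨α, β, rfl⟩ := mem_span_pair.1 (hU hz)
            have hQ0 := hts _ hz
            rw [QuadraticMap.map_add (f := Q), QuadraticMap.map_smul, QuadraticMap.map_smul, QuadraticMap.polar_smul_left,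
              QuadraticMap.polar_smul_right, hQu, hQw, huw] at hQ0
            simp only [smul_eq_mul] at hQ0
            by_cases hβ : β = 0
            · subst hβ
              rw [zero_smul, add_zero] at hz0
              exact hz0 (by rw [mul_self_eq_zero.1 (show α * α = 0 by linear_combination hQ0), zero_smul])
            · exact hζ (α / β) (by field_simp; linear_combination hQ0)
          have hle : P₂ ≤ perp Q (fix x) H := span_le.2 (by rintro z (rfl | rfl); exacts [hu, hw])
          have hor : Orth Q H P₂ := (orth_perp _ _).mono le_rfl hle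
          refine ⟨H ⊔ P₂, sup_le hH (hle.trans (perp_le _ _)), nd_sup hHn hP₂n hor, ?_, iff_of_false ?_ (not_not.2 ⟨a, ha⟩)⟩
          · rw [finrank_sup_orth hHn hor]; omega
          · exact not_plus_sup hHn hP₂n hor hHp hP₂p
        · have hci : c = 2 * i := by rw [hc, if_neg hev]
          obtain ⟨H, hH, hHn, hHd, hHp⟩ := exists_pairs hfn (k := i) (by omega)
          exact ⟨H, hH, hHn, by omega, iff_of_true hHp hev⟩
      · refine ⟨fix x, le_rfl, hfn, by omega, ?_⟩
        have hpf := plus_fix hx hrc hQ (h ▸ ((hce.mul_right _).add hce)) (hxd ▸ hce.mul_right _)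
        obtain ⟨j, hj, -, hjp⟩ := fpf_dim (p := p) hx hr2 hrp hmf hi hc
        have hjL : j = L.card := Nat.eq_of_mul_eq_mul_left hc0 (hj.symm.trans hxd)
        rw [hjp, hjL, ht, Nat.even_add_one] at hpf
        exact last_piece hpf
    obtain ⟨T, hTiso, hTr, hTfree, hTg⟩ := exists_on_piece (p := p) hr2 hrp (hL g₀ (Multiset.mem_cons_self _ _)) hi hc hAn hAd hAp
    obtain ⟨hsupA, hBn⟩ := sup_perp hQ (show A ≤ ⊤ from le_top) hAn
    set B := perp Q ⊤ A
    have hcompl : IsCompl A B := ⟨disjoint_iff.2 (nd_disjoint hAn (orth_perp ⊤ A)), codisjoint_iff.2 hsupA⟩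
    have hxA : ∀ a ∈ A, x a = a := fun a ha => mem_fix.1 (hA ha)
    have hAi : Inv x A := fun a ha => by rw [hxA a ha]; exact ha
    have hBi : Inv x B := hx.inv_perp r_pos (fun _ _ => trivial) hAi
    obtain ⟨x', hx', hx'A, hx'B⟩ := glue (r := r) hcompl (orth_perp ⊤ A) T (res x hBi) hTiso (fun b => hx.iso b) hTr (by
      refine LinearMap.ext fun b => Subtype.ext ?_
      rw [res_pow, hx.pow]; rfl)
    have hB' : ∀ b ∈ B, x' b = x b := fun b hb => hx'B ⟨b, hb⟩
    have hmB : mov x ≤ B := fun w hw => mem_perp.2 ⟨trivial, fun a ha => hx.fix_orth_mov a (hA ha) w hw⟩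
    have hmov : mov x' = A ⊔ mov x := by
      obtain ⟨hfn', hmf'⟩ := hx'.nd_fix hrc hQ
      have hA' : Fpf Q x' A := ⟨hAn, fun a ha => by rw [hx'A ⟨a, ha⟩]; exact (T ⟨a, ha⟩).2, eq_bot_iff.2 fun a ha => by
        have e := mem_fix.1 ha.2
        rw [hx'A ⟨a, ha.1⟩] at e
        have := hTfree ⟨a, ha.1⟩ (Subtype.ext e)
        exact (Submodule.mem_bot F).2 (congrArg Subtype.val this)⟩
      have hM' : Fpf Q x' (mov x) := ⟨hmf.nd, fun w hw => by rw [hB' w (hmB hw)]; exact hmf.inv w hw,
        eq_bot_iff.2 fun w hw => hmf.free.le ⟨hw.1, mem_fix.2 (by rw [← hB' w (hmB hw.1)]; exact mem_fix.1 hw.2)⟩⟩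
      refine (Submodule.eq_of_le_of_finrank_le (sup_le (hA'.mov_le hx' hrc) (hM'.mov_le hx' hrc)) ?_).symm
      -- the fixed space of the new map
      have hfix : perp Q (fix x) A ≤ fix x' := fun w hw => by
        rw [mem_perp] at hw
        exact mem_fix.2 (by rw [hB' w (mem_perp.2 ⟨trivial, hw.2⟩)]; exact mem_fix.1 hw.1)
      have h1 := Submodule.finrank_mono hfix
      have h2 := finrank_perp hfn hA
      have h3 := Submodule.finrank_add_eq_of_isCompl (isCompl_fix_mov hrc hx'.pow)
      have h4 := finrank_sup_orth hAn (hx.fix_orth_mov.mono hA le_rfl)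
      omega
    refine ⟨x', hx', ?_, fun hev g hg inst => ?_⟩
    · rw [hmov, finrank_sup_orth hAn (hx.fix_orth_mov.mono hA le_rfl), hAd, hxd, Multiset.card_cons, Nat.mul_succ]
      omega
    · have hci : c = i := by rw [hc, if_pos hev]
      have hagree : ∀ (R : F[X]) (w : V), w ∈ mov x → aeval x' R w = aeval x R w := fun R w hw =>
        aeval_agree hmf.inv (fun v hv => hB' v (hmB hv)) R hw
      have hTA : ∀ (R : F[X]) (a : A), aeval x' R (a : V) = (aeval T R a : V) := fun R a => by
        induction R using Polynomial.induction_on' with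
        | add R S hR hS => simp [hR, hS]
        | monomial k t =>
          rw [aeval_monomial, aeval_monomial, Module.End.mul_apply, Module.End.mul_apply, Module.algebraMap_end_apply,
            Module.algebraMap_end_apply, Submodule.coe_smul]
          congr 1
          induction k with
          | zero => simp
          | succ k ih => rw [pow_succ', Module.End.mul_apply, ih, hx'A, pow_succ', Module.End.mul_apply]
      have hpart : (mov x' ⊓ LinearMap.ker (aeval x' g) : Submodule F V) =
          (if g₀ = g then A else ⊥) ⊔ (mov x ⊓ LinearMap.ker (aeval x g)) := by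
        rw [hmov]
        refine le_antisymm ?_ (sup_le ?_ ?_)
        · rintro w ⟨hw, hwk⟩
          obtain ⟨a, ha, b, hb, rfl⟩ := mem_sup.1 hw
          rw [SetLike.mem_coe, LinearMap.mem_ker, map_add, hTA g ⟨a, ha⟩, hagree g b hb] at hwk
          have h1 : (aeval T g ⟨a, ha⟩ : V) ∈ A ⊓ mov x :=
            ⟨Subtype.coe_prop _, by rw [eq_neg_of_add_eq_zero_left hwk]; exact (mov x).neg_mem (aeval_mem' hmf.inv g hb)⟩
          rw [nd_disjoint hAn (hx.fix_orth_mov.mono hA le_rfl), Submodule.mem_bot] at h1
          rw [h1, zero_add] at hwk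
          refine add_mem_sup ?_ ⟨hb, hwk⟩
          split_ifs with hgg
          · exact ha
          · obtain ⟨hgi, -, -, -⟩ := factor_facts' (p := p) hrp hg
            obtain ⟨hgi₀, -, -, -⟩ := factor_facts' (p := p) hrp (hL g₀ (Multiset.mem_cons_self _ _))
            obtain ⟨α, β, hab⟩ := hgi.coprime_iff_not_dvd.2 fun hd =>
              hgg (eq_of_monic_of_associated (mem_factorSet g hg).1 (mem_factorSet g₀ (hL g₀ (Multiset.mem_cons_self _ _))).1
                (hgi.associated_of_dvd hgi₀ hd)).symm
            have h1' : aeval T g (⟨a, ha⟩ : A) = 0 := Subtype.ext h1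
            have e := congrArg (fun R => aeval T R (⟨a, ha⟩ : A)) hab
            simp only [map_add, map_mul, LinearMap.add_apply, Module.End.mul_apply, h1', map_zero,
              hTg hev, LinearMap.zero_apply, map_one, Module.End.one_apply, add_zero] at e
            exact (Submodule.mem_bot F).2 (congrArg Subtype.val e).symm
        · split_ifs with hgg
          · subst hgg
            intro a ha
            refine ⟨mem_sup_left ha, ?_⟩
            rw [SetLike.mem_coe, LinearMap.mem_ker, hTA g₀ ⟨a, ha⟩, hTg hev]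
            rfl
          · exact bot_le
        · intro w hw
          refine ⟨mem_sup_right hw.1, ?_⟩
          rw [SetLike.mem_coe, LinearMap.mem_ker, hagree g w hw.1]
          exact hw.2
      rw [hpart, Multiset.count_cons]
      have ihg := hxg hev g hg
      by_cases h1 : g₀ = g
      · rw [if_pos h1, if_pos h1.symm, finrank_sup_orth hAn (hx.fix_orth_mov.mono hA inf_le_left), hAd, ihg, hci,
          Nat.mul_succ]
        omega
      · rw [if_neg h1, if_neg (Ne.symm h1), bot_sup_eq, add_zero, ihg]

end Cfsg.Lib.OrthEl
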