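import Cfsg.Agent.Classical.OrthElusive.InvOdd
import Cfsg.Agent.Classical.OrthElusive.Bridge

/-!
# Elements of `Ω` squaring to a sign
-/

set_option autoImplicit false
set_option linter.unusedSectionVars false

open QuadraticMap Submodule Cfsg.Lib.FormNormal Matrix
open Cfsg.Lib.Classical.PrimeOrd (Inv)
open Cfsg.Lib.Classical.Refl (mat refl)

namespace Cfsg.Lib.OrthEl

universe u

variable {F : Type u} [Field F] [Fintype F] [DecidableEq F] {ι : Type} [Fintype ι] [DecidableEq ι]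
  {Q : QuadraticForm F (ι → F)}

theorem mat_refl (v : ι → F) (hv : Q v ≠ 0) (z : ι → F) :
    mat Q (refl Q v hv) *ᵥ z = z - ((Q v)⁻¹ * polar (⇑Q) v z) • v :=
  Cfsg.Lib.Classical.Refl.mulVec_eq Q v z

theorem refl_self' (v : ι → F) (hv : Q v ≠ 0) : mat Q (refl Q v hv) *ᵥ v = -v :=
  Cfsg.Lib.Classical.Refl.self Q v hv

theorem refl_fix' (v : ι → F) (hv : Q v ≠ 0) {z : ι → F} (h : polar (⇑Q) v z = 0) : mat Q (refl Q v hv) *ᵥ z = z :=
  Cfsg.Lib.Classical.Refl.fix Q v z h

theorem mat_mul (g h : Cfsg.isometryGroup F (⇑Q)) (z : ι → F) : mat Q (g * h) *ᵥ z = mat Q g *ᵥ (mat Q h *ᵥ z) :=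
  Cfsg.Lib.Classical.Refl.mulVec_mul Q g h z

theorem mat_iso (g : Cfsg.isometryGroup F (⇑Q)) (z : ι → F) : Q (mat Q g *ᵥ z) = Q z :=
  (Cfsg.Lib.Classical.Refl.mem_iff Q).mp g.2 z

theorem mat_one (z : ι → F) : mat Q (1 : Cfsg.isometryGroup F (⇑Q)) *ᵥ z = z := by
  show (1 : Matrix ι ι F) *ᵥ z = z
  exact Matrix.one_mulVec z

theorem eq_one_of_fix (g : Cfsg.isometryGroup F (⇑Q)) (h : ∀ z, mat Q g *ᵥ z = z) : g = 1 :=
  Cfsg.Lib.Classical.Refl.ext_mulVec Q fun z => by rw [h z]; exact (mat_one z).symm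

/-- Stripping a product of reflections off an isometry. -/
theorem fix_step (g h : Cfsg.isometryGroup F (⇑Q)) {z : ι → F} (hh : mat Q h *ᵥ z = mat Q g *ᵥ z) :
    mat Q (h⁻¹ * g) *ᵥ z = z := by
  rw [mat_mul, ← hh]
  exact Cfsg.Lib.Classical.Refl.mulVec_inv_cancel Q h z

theorem fix_keep (g h : Cfsg.isometryGroup F (⇑Q)) {z : ι → F} (hh : mat Q h *ᵥ (mat Q g *ᵥ z) = mat Q g *ᵥ z) :
    mat Q (h⁻¹ * g) *ᵥ z = mat Q g *ᵥ z := by
  rw [mat_mul]
  conv_lhs => rw [← hh]
  exact Cfsg.Lib.Classical.Refl.mulVec_inv_cancel Q h _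

theorem units_pow_iff {k : ℕ} : ((-1 : ℤˣ) ^ k = 1) ↔ Even k := neg_one_pow_eq_one_iff_even (by decide)

variable (hQ : (polarBilin Q).Nondegenerate) (h2 : (2 : F) ≠ 0) (hn2 : 2 ≤ Fintype.card ι)
include hQ h2 hn2

theorem spin_two (u v : ι → F) (hu : Q u ≠ 0) (hv : Q v ≠ 0) :
    Cfsg.Lib.Classical.Refl.spin Q (refl Q u hu * refl Q v hv) = if IsSquare (Q u * Q v) then 1 else -1 := by
  rw [map_mul]
  have h := Cfsg.Lib.Classical.Refl.spin_eq_iff Q h2 hQ hn2 hu hv
  split_ifs with hs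
  · rw [h.2 hs]; exact Int.units_mul_self _
  · rcases Int.units_eq_one_or (Cfsg.Lib.Classical.Refl.spin Q (refl Q u hu)) with e | e <;>
      rcases Int.units_eq_one_or (Cfsg.Lib.Classical.Refl.spin Q (refl Q v hv)) with e' | e' <;> rw [e, e'] at h ⊢
    all_goals first | rfl | exact absurd (h.1 rfl) hs

/-- Determinant and spinor of a map squaring to minus one. -/
theorem spin_sq_neg :
    ∀ (n : ℕ) (g : Cfsg.isometryGroup F (⇑Q)) (W : Submodule F (ι → F)), Module.finrank F W = n → ND Q W →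
      (∀ w ∈ W, mat Q g *ᵥ w ∈ W) → (∀ w ∈ W, mat Q g *ᵥ (mat Q g *ᵥ w) = -w) →
      (∀ z ∈ perp Q ⊤ W, mat Q g *ᵥ z = z) →
      ∃ k, n = 2 * k ∧ Cfsg.Lib.Classical.Refl.detHom Q g = 1 ∧
        Cfsg.Lib.Classical.Refl.spin Q g = (if IsSquare (2 : F) then 1 else (-1) ^ k) := by
  intro n
  induction n using Nat.strong_induction_on with
  | _ n ih =>
  intro g W hn hW hWi hsq hfix
  obtain ⟨hsW, -⟩ := sup_perp (nd_top_of_nondeg hQ) (le_top : W ≤ ⊤) hW
  by_cases h0 : W = ⊥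
  · subst h0
    have hg : g = 1 := eq_one_of_fix g fun z => hfix z (by
      rw [bot_sup_eq] at hsW; rw [hsW]; trivial)
    rw [finrank_bot] at hn
    exact ⟨0, by omega, by rw [hg, map_one], by rw [hg, map_one]; split_ifs <;> simp⟩
  set x : Module.End F (ι → F) := Matrix.toLin' (mat Q g) with hx
  have hxv : ∀ v, x v = mat Q g *ᵥ v := fun v => Matrix.toLin'_apply _ _
  have hiso : ∀ v, Q (x v) = Q v := fun v => by rw [hxv]; exact mat_iso g v
  have hx2 : ∀ w ∈ W, x (x w) = -w := fun w hw => by rw [hxv, hxv]; exact hsq w hw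
  have hxW : Inv x W := fun w hw => by rw [hxv]; exact hWi w hw
  obtain ⟨u, hu, ha⟩ := exists_anisotropic hW h0
  obtain ⟨hP, hPi, hPn, hPd, -⟩ := sq_neg_plane h2 hiso hx2 hxW hu ha
  set P := span F ({u, x u} : Set (ι → F))
  have hQv : Q (u - x u) = 2 * Q u := by
    rw [sub_eq_add_neg, QuadraticMap.map_add (f := Q), QuadraticMap.map_neg, hiso, QuadraticMap.polar_neg_right,
      polar_sq_neg h2 hiso hx2 hu]
    ring
  have hv0 : Q (u - x u) ≠ 0 := by rw [hQv]; exact mul_ne_zero h2 ha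
  set h := refl Q u ha * refl Q (u - x u) hv0 with hh
  have hpu : polar (⇑Q) (u - x u) u = 2 * Q u := by
    rw [QuadraticMap.polar_sub_left, FormNormal.polar_self', QuadraticMap.polar_comm _ (x u) u,
      polar_sq_neg h2 hiso hx2 hu, sub_zero]
  have hpxu : polar (⇑Q) (u - x u) (x u) = -(2 * Q u) := by
    rw [QuadraticMap.polar_sub_left, FormNormal.polar_self', hiso, polar_sq_neg h2 hiso hx2 hu, zero_sub]
  have h1 : mat Q h *ᵥ u = x u := by
    rw [hh, mat_mul, mat_refl (u - x u) hv0 u, hpu, hQv, inv_mul_cancel₀ (mul_ne_zero h2 ha), one_smul, sub_sub_cancel]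
    exact refl_fix' u ha (polar_sq_neg h2 hiso hx2 hu)
  have h1' : mat Q h *ᵥ (x u) = -u := by
    rw [hh, mat_mul, mat_refl (u - x u) hv0 (x u), hpxu, hQv, mul_neg, inv_mul_cancel₀ (mul_ne_zero h2 ha),
      neg_one_smul, sub_neg_eq_add, add_sub_cancel]
    exact refl_self' u ha
  have h1perp : ∀ z, polar (⇑Q) u z = 0 → polar (⇑Q) (x u) z = 0 → mat Q h *ᵥ z = z := fun z e e' => by
    rw [hh, mat_mul, refl_fix' (u - x u) hv0 (by rw [QuadraticMap.polar_sub_left, e, e', sub_zero])]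
    exact refl_fix' u ha e
  obtain ⟨hs, hRn⟩ := sup_perp hW hP hPn
  have hd := finrank_perp hW hP
  have hRi : Inv x (perp Q W P) :=
    inv_perp_sq (s := -1) hiso (by ring) (fun w hw => by rw [neg_one_smul]; exact hx2 w hw) hxW hP hPi
  have hkeep : ∀ w ∈ perp Q W P, mat Q (h⁻¹ * g) *ᵥ w = mat Q g *ᵥ w := fun w hw => by
    have hm := hRi w hw
    rw [hxv] at hm
    exact fix_keep g h (h1perp _ ((mem_perp.1 hm).2 u (subset_span (by simp)))
      ((mem_perp.1 hm).2 (x u) (subset_span (by simp))))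
  obtain ⟨k, hk, hdet, hspin⟩ := ih _ (by omega) (h⁻¹ * g) (perp Q W P) rfl hRn
    (fun w hw => by rw [hkeep w hw, ← hxv]; exact hRi w hw)
    (fun w hw => by
      rw [hkeep w hw, hkeep _ (by rw [← hxv]; exact hRi w hw)]
      exact hsq w (perp_le _ _ hw))
    (fun z hz => by
      rw [mem_perp] at hz
      -- split along the plane and the complement
      obtain ⟨a, haW, b, hb, rfl⟩ : ∃ a ∈ W, ∃ b ∈ perp Q ⊤ W, a + b = z := mem_sup.1 (hsW.ge mem_top)
      obtain ⟨c, hc, e, he, rfl⟩ : ∃ c ∈ P, ∃ e ∈ perp Q W P, c + e = a := mem_sup.1 (hs.ge haW)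
      have he0 : e = 0 := hRn e he fun y hy => by
        have := hz.2 y hy
        rw [QuadraticMap.polar_add_right, QuadraticMap.polar_add_right,
          (mem_perp.1 hb).2 y (perp_le _ _ hy), add_zero,
          QuadraticMap.polar_comm _ y c, (mem_perp.1 hy).2 c hc, zero_add, QuadraticMap.polar_comm] at this
        exact this
      subst he0
      rw [add_zero, Matrix.mulVec_add]
      congr 1
      · obtain ⟨α, β, rfl⟩ := mem_span_pair.1 hc
        rw [Matrix.mulVec_add, Matrix.mulVec_smul, Matrix.mulVec_smul,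
          fix_step g h (h1.trans (hxv u)),
          fix_step g h (h1'.trans (by rw [← hxv, hx2 u hu]))]
      · have hgb := hfix b hb
        refine fix_step g h ?_
        rw [hgb]
        exact h1perp b ((mem_perp.1 hb).2 u hu) ((mem_perp.1 hb).2 _ (hxW u hu)))
  refine ⟨k + 1, by omega, ?_, ?_⟩
  · rw [← mul_inv_cancel_left h g, map_mul, hdet, mul_one, hh, map_mul, Cfsg.Lib.Classical.Refl.detHom_refl,
      Cfsg.Lib.Classical.Refl.detHom_refl, neg_mul_neg, one_mul]
  · rw [← mul_inv_cancel_left h g, map_mul, hspin, hh, spin_two hQ h2 hn2]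
    have : IsSquare (Q u * Q (u - x u)) ↔ IsSquare (2 : F) := by
      rw [hQv]
      constructor
      · rintro ⟨t, ht⟩
        exact ⟨t / Q u, by field_simp; linear_combination ht⟩
      · rintro ⟨t, ht⟩
        exact ⟨t * Q u, by linear_combination Q u * Q u * ht⟩
    by_cases hs2 : IsSquare (2 : F)
    · rw [if_pos (this.2 hs2), if_pos hs2, if_pos hs2, one_mul]
    · rw [if_neg (fun e => hs2 (this.1 e)), if_neg hs2, if_neg hs2, pow_succ']

set_option maxHeartbeats 1000000 in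
/-- Determinant and spinor of an involution. -/
theorem spin_invol :
    ∀ (f : ℕ) (g : Cfsg.isometryGroup F (⇑Q)) (D : Submodule F (ι → F)), Module.finrank F D = f → ND Q D →
      (∀ w ∈ D, mat Q g *ᵥ w = -w) → (∀ z ∈ perp Q ⊤ D, mat Q g *ᵥ z = z) →
      Cfsg.Lib.Classical.Refl.detHom Q g = (-1) ^ f ∧
        ∀ k, f = 2 * k → (Cfsg.Lib.Classical.Refl.spin Q g = 1 ↔ (Plus Q D ↔ (IsSquare (-1 : F) ∨ Even k))) := by
  intro f
  induction f using Nat.strong_induction_on with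
  | _ f ih =>
  intro g D hf hD hneg hfix
  obtain ⟨hsD, -⟩ := sup_perp (nd_top_of_nondeg hQ) (le_top : D ≤ ⊤) hD
  by_cases h0 : D = ⊥
  · subst h0
    have hg : g = 1 := eq_one_of_fix g fun z => hfix z (by rw [bot_sup_eq] at hsD; rw [hsD]; trivial)
    rw [finrank_bot] at hf
    subst hf
    exact ⟨by rw [hg, map_one, pow_zero], fun k hk => iff_of_true (by rw [hg, map_one])
      (iff_of_true plus_bot (Or.inr ⟨0, by omega⟩))⟩
  -- strip reflections in an orthogonal family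
  have step : ∀ (u : ι → F), u ∈ D → ∀ hu : Q u ≠ 0, ∃ D' : Submodule F (ι → F), D' = perp Q D (span F {u}) ∧
      ND Q D' ∧ Module.finrank F D' + 1 = f ∧ (∀ w ∈ D', mat Q ((refl Q u hu)⁻¹ * g) *ᵥ w = -w) ∧
      ∀ z ∈ perp Q ⊤ D', mat Q ((refl Q u hu)⁻¹ * g) *ᵥ z = z := by
    intro u huD hu
    have hu0 : u ≠ 0 := fun e => hu (by rw [e, QuadraticMap.map_zero])
    have hLn : ND Q (span F {u}) := fun z hz hp => by
      obtain ⟨t, rfl⟩ := mem_span_singleton.1 hz
      have := hp u (mem_span_singleton_self u)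
      rw [QuadraticMap.polar_smul_left, FormNormal.polar_self', smul_eq_mul] at this
      rw [(mul_eq_zero.1 this).resolve_right (mul_ne_zero h2 hu), zero_smul]
    have hL : span F {u} ≤ D := (span_singleton_le_iff_mem _ _).2 huD
    obtain ⟨hs, hRn⟩ := sup_perp hD hL hLn
    have hd := finrank_perp hD hL
    rw [finrank_span_singleton hu0] at hd
    refine ⟨_, rfl, hRn, by omega, fun w hw => ?_, fun z hz => ?_⟩
    · rw [fix_keep g _ (by
        rw [hneg w (perp_le _ _ hw), Matrix.mulVec_neg,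
          refl_fix' u hu ((mem_perp.1 hw).2 u (mem_span_singleton_self u))]), hneg w (perp_le _ _ hw)]
    · rw [mem_perp] at hz
      obtain ⟨a, haD, b, hb, rfl⟩ : ∃ a ∈ D, ∃ b ∈ perp Q ⊤ D, a + b = z := mem_sup.1 (hsD.ge mem_top)
      obtain ⟨c, hc, e, he, rfl⟩ : ∃ c ∈ span F {u}, ∃ e ∈ perp Q D (span F {u}), c + e = a := mem_sup.1 (hs.ge haD)
      have he0 : e = 0 := hRn e he fun y hy => by
        have := hz.2 y hy
        rw [QuadraticMap.polar_add_right, QuadraticMap.polar_add_right, (mem_perp.1 hb).2 y (perp_le _ _ hy), add_zero,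
          QuadraticMap.polar_comm _ y c, (mem_perp.1 hy).2 c hc, zero_add, QuadraticMap.polar_comm] at this
        exact this
      subst he0
      rw [add_zero, Matrix.mulVec_add]
      congr 1
      · obtain ⟨t, rfl⟩ := mem_span_singleton.1 hc
        rw [Matrix.mulVec_smul, fix_step g _ ((refl_self' u hu).trans (hneg u huD).symm)]
      · refine fix_step g _ ?_
        rw [hfix b hb]
        exact refl_fix' u hu ((mem_perp.1 hb).2 u huD)
  obtain ⟨u, huD, hu⟩ := exists_anisotropic hD h0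
  by_cases hf2 : f ≤ 1
  · have hf1 : f = 1 := by
      have : 0 < Module.finrank F D := Nat.pos_of_ne_zero fun e => h0 (Submodule.finrank_eq_zero.1 e)
      omega
    obtain ⟨D', -, hn', hd', hneg', hfix'⟩ := step u huD hu
    obtain ⟨hdet, -⟩ := ih _ (by omega) _ D' rfl hn' hneg' hfix'
    rw [show Module.finrank F D' = 0 by omega, pow_zero] at hdet
    refine ⟨?_, fun k hk => by omega⟩
    rw [← mul_inv_cancel_left (refl Q u hu) g, map_mul, hdet, mul_one, Cfsg.Lib.Classical.Refl.detHom_refl, hf1, pow_one]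
  obtain ⟨u, huD, hQu⟩ := exists_value Q D hD (by omega) 1 one_ne_zero
  have hu : Q u ≠ 0 := by rw [hQu]; exact one_ne_zero
  obtain ⟨D', hD'eq, hn', hd', hneg', hfix'⟩ := step u huD hu
  obtain ⟨w, hw, hQw, hw1⟩ : ∃ w ∈ D', Q w ≠ 0 ∧ (3 ≤ f → Q w = 1) := by
    rcases Nat.lt_or_ge f 3 with h | h
    · obtain ⟨w, hw, hQw⟩ := exists_anisotropic hn' (fun e => by rw [e, finrank_bot] at hd'; omega)
      exact ⟨w, hw, hQw, fun h' => absurd h' (by omega)⟩
    · obtain ⟨w, hw, hQw⟩ := exists_value Q D' hn' (by omega) 1 one_ne_zero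
      exact ⟨w, hw, by rw [hQw]; exact one_ne_zero, fun _ => hQw⟩
  have hw0 : w ≠ 0 := fun e => hQw (by rw [e, QuadraticMap.map_zero])
  have hwD : w ∈ D := by rw [hD'eq] at hw; exact perp_le _ _ hw
  have huw : polar (⇑Q) u w = 0 := by rw [hD'eq] at hw; exact (mem_perp.1 hw).2 u (mem_span_singleton_self u)
  obtain ⟨hPn, hPd, hPp⟩ := plus_smul_plane (Q := Q) hQu rfl huw one_ne_zero hQw h2
  have hP : span F ({u, w} : Set (ι → F)) ≤ D := span_le.2 (by rintro z (rfl | rfl); exacts [huD, hwD])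
  obtain ⟨hs, hRn⟩ := sup_perp hD hP hPn
  have hd := finrank_perp hD hP
  set h := refl Q u hu * refl Q w hQw with hh
  have hperp : ∀ z, polar (⇑Q) u z = 0 → polar (⇑Q) w z = 0 → mat Q h *ᵥ z = z := fun z e e' => by
    rw [hh, mat_mul, refl_fix' w hQw e']
    exact refl_fix' u hu e
  obtain ⟨hdet, hspin⟩ := ih _ (by omega) (h⁻¹ * g) (perp Q D (span F ({u, w} : Set (ι → F)))) rfl hRn
    (fun z hz => by
      rw [fix_keep g h (by
        rw [hneg z (perp_le _ _ hz), Matrix.mulVec_neg, hperp z ((mem_perp.1 hz).2 u (subset_span (by simp)))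
          ((mem_perp.1 hz).2 w (subset_span (by simp)))]), hneg z (perp_le _ _ hz)])
    (fun z hz => by
      rw [mem_perp] at hz
      obtain ⟨a, haD, b, hb, rfl⟩ : ∃ a ∈ D, ∃ b ∈ perp Q ⊤ D, a + b = z := mem_sup.1 (hsD.ge mem_top)
      obtain ⟨c, hc, e, he, rfl⟩ : ∃ c ∈ span F ({u, w} : Set (ι → F)),
        ∃ e ∈ perp Q D (span F ({u, w} : Set (ι → F))), c + e = a := mem_sup.1 (hs.ge haD)
      have he0 : e = 0 := hRn e he fun y hy => by
        have := hz.2 y hy
        rw [QuadraticMap.polar_add_right, QuadraticMap.polar_add_right, (mem_perp.1 hb).2 y (perp_le _ _ hy), add_zero,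
          QuadraticMap.polar_comm _ y c, (mem_perp.1 hy).2 c hc, zero_add, QuadraticMap.polar_comm] at this
        exact this
      subst he0
      rw [add_zero, Matrix.mulVec_add]
      congr 1
      · obtain ⟨α, β, rfl⟩ := mem_span_pair.1 hc
        rw [Matrix.mulVec_add, Matrix.mulVec_smul, Matrix.mulVec_smul]
        congr 1
        · rw [fix_step g h]
          rw [hneg u huD, hh, mat_mul, refl_fix' w hQw (by rw [QuadraticMap.polar_comm]; exact huw)]
          exact refl_self' u hu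
        · rw [fix_step g h]
          rw [hneg w hwD, hh, mat_mul, refl_self' w hQw, Matrix.mulVec_neg, refl_fix' u hu huw]
      · refine fix_step g h ?_
        rw [hfix b hb]
        exact hperp b ((mem_perp.1 hb).2 u huD) ((mem_perp.1 hb).2 w hwD))
  refine ⟨?_, fun k hk => ?_⟩
  · rw [← mul_inv_cancel_left h g, map_mul, hdet, hh, map_mul, Cfsg.Lib.Classical.Refl.detHom_refl,
      Cfsg.Lib.Classical.Refl.detHom_refl, neg_mul_neg, one_mul, one_mul,
      show f = 2 + Module.finrank F (perp Q D (span F ({u, w} : Set (ι → F)))) by omega, pow_add]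
    simp
  · obtain ⟨k', rfl⟩ : ∃ k', k = k' + 1 := ⟨k - 1, by omega⟩
    have hR2 : Module.finrank F (perp Q D (span F ({u, w} : Set (ι → F)))) = 2 * k' := by omega
    have hih := hspin k' hR2
    rw [← mul_inv_cancel_left h g, map_mul, hh, spin_two hQ h2 hn2, hQu, one_mul]
    conv_rhs => rw [← hs]
    rw [plus_sup_iff hPn hRn (orth_perp _ _) (by rw [hPd]; exact even_two) (by rw [hR2]; exact even_two_mul k'),
      hPp, one_mul, Nat.even_add_one]
    rcases Nat.eq_zero_or_pos k' with rfl | hk'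
    · have hR0 := Submodule.finrank_eq_zero.1 hR2
      have hX : Cfsg.Lib.Classical.Refl.spin Q ((refl Q u hu * refl Q w hQw)⁻¹ * g) = 1 :=
        hih.2 (iff_of_true (hR0.symm ▸ plus_bot) (Or.inr ⟨0, rfl⟩))
      rw [hX, mul_one, hR0]
      simp only [iff_true_intro (plus_bot (Q := Q)), iff_true, Even.zero, not_true_eq_false, or_false]
      rw [neg_sq_iff hQw]
      split_ifs with hs' <;> simp [hs', Units.ext_iff]
    · rw [hw1 (by omega), if_pos IsSquare.one, one_mul, hih]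
      by_cases h1 : IsSquare (-1 : F) <;> by_cases h3 : Even k' <;>
        by_cases h4 : Plus Q (perp Q D (span F ({u, w} : Set (ι → F)))) <;> simp [h1, h3, h4]

/-- Existence of elements of `Ω` squaring to minus one. -/
theorem exists_omega_sq_neg_iff {d : ℕ} (hn : Fintype.card ι = 2 * d) :
    (∃ g : Cfsg.isometryGroup F (⇑Q), g ∈ Cfsg.Omega F (⇑Q) ∧ ∀ v, mat Q g *ᵥ (mat Q g *ᵥ v) = -v) ↔
      ((Plus Q (⊤ : Submodule F (ι → F)) ↔ (IsSquare (-1 : F) ∨ Even d)) ∧ (IsSquare (2 : F) ∨ Even d)) := by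
  have hV : Module.finrank F (ι → F) = 2 * d := by rw [Module.finrank_fintype_fun_eq_card, hn]
  have key : ∀ g : Cfsg.isometryGroup F (⇑Q), (∀ v, mat Q g *ᵥ (mat Q g *ᵥ v) = -v) →
      (g ∈ Cfsg.Omega F (⇑Q) ↔ (IsSquare (2 : F) ∨ Even d)) := fun g hg => by
    obtain ⟨k, hk, hdet, hspin⟩ := spin_sq_neg hQ h2 hn2 _ g ⊤ rfl (nd_top_of_nondeg hQ) (fun _ _ => trivial)
      (fun w _ => hg w) (fun z hz => by
        have : z = 0 := nd_top_of_nondeg hQ z trivial fun y _ => by
          rw [QuadraticMap.polar_comm]; exact (mem_perp.1 hz).2 y trivial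
        rw [this, Matrix.mulVec_zero])
    rw [finrank_top, hV] at hk
    rw [Cfsg.Lib.Classical.Refl.mem_omega_iff Q h2 hQ hn2, hspin, show k = d by omega]
    refine ⟨fun h => ?_, fun h => ⟨hdet, ?_⟩⟩
    · by_cases hs : IsSquare (2 : F)
      · exact Or.inl hs
      · rw [if_neg hs] at h; exact Or.inr (units_pow_iff.1 h.2)
    · by_cases hs : IsSquare (2 : F)
      · rw [if_pos hs]
      · rw [if_neg hs]; exact units_pow_iff.2 (h.resolve_left hs)
  constructor
  · rintro ⟨g, hg, hsq⟩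
    refine ⟨?_, (key g hsq).1 hg⟩
    obtain ⟨k, hk, hp, -⟩ := sq_neg_struct (x := Matrix.toLin' (mat Q g)) h2
      (fun v => by rw [Matrix.toLin'_apply]; exact mat_iso g v) _ ⊤ rfl (nd_top_of_nondeg hQ) (fun _ _ => trivial)
      (fun w _ => by rw [Matrix.toLin'_apply, Matrix.toLin'_apply]; exact hsq w)
    rw [finrank_top, hV] at hk
    rw [show k = d by omega] at hp
    exact hp
  · rintro ⟨hp, h⟩
    obtain ⟨T, hT, hT2⟩ := exists_sq_neg h2 (nd_top_of_nondeg hQ) hV hp
    have hMM : LinearMap.toMatrix' T * -LinearMap.toMatrix' T = 1 := Matrix.toLin'.injective (LinearMap.ext fun v => by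
      rw [Matrix.toLin'_mul, LinearMap.comp_apply, map_neg, Matrix.toLin'_toMatrix', LinearMap.neg_apply, map_neg, hT2,
        neg_neg, Matrix.toLin'_one]
      rfl)
    let X : GL ι F := ⟨LinearMap.toMatrix' T, -LinearMap.toMatrix' T, hMM, by rw [neg_mul, ← mul_neg]; exact hMM⟩
    have hX : ∀ v, (X : Matrix ι ι F) *ᵥ v = T v := fun v => LinearMap.toMatrix'_mulVec T v
    let g : Cfsg.isometryGroup F (⇑Q) :=
      ⟨X, (Cfsg.Lib.Classical.Refl.mem_iff Q).mpr fun v => by rw [hX]; exact hT v⟩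
    have hsq : ∀ v, mat Q g *ᵥ (mat Q g *ᵥ v) = -v := fun v => by
      show (X : Matrix ι ι F) *ᵥ ((X : Matrix ι ι F) *ᵥ v) = -v
      rw [hX, hX, hT2]
    exact ⟨g, (key g hsq).2 h, hsq⟩

/-- The eigenspace data of an involution in `Ω`. -/
theorem omega_invol_data {g : Cfsg.isometryGroup F (⇑Q)} (hg : g ∈ Cfsg.Omega F (⇑Q))
    (hg2 : ∀ v, mat Q g *ᵥ (mat Q g *ᵥ v) = v) :
    ∃ (C D : Submodule F (ι → F)) (k : ℕ), ND Q C ∧ ND Q D ∧ Orth Q C D ∧ C ⊔ D = ⊤ ∧
      (∀ v, v ∈ C ↔ mat Q g *ᵥ v = v) ∧ (∀ v, v ∈ D ↔ mat Q g *ᵥ v = -v) ∧ Module.finrank F D = 2 * k ∧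
      (Plus Q D ↔ (IsSquare (-1 : F) ∨ Even k)) := by
  obtain ⟨C, D, hC, hD, hor, htop, hCx, hDx⟩ := eig_split (x := Matrix.toLin' (mat Q g)) h2 (nd_top_of_nondeg hQ)
    (fun v => by rw [Matrix.toLin'_apply]; exact mat_iso g v)
    (fun v => by rw [Matrix.toLin'_apply, Matrix.toLin'_apply]; exact hg2 v)
  simp only [Matrix.toLin'_apply] at hCx hDx
  obtain ⟨hdet, hspin⟩ := (Cfsg.Lib.Classical.Refl.mem_omega_iff Q h2 hQ hn2).1 hg
  obtain ⟨hdet', hs⟩ := spin_invol hQ h2 hn2 _ g D rfl hD (fun w hw => (hDx w).1 hw) (fun z hz => by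
    obtain ⟨a, ha, b, hb, rfl⟩ : ∃ a ∈ C, ∃ b ∈ D, a + b = z := mem_sup.1 (htop.ge mem_top)
    have hb0 : b = 0 := hD b hb fun y hy => by
      have := (mem_perp.1 hz).2 y hy
      rw [QuadraticMap.polar_add_right, hor.symm y hy a ha, zero_add, QuadraticMap.polar_comm] at this
      exact this
    rw [hb0, add_zero]
    exact (hCx a).1 ha)
  obtain ⟨k, hk⟩ : Even (Module.finrank F D) := by
    rcases Nat.even_or_odd (Module.finrank F D) with e | e
    · exact e
    · rw [hdet, e.neg_one_pow] at hdet'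
      exact absurd (congrArg Units.val hdet') (fun e' => h2 (by simp at e'; linear_combination e'))
  exact ⟨C, D, k, hC, hD, hor, htop, hCx, hDx, by omega, (hs k (by omega)).1 hspin⟩

end Cfsg.Lib.OrthEl
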