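import Cfsg.Agent.Classical.OrthElusive.Unip

/-!
# A unipotent element fixing members of one class only
-/

set_option autoImplicit false
set_option linter.unusedSectionVars false

open QuadraticMap Submodule Cfsg.Lib.FormNormal Matrix
open Cfsg.Lib.Classical.PrimeOrd (Inv)

namespace Cfsg.Lib.OrthEl

universe u v

section General

variable {F : Type u} [Field F] [Fintype F] {V : Type v} [AddCommGroup V] [Module F V] [FiniteDimensional F V]
  {Q : QuadraticForm F V}

theorem nd_map {G : V ≃ₗ[F] V} {δ : F} (hδ : δ ≠ 0) (hG : ∀ v, Q (G v) = δ * Q v) {W : Submodule F V} (hW : ND Q W) :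
    ND Q (W.map (G : V →ₗ[F] V)) := by
  rintro _ ⟨a, ha, rfl⟩ hp
  have e : a = 0 := hW a ha fun b hb => by
    have h := hp (G b) ⟨b, hb, rfl⟩
    simp only [polar, LinearEquiv.coe_coe, ← map_add, hG] at h
    exact (mul_eq_zero.1 (show δ * polar (⇑Q) a b = 0 by simp only [polar]; linear_combination h)).resolve_left hδ
  rw [e, map_zero]

/-- A similitude with nonsquare multiplier moves odd classes. -/
theorem not_iso_similar (h2 : (2 : F) ≠ 0) {δ : F} (hδ : ¬ IsSquare δ) {G : V ≃ₗ[F] V}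
    (hG : ∀ v, Q (G v) = δ * Q v) {W : Submodule F V} (hW : ND Q W) (hodd : Odd (Module.finrank F W)) :
    ¬ Iso Q W (W.map (G : V →ₗ[F] V)) := by
  classical
  rintro ⟨e, he⟩
  let eG : W ≃ₗ[F] ↥(W.map (G : V →ₗ[F] V)) := Submodule.equivMapOfInjective (G : V →ₗ[F] V) G.injective W
  let φ : W ≃ₗ[F] W := eG.trans e.symm
  have hφ : ∀ w, Q (φ w : V) = δ * Q (w : V) := fun w => by
    have h := he (φ w)
    rw [show e (φ w) = eG w from e.apply_symm_apply _] at h
    rw [← h]
    exact hG _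
  let B : LinearMap.BilinForm F W := polarBilin (Q.comp W.subtype)
  have hB : B.comp φ.toLinearMap φ.toLinearMap = δ • B := LinearMap.ext fun a => LinearMap.ext fun b => by
    show polar (⇑(Q.comp W.subtype)) (φ a) (φ b) = δ * polar (⇑(Q.comp W.subtype)) a b
    simp only [polar, QuadraticMap.comp_apply, ← map_add]
    show Q (φ (a + b) : V) - Q (φ a : V) - Q (φ b : V) = δ * (Q ((a + b : W) : V) - Q (a : V) - Q (b : V))
    rw [hφ, hφ, hφ]
    ring
  let b := Module.finBasis F W
  have h := congrArg (fun C => (LinearMap.BilinForm.toMatrix b C).det) hB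
  simp only [LinearMap.BilinForm.toMatrix_comp b b, map_smul, Matrix.det_mul, Matrix.det_transpose, Matrix.det_smul,
    Fintype.card_fin] at h
  have hd : (LinearMap.BilinForm.toMatrix b B).det ≠ 0 :=
    (LinearMap.BilinForm.nondegenerate_iff_det_ne_zero b).1 (nd_restrict hW)
  set D := (LinearMap.toMatrix b b φ.toLinearMap).det
  have h' : D * D = δ ^ Module.finrank F W := mul_right_cancel₀ hd (by linear_combination h)
  obtain ⟨k, hk⟩ := hodd
  have hδ0 : δ ≠ 0 := fun e => hδ (e ▸ IsSquare.zero)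
  refine hδ ⟨D / δ ^ k, ?_⟩
  rw [hk] at h'
  field_simp
  linear_combination -h'

theorem perp_perp (hQ : ND Q (⊤ : Submodule F V)) (W : Submodule F V) : perp Q ⊤ (perp Q ⊤ W) = W := by
  refine (Submodule.eq_of_le_of_finrank_le
    (show W ≤ perp Q ⊤ (perp Q ⊤ W) from fun w hw =>
      mem_perp.2 ⟨trivial, fun a ha => by rw [QuadraticMap.polar_comm]; exact (mem_perp.1 ha).2 w hw⟩) ?_).symm
  have h1 := finrank_perp hQ (le_top : W ≤ ⊤)
  have h2 := finrank_perp hQ (le_top : perp Q ⊤ W ≤ ⊤)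
  omega

/-- Spaces with isometric complements are isometric. -/
theorem iso_of_perp (hQ : ND Q (⊤ : Submodule F V)) {W W' : Submodule F V}
    (h : Iso Q (perp Q ⊤ W) (perp Q ⊤ W')) : Iso Q W W' := by
  obtain ⟨e, he⟩ := h
  obtain ⟨g, hg, hge⟩ := Cfsg.Lib.Classical.WittQuad.witt Q ⟨fun x h => hQ x trivial fun y _ => h y,
    fun y h => hQ y trivial fun x _ => by rw [QuadraticMap.polar_comm]; exact h x⟩ _ _ e he
  have hsub : W.map (g : V →ₗ[F] V) ≤ perp Q ⊤ (perp Q ⊤ W') := by
    rintro _ ⟨w, hw, rfl⟩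
    refine mem_perp.2 ⟨trivial, fun a ha => ?_⟩
    obtain ⟨b, hb⟩ := e.surjective ⟨a, ha⟩
    have : g (b : V) = a := by rw [hge, hb]
    rw [← this]
    simp only [polar, LinearEquiv.coe_coe, ← map_add, hg]
    rw [show Q ((b : V) + w) - Q (b : V) - Q w = polar (⇑Q) (b : V) w from rfl, QuadraticMap.polar_comm]
    exact (mem_perp.1 b.2).2 w hw
  rw [perp_perp hQ] at hsub
  have heq : W.map (g : V →ₗ[F] V) = W' := Submodule.eq_of_le_of_finrank_le hsub (by
    rw [LinearEquiv.finrank_map_eq]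
    have h1 := finrank_perp hQ (le_top : W ≤ ⊤)
    have h2 := finrank_perp hQ (le_top : W' ≤ ⊤)
    have := e.finrank_eq
    omega)
  rw [← heq]
  exact ⟨Submodule.equivMapOfInjective (g : V →ₗ[F] V) g.injective W, fun w => hg _⟩

/-- Inclusion in a perp is invariant. -/
theorem inv_perp_inj {x : Module.End F V} (hiso : ∀ v, Q (x v) = Q v) (hinj : Function.Injective x)
    {W : Submodule F V} (hW : Inv x W) : Inv x (perp Q ⊤ W) := by
  intro w hw
  refine mem_perp.2 ⟨trivial, fun a ha => ?_⟩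
  have he : W.map x = W := Submodule.eq_of_le_of_finrank_le (by rintro _ ⟨b, hb, rfl⟩; exact hW b hb)
    (LinearEquiv.finrank_eq (Submodule.equivMapOfInjective x hinj W)).le
  rw [← he] at ha
  obtain ⟨b, hb, rfl⟩ := ha
  simp only [polar, ← map_add, hiso]
  exact (mem_perp.1 hw).2 b hb

end General

variable {F : Type u} [Field F] [Fintype F] {ι : Type} [Fintype ι] [DecidableEq ι]
  {Q : QuadraticForm F (ι → F)} {p : ℕ} [Fact p.Prime] [CharP F p]

include p in
/-- Blocks three, one and pairs of twos: one class of odd members. -/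
theorem exists_one_class (hQ : (polarBilin Q).Nondegenerate) (hp : Odd p) (h2 : (2 : F) ≠ 0) {d : ℕ}
    (hn : Fintype.card ι = 2 * d) (hde : Even d) (hd : 2 ≤ d) :
    ∃ X : GL ι F, PElem Q p X ∧ ∀ W W' : Submodule F (ι → F), ND Q W → ND Q W' →
      W.map (Matrix.toLin' (X : Matrix ι ι F)) ≤ W → W'.map (Matrix.toLin' (X : Matrix ι ι F)) ≤ W' →
      Module.finrank F W = Module.finrank F W' → Odd (Module.finrank F W) → Iso Q W W' := by
  classical
  have hp3 := char_three (Fact.out : p.Prime) hp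
  obtain ⟨μ, hμ⟩ : ∃ μ : Multiset ℕ, μ = Multiset.replicate (d - 2) 2 + {3, 1} := ⟨_, rfl⟩
  have hle : ∀ e ∈ μ, 0 < e ∧ e ≤ p := fun e he => by
    simp only [hμ, Multiset.mem_add, Multiset.mem_replicate, Multiset.mem_singleton, Multiset.insert_eq_cons,
      Multiset.mem_cons] at he
    rcases he with ⟨-, rfl⟩ | rfl | rfl <;> omega
  have hev : ∀ e : ℕ, Even e → Even (μ.count e) := fun e he => by
    rw [hμ, Multiset.count_add, Multiset.count_replicate,
      Multiset.count_eq_zero.mpr (fun hmem : e ∈ ({3, 1} : Multiset ℕ) => by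
        simp at hmem; rcases hmem with rfl | rfl <;> simp [Nat.even_iff] at he), add_zero]
    split_ifs
    · exact (Nat.even_sub hd).2 (iff_of_true hde even_two)
    · exact Even.zero
  have hsum : μ.sum = Fintype.card ι := by simp [hμ]; omega
  haveI : Nonempty ι := Fintype.card_pos_iff.mp (by omega)
  obtain ⟨X, hXΩ, hXp, hX, hrk⟩ := Cfsg.Lib.Classical.OrthUni.witness hp h2 Q hQ μ hle hev hsum (a₀ := 3)
    (by simp [hμ]) (by decide)
  have hX1 : X ≠ 1 := fun h1 => by
    have := Cfsg.Lib.Classical.OrthUni.scalar_ones X hXp μ hle hrk (Or.inl h1) 3 (by simp [hμ])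
    omega
  refine ⟨X, pElem_of (p := p) Fintype.card_pos hXΩ hXp hX1, ?_⟩
  set x : Module.End F (ι → F) := Matrix.toLin' (X : Matrix ι ι F) with hx
  have hiso : ∀ v, Q (x v) = Q v := fun v => by rw [hx, Matrix.toLin'_apply]; exact hX v
  have hinj : Function.Injective x := Function.LeftInverse.injective
    (g := Matrix.toLin' ((X⁻¹ : GL ι F) : Matrix ι ι F)) fun v => by
    rw [hx, Matrix.toLin'_apply, Matrix.toLin'_apply, Matrix.mulVec_mulVec, ← Units.val_mul, inv_mul_cancel,
      Units.val_one, Matrix.one_mulVec]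
  have hr1 : Module.finrank F (LinearMap.range (disp x)) = d := by
    have h := hrk 1
    rw [Cfsg.Lib.Classical.OrthUni.rk, pow_one, Submodule.map_top] at h
    rw [show disp x = Matrix.toLin' (X : Matrix ι ι F) - 1 from rfl, h]
    simp [hμ]; omega
  have hr2 : Cfsg.Lib.Classical.OrthUni.rk (disp x) ⊤ 2 = 1 := by
    show Cfsg.Lib.Classical.OrthUni.rk (Matrix.toLin' (X : Matrix ι ι F) - 1) ⊤ 2 = 1
    rw [hrk]; simp [hμ]
  have hk : Module.finrank F (LinearMap.ker (disp x)) = d := by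
    have := LinearMap.finrank_range_add_finrank_ker (disp x)
    rw [Module.finrank_fintype_fun_eq_card] at this
    omega
  set K₁ := LinearMap.ker (disp x) ⊓ LinearMap.range (disp x) with hK₁
  have hK₁d : Module.finrank F K₁ + 1 = d := by
    have h := Cfsg.Lib.Classical.OrthUni.rank_nullity (disp x) (LinearMap.range (disp x))
    have e : (LinearMap.range (disp x)).map (disp x) = (⊤ : Submodule F (ι → F)).map ((disp x) ^ 2) := by
      rw [_root_.sq, Module.End.mul_eq_comp, Submodule.map_comp, Submodule.map_top]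
    rw [e, show Module.finrank F ((⊤ : Submodule F (ι → F)).map ((disp x) ^ 2)) = 1 from hr2, hr1, inf_comm] at h
    rw [hK₁]
    omega
  -- the members killed by the square
  have hA : ∀ Z : Submodule F (ι → F), ND Q Z → Inv x Z → Odd (Module.finrank F Z) →
      (∀ z ∈ Z, disp x (disp x z) = 0) → ∃ (Y : Submodule F (ι → F)) (w : ι → F), ND Q Y ∧ Plus Q Y ∧
        Module.finrank F Y + 1 = Module.finrank F Z ∧ Module.finrank F Z % 4 = 1 ∧ Orth Q Y (span F {w}) ∧
        Y ⊔ span F {w} = Z ∧ w ∈ LinearMap.ker (disp x) ∧ w ∉ K₁ ∧ Q w ≠ 0 := by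
    intro Z hZ hZi hZo hsq
    obtain ⟨s, Y, E, ⟨s', hs⟩, hEK, hEn, hYn, hYp, hYd, hor, hsup, hER⟩ := atype_member hiso hZ hZi hsq fun z hz => by
      have h := disp_orth_ker hiso (hsq z hz) z
      rw [FormNormal.polar_self'] at h
      exact (mul_eq_zero.1 h).resolve_left h2
    have hsum' : Module.finrank F Z = 2 * s + Module.finrank F E := by rw [← hsup, finrank_sup_orth hYn hor, hYd]
    have hE1 : Module.finrank F E ≤ 1 := by
      have e := Submodule.finrank_sup_add_finrank_inf_eq E K₁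
      rw [show E ⊓ K₁ = ⊥ from eq_bot_iff.2 ((inf_le_inf_left _ inf_le_right).trans hER.le), finrank_bot, add_zero] at e
      have := Submodule.finrank_mono (sup_le (hEK.trans inf_le_right) inf_le_left :
        E ⊔ K₁ ≤ LinearMap.ker (disp x))
      omega
    have := Nat.odd_iff.1 hZo
    obtain ⟨w, hw, hw0⟩ := E.exists_mem_ne_zero_of_ne_bot fun e => by rw [e, finrank_bot] at hsum'; omega
    have hEw : span F {w} = E := Submodule.eq_of_le_of_finrank_le ((span_singleton_le_iff_mem _ _).2 hw)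
      (by rw [finrank_span_singleton hw0]; exact hE1)
    refine ⟨Y, w, hYn, hYp, by omega, by omega, hEw.symm ▸ hor, hEw.symm ▸ hsup, (hEK hw).2,
      fun hK => hw0 ((Submodule.mem_bot F).1 (hER ▸ ⟨hw, hK.2⟩)), fun h0 => hw0 (hEn w hw fun y hy => ?_)⟩
    rw [← hEw] at hy
    obtain ⟨c, rfl⟩ := mem_span_singleton.1 hy
    rw [QuadraticMap.polar_smul_right, FormNormal.polar_self', h0, mul_zero, smul_zero]
  have hsame : ∀ Z Z' : Submodule F (ι → F), ND Q Z → ND Q Z' → Inv x Z → Inv x Z' →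
      (∀ z ∈ Z, disp x (disp x z) = 0) → (∀ z ∈ Z', disp x (disp x z) = 0) → Odd (Module.finrank F Z) →
      Module.finrank F Z = Module.finrank F Z' → Iso Q Z Z' := by
    intro Z Z' hZ hZ' hZi hZ'i hsq hsq' hodd hd'
    obtain ⟨Y, w, hYn, hYp, hYd, -, hor, hsup, hwk, hwK, hQw⟩ := hA Z hZ hZi hodd hsq
    obtain ⟨Y', w', hY'n, hY'p, hY'd, -, hor', hsup', hw'k, hw'K, hQw'⟩ := hA Z' hZ' hZ'i (hd' ▸ hodd) hsq'
    have hw0 : w ≠ 0 := fun e => hQw (by rw [e, QuadraticMap.map_zero])
    have hker : K₁ ⊔ span F {w} = LinearMap.ker (disp x) := by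
      refine Submodule.eq_of_le_of_finrank_le (sup_le inf_le_left ((span_singleton_le_iff_mem _ _).2 hwk)) ?_
      have e := Submodule.finrank_sup_add_finrank_inf_eq K₁ (span F {w})
      have hb : K₁ ⊓ span F {w} = ⊥ := eq_bot_iff.2 fun z hz => by
        obtain ⟨c, rfl⟩ := mem_span_singleton.1 hz.2
        by_cases hc : c = 0
        · simp [hc]
        · refine absurd ?_ hwK
          have := K₁.smul_mem c⁻¹ hz.1
          rwa [smul_smul, inv_mul_cancel₀ hc, one_smul] at this
      rw [hb, finrank_bot, finrank_span_singleton hw0] at e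
      omega
    obtain ⟨r, hr, z, hz, hrz⟩ := mem_sup.1 (hker.ge hw'k)
    obtain ⟨c, rfl⟩ := mem_span_singleton.1 hz
    obtain ⟨u, hu⟩ := hr.2
    have hpr : ∀ k, disp x k = 0 → polar (⇑Q) r k = 0 := fun k hk => by rw [← hu]; exact disp_orth_ker hiso hk u
    have hQr : Q r = 0 := by
      have h := hpr r (LinearMap.mem_ker.1 hr.1)
      rw [FormNormal.polar_self'] at h
      exact (mul_eq_zero.1 h).resolve_left h2
    have hQ' : Q w' = Q (c • w) := by
      rw [← hrz, QuadraticMap.map_add (f := Q), hQr, QuadraticMap.polar_smul_right,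
        hpr w (LinearMap.mem_ker.1 hwk), smul_zero, zero_add, add_zero]
    have hc : c ≠ 0 := fun e => hQw' (by rw [hQ', e, zero_smul, QuadraticMap.map_zero])
    have hline : Iso Q (span F {w}) (span F {w'}) := by
      have h1 : span F {w} = span F (Set.range ![c • w]) := by
        rw [Matrix.range_cons, Matrix.range_empty, Set.union_empty, Submodule.span_singleton_smul_eq hc.isUnit]
      have h2' : span F {w'} = span F (Set.range ![w']) := by
        rw [Matrix.range_cons, Matrix.range_empty, Set.union_empty]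
      rw [h1, h2']
      refine iso_span (linearIndependent_unique_iff.2 (smul_ne_zero hc hw0))
        (linearIndependent_unique_iff.2 (fun e => hQw' (by rw [show w' = 0 from e, QuadraticMap.map_zero]))) (fun i => ?_) fun i j => ?_
      · fin_cases i; exact hQ'
      · fin_cases i; fin_cases j; simp [FormNormal.polar_self', hQ']
    rw [← hsup, ← hsup']
    refine (iso_of_plus hYn hY'n (by omega) ?_ (iff_of_true hYp hY'p)).sup hline hYn hor hor'
    obtain ⟨k, hk'⟩ := hodd
    exact ⟨k, by omega⟩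
  intro W W' hW hW' hmap hmap' hdim hodd
  have hWi := inv_of_map_le hmap
  have hW'i := inv_of_map_le hmap'
  -- one of a member and its complement is killed by the square
  have hsplit : ∀ Z : Submodule F (ι → F), ND Q Z → Inv x Z → Odd (Module.finrank F Z) →
      ((∀ z ∈ Z, disp x (disp x z) = 0) ∧ Module.finrank F Z % 4 = 1) ∨
        ((∀ z ∈ perp Q ⊤ Z, disp x (disp x z) = 0) ∧ Module.finrank F Z % 4 = 3) := by
    intro Z hZ hZi hZo
    obtain ⟨hs, hRn⟩ := sup_perp (nd_top_of_nondeg hQ) (le_top : Z ≤ ⊤) hZ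
    have hRi := inv_perp_inj hiso hinj hZi
    have hd' := finrank_perp (nd_top_of_nondeg hQ) (le_top : Z ≤ ⊤)
    rw [finrank_top, Module.finrank_fintype_fun_eq_card, hn] at hd'
    have hRo : Odd (Module.finrank F (perp Q ⊤ Z)) := by
      have := Nat.odd_iff.1 hZo; rw [Nat.odd_iff]; omega
    have hc : IsCompl Z (perp Q ⊤ Z) :=
      ⟨disjoint_iff.2 (nd_disjoint hZ (orth_perp _ _)), codisjoint_iff.2 hs⟩
    have hN : ∀ {U : Submodule F (ι → F)}, Inv x U → ∀ w ∈ U, disp x w ∈ U := fun hU w hw => by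
      rw [disp_apply]; exact Submodule.sub_mem _ (hU w hw) hw
    have h := Cfsg.Lib.Classical.OrthUni.rk_add (disp x) hc (hN hZi) (hN hRi) 2
    rw [hr2] at h
    have hz : ∀ U : Submodule F (ι → F), Cfsg.Lib.Classical.OrthUni.rk (disp x) U 2 = 0 →
        ∀ z ∈ U, disp x (disp x z) = 0 := fun U h0 z hz => by
      have : ((disp x) ^ 2) z ∈ U.map ((disp x) ^ 2) := ⟨z, hz, rfl⟩
      rw [Submodule.finrank_eq_zero.1 h0, Submodule.mem_bot, _root_.sq] at this
      exact this
    have h4 : (2 * d) % 4 = 0 := by have := Nat.even_iff.1 hde; omega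
    rcases Nat.eq_zero_or_pos (Cfsg.Lib.Classical.OrthUni.rk (disp x) Z 2) with h0 | h0
    · obtain ⟨_, _, -, -, -, hmod, -⟩ := hA Z hZ hZi hZo (hz Z h0)
      exact Or.inl ⟨hz Z h0, hmod⟩
    · have h0' : Cfsg.Lib.Classical.OrthUni.rk (disp x) (perp Q ⊤ Z) 2 = 0 := by omega
      obtain ⟨_, _, -, -, -, hmod, -⟩ := hA _ hRn hRi hRo (hz _ h0')
      exact Or.inr ⟨hz _ h0', by omega⟩
  rcases hsplit W hW hWi hodd with ⟨h1, e1⟩ | ⟨h1, e1⟩ <;>
    rcases hsplit W' hW' hW'i (hdim ▸ hodd) with ⟨h2', e2⟩ | ⟨h2', e2⟩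
  · exact hsame W W' hW hW' hWi hW'i h1 h2' hodd hdim
  · omega
  · omega
  · have hd1 := finrank_perp (nd_top_of_nondeg hQ) (le_top : W ≤ ⊤)
    have hd2 := finrank_perp (nd_top_of_nondeg hQ) (le_top : W' ≤ ⊤)
    rw [finrank_top, Module.finrank_fintype_fun_eq_card, hn] at hd1 hd2
    refine iso_of_perp (nd_top_of_nondeg hQ) (hsame _ _ (sup_perp (nd_top_of_nondeg hQ) le_top hW).2
      (sup_perp (nd_top_of_nondeg hQ) le_top hW').2 (inv_perp_inj hiso hinj hWi) (inv_perp_inj hiso hinj hW'i) h1 h2'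
      ?_ (by omega))
    rw [Nat.odd_iff] at hodd ⊢
    omega

include p in
/-- Avoiding a given odd class. -/
theorem exists_avoid_class (hQ : (polarBilin Q).Nondegenerate) (hp : Odd p) (h2 : (2 : F) ≠ 0) {d : ℕ}
    (hn : Fintype.card ι = 2 * d) (hde : Even d) (hd : 4 ≤ d) {W₀ : Submodule F (ι → F)} (hW₀ : ND Q W₀)
    (hodd : Odd (Module.finrank F W₀)) :
    ∃ X : GL ι F, PElem Q p X ∧ ∀ W : Submodule F (ι → F), Iso Q W₀ W →
      ¬ W.map (Matrix.toLin' (X : Matrix ι ι F)) ≤ W := by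
  classical
  obtain ⟨X, hX, hone⟩ := exists_one_class (p := p) hQ hp h2 hn hde (by omega)
  by_cases hex : ∃ W₁ : Submodule F (ι → F), Iso Q W₀ W₁ ∧ W₁.map (Matrix.toLin' (X : Matrix ι ι F)) ≤ W₁
  swap
  · exact ⟨X, hX, fun W hW hmap => hex ⟨W, hW, hmap⟩⟩
  obtain ⟨W₁, hW₁, hW₁i⟩ := hex
  obtain ⟨δ, hδ⟩ := FiniteField.exists_nonsquare (F := F) (fun h => h2 (by
    haveI := ringChar.of_eq h; exact CharTwo.two_eq_zero))
  have hδ0 : δ ≠ 0 := fun e => hδ (e ▸ IsSquare.zero)
  obtain ⟨G, hG⟩ := similar_even (V := ι → F) (Q := Q) (n := d)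
    (by rw [Module.finrank_fintype_fun_eq_card, hn]) hQ hδ0
  let T : Module.End F (ι → F) := G.conj (Matrix.toLin' (X : Matrix ι ι F))
  have hT : ∀ v, T v = G (Matrix.toLin' (X : Matrix ι ι F) (G.symm v)) := fun v => rfl
  have hTp : ∀ (j : ℕ) v, (T ^ j) v = G ((Matrix.toLin' (X : Matrix ι ι F) ^ j) (G.symm v)) := fun j => by
    induction j with
    | zero => intro v; simp
    | succ j ih => intro v; rw [pow_succ', Module.End.mul_apply, ih, hT, G.symm_apply_apply, pow_succ']; rfl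
  have hTr : RIsom Q p T := ⟨fun v => by
      rw [hT, hG, Matrix.toLin'_apply, omega_isom hX.1, ← hG, G.apply_symm_apply],
    LinearMap.ext fun v => by
      rw [hTp, ← pow_toLin', ← Units.val_pow_eq_pow_val, hX.2.1, Units.val_one, Matrix.toLin'_one,
        LinearMap.id_apply, G.apply_symm_apply]; rfl⟩
  have hp2 : p ≠ 2 := fun e => by rw [e] at hp; exact absurd hp (by decide)
  obtain ⟨Y, hYΩ, hYp, hY⟩ := exists_gl hQ (by omega) hp2 hTr
  have hY1 : Y ≠ 1 := fun e => hX.2.2.1 (Units.ext (Matrix.toLin'.injective (LinearMap.ext fun v => by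
    have h := LinearMap.congr_fun hY (G v)
    rw [hT, G.symm_apply_apply, e, Units.val_one, Matrix.toLin'_one] at h
    rw [Units.val_one, Matrix.toLin'_one]
    exact (G.injective h).symm)))
  refine ⟨Y, pElem_of (by omega) hYΩ hYp hY1, fun W hW hmap => ?_⟩
  set W' := W.map (G.symm : (ι → F) →ₗ[F] (ι → F))
  have hWn := hW.nd hW₀
  have hW'n : ND Q W' := nd_map (inv_ne_zero hδ0) (fun v => by
    have := hG (G.symm v)
    rw [G.apply_symm_apply] at this
    rw [this, inv_mul_cancel_left₀ hδ0]) hWn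
  have hW'i : W'.map (Matrix.toLin' (X : Matrix ι ι F)) ≤ W' := by
    rintro _ ⟨_, ⟨w, hw, rfl⟩, rfl⟩
    refine ⟨T w, hY ▸ hmap ⟨w, hw, rfl⟩, ?_⟩
    rw [LinearEquiv.coe_coe, hT, G.symm_apply_apply]
  have hback : W'.map (G : (ι → F) →ₗ[F] (ι → F)) = W := by
    rw [← Submodule.map_comp]
    simp
  have hd' : Module.finrank F W' = Module.finrank F W₀ := (LinearEquiv.finrank_map_eq _ _).trans hW.finrank.symm
  have hi : Iso Q W' W₁ :=
    hone W' W₁ hW'n (hW₁.nd hW₀) hW'i hW₁i (hd'.trans hW₁.finrank) (hd' ▸ hodd)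
  have h := hi.trans (hW₁.symm.trans hW)
  rw [← hback] at h
  exact not_iso_similar h2 hδ hG hW'n (hd' ▸ hodd) h

end Cfsg.Lib.OrthEl
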