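import Cfsg.Agent.Known.FormIndex

/-!
# Nondegenerate subspaces of a quadratic space: index, type and subspaces of given isometry class
-/

set_option autoImplicit false
set_option linter.unusedSectionVars false

open QuadraticMap Submodule Cfsg.Lib.FormNormal

namespace Cfsg.Lib.OrthEl

universe u v

variable {F : Type u} [Field F] [Finite F] {V : Type v} [AddCommGroup V] [Module F V] [FiniteDimensional F V]
  (Q : QuadraticForm F V)

/-- Orthogonal subspaces. -/
def Orth (A B : Submodule F V) : Prop := ∀ a ∈ A, ∀ b ∈ B, polar (⇑Q) a b = 0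

/-- Totally singular subspaces. -/
def TS (U : Submodule F V) : Prop := ∀ u ∈ U, Q u = 0

/-- Plus type: a totally singular subspace of half dimension. -/
def Plus (W : Submodule F V) : Prop := ∃ U ≤ W, TS Q U ∧ 2 * Module.finrank F U = Module.finrank F W

/-- The vectors of `W` orthogonal to `A`. -/
def perp (W A : Submodule F V) : Submodule F V := W ⊓ LinearMap.BilinForm.orthogonal (polarBilin Q) A

/-- Isometric subspaces. -/
def Iso (A B : Submodule F V) : Prop := ∃ e : A ≃ₗ[F] B, ∀ w : A, Q (e w : V) = Q (w : V)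

/-- The Witt index of a subspace. -/
noncomputable def idx (W : Submodule F V) : ℕ :=
  @Nat.findGreatest (fun k => ∃ U ≤ W, TS Q U ∧ Module.finrank F U = k) (_root_.Classical.decPred _)
    (Module.finrank F W)

variable {Q}

theorem mem_perp {W A : Submodule F V} {w : V} : w ∈ perp Q W A ↔ w ∈ W ∧ ∀ a ∈ A, polar (⇑Q) a w = 0 := Iff.rfl

theorem perp_le (W A : Submodule F V) : perp Q W A ≤ W := inf_le_left

theorem orth_perp (W A : Submodule F V) : Orth Q A (perp Q W A) := fun a ha _ hw => (mem_perp.1 hw).2 a ha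

theorem Orth.symm {A B : Submodule F V} (h : Orth Q A B) : Orth Q B A := fun b hb a ha => by
  rw [QuadraticMap.polar_comm]; exact h a ha b hb

theorem Orth.mono {A B A' B' : Submodule F V} (h : Orth Q A B) (hA : A' ≤ A) (hB : B' ≤ B) : Orth Q A' B' :=
  fun a ha b hb => h a (hA ha) b (hB hb)

theorem Orth.sup_right {A B C : Submodule F V} (h : Orth Q A B) (h' : Orth Q A C) : Orth Q A (B ⊔ C) := by
  intro a ha w hw
  obtain ⟨b, hb, c, hc, rfl⟩ := mem_sup.1 hw
  rw [QuadraticMap.polar_add_right, h a ha b hb, h' a ha c hc, add_zero]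

theorem Orth.q_add {A B : Submodule F V} (h : Orth Q A B) {a b : V} (ha : a ∈ A) (hb : b ∈ B) :
    Q (a + b) = Q a + Q b := by
  rw [QuadraticMap.map_add (f := Q), h a ha b hb, add_zero]

theorem ts_polar {U : Submodule F V} (hU : TS Q U) {u w : V} (hu : u ∈ U) (hw : w ∈ U) : polar (⇑Q) u w = 0 := by
  simp [polar, hU u hu, hU w hw, hU _ (U.add_mem hu hw)]

theorem ts_sup {A B : Submodule F V} (hA : TS Q A) (hB : TS Q B) (h : Orth Q A B) : TS Q (A ⊔ B) := by
  intro w hw
  obtain ⟨a, ha, b, hb, rfl⟩ := mem_sup.1 hw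
  rw [h.q_add ha hb, hA a ha, hB b hb, add_zero]

theorem nd_restrict {W : Submodule F V} (hW : ND Q W) : (polarBilin (Q.comp W.subtype)).Nondegenerate := by
  refine ⟨fun x hx => Subtype.ext (hW x.1 x.2 fun y hy => ?_), fun y hy => Subtype.ext (hW y.1 y.2 fun x hx => ?_)⟩
  · simpa [polar] using hx ⟨y, hy⟩
  · rw [QuadraticMap.polar_comm]; simpa [polar] using hy ⟨x, hx⟩

theorem finrank_perp {W A : Submodule F V} (hW : ND Q W) (hA : A ≤ W) :
    Module.finrank F (perp Q W A) + Module.finrank F A = Module.finrank F W := by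
  have e1 : Module.finrank F (A.comap W.subtype) = Module.finrank F A :=
    (Submodule.comapSubtypeEquivOfLe hA).finrank_eq
  have e2 : (LinearMap.BilinForm.orthogonal (polarBilin (Q.comp W.subtype)) (A.comap W.subtype)) =
      (perp Q W A).comap W.subtype := by
    ext ⟨w, hw⟩
    rw [Submodule.mem_comap, LinearMap.BilinForm.mem_orthogonal_iff]
    refine ⟨fun h => mem_perp.2 ⟨hw, fun a ha => ?_⟩, fun h a ha => ?_⟩
    · simpa [polar] using h ⟨a, hA ha⟩ ha
    · show polar (⇑(Q.comp W.subtype)) a _ = 0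
      simpa [polar] using (mem_perp.1 h).2 a.1 ha
  have h := LinearMap.BilinForm.finrank_orthogonal (nd_restrict hW) (A.comap W.subtype)
  rw [e2, e1, (Submodule.comapSubtypeEquivOfLe (perp_le W A)).finrank_eq] at h
  have := Submodule.finrank_mono hA
  omega

theorem nd_disjoint {W : Submodule F V} (hW : ND Q W) {B : Submodule F V} (h : Orth Q W B) : W ⊓ B = ⊥ := by
  rw [eq_bot_iff]
  rintro x ⟨hx, hxB⟩
  exact hW x hx fun y hy => by rw [QuadraticMap.polar_comm]; exact h y hy x hxB

theorem finrank_sup_orth {A B : Submodule F V} (hA : ND Q A) (h : Orth Q A B) :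
    Module.finrank F ↥(A ⊔ B) = Module.finrank F A + Module.finrank F B := by
  have e := Submodule.finrank_sup_add_finrank_inf_eq A B
  rw [nd_disjoint hA h, finrank_bot, add_zero] at e
  exact e

theorem nd_sup {A B : Submodule F V} (hA : ND Q A) (hB : ND Q B) (h : Orth Q A B) : ND Q (A ⊔ B) := by
  intro x hx hperp
  obtain ⟨a, ha, b, hb, rfl⟩ := mem_sup.1 hx
  have ha0 : a = 0 := hA a ha fun y hy => by
    have := hperp y (mem_sup_left hy)
    rwa [QuadraticMap.polar_add_left, h.symm b hb y hy, add_zero] at this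
  have hb0 : b = 0 := hB b hb fun y hy => by
    have := hperp y (mem_sup_right hy)
    rwa [QuadraticMap.polar_add_left, h a ha y hy, zero_add] at this
  rw [ha0, hb0, add_zero]

theorem nd_bot : ND Q (⊥ : Submodule F V) := fun x hx _ => (Submodule.mem_bot F).1 hx

/-- Splitting off a nondegenerate subspace. -/
theorem sup_perp {W A : Submodule F V} (hW : ND Q W) (hA : A ≤ W) (hAn : ND Q A) :
    A ⊔ perp Q W A = W ∧ ND Q (perp Q W A) := by
  have he : A ⊔ perp Q W A = W := Submodule.eq_of_le_of_finrank_eq (sup_le hA (perp_le W A)) (by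
    rw [finrank_sup_orth hAn (orth_perp W A)]; have := finrank_perp hW hA; omega)
  refine ⟨he, fun x hx h => hW x (perp_le W A hx) fun y hy => ?_⟩
  rw [← he] at hy
  obtain ⟨a, ha, b, hb, rfl⟩ := mem_sup.1 hy
  rw [QuadraticMap.polar_add_right, h b hb, add_zero, QuadraticMap.polar_comm]
  exact (mem_perp.1 hx).2 a ha

theorem ts_span {κ : Type} {f : κ → V} (hv : ∀ i, Q (f i) = 0) (hp : ∀ i j, polar (⇑Q) (f i) (f j) = 0) :
    TS Q (span F (Set.range f)) := by
  intro w hw
  have hpp : ∀ z ∈ span F (Set.range f), ∀ i, polar (⇑Q) (f i) z = 0 := fun z hz i => by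
    have hle : span F (Set.range f) ≤ LinearMap.ker (polarBilin Q (f i)) :=
      span_le.2 (by rintro _ ⟨j, rfl⟩; exact hp i j)
    exact hle hz
  induction hw using Submodule.span_induction with
  | mem x hx => obtain ⟨i, rfl⟩ := hx; exact hv i
  | zero => exact QuadraticMap.map_zero Q
  | add x y hx hy ihx ihy =>
    have hxy : polar (⇑Q) x y = 0 := by
      have hle : span F (Set.range f) ≤ LinearMap.ker (polarBilin Q y) :=
        span_le.2 (by rintro _ ⟨j, rfl⟩; show polar (⇑Q) y (f j) = 0; rw [QuadraticMap.polar_comm]; exact hpp y hy j)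
      rw [QuadraticMap.polar_comm]; exact hle hx
    rw [QuadraticMap.map_add (f := Q), ihx, ihy, hxy]; simp
  | smul t x hx ih => rw [QuadraticMap.map_smul, ih, smul_zero]

theorem exists_le_of_finrank {U : Submodule F V} {k : ℕ} (hk : k ≤ Module.finrank F U) :
    ∃ U' ≤ U, Module.finrank F U' = k := by
  let b := Module.finBasis F U
  have hli : LinearIndependent F (fun i : Fin k => (b (Fin.castLE hk i) : V)) :=
    (b.linearIndependent.comp _ (Fin.castLE_injective hk)).map' U.subtype U.ker_subtype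
  refine ⟨span F (Set.range fun i : Fin k => (b (Fin.castLE hk i) : V)), span_le.2 ?_, ?_⟩
  · rintro _ ⟨i, rfl⟩; exact (b _).2
  · rw [finrank_span_eq_card hli, Fintype.card_fin]

theorem le_idx {W U : Submodule F V} (hU : U ≤ W) (hts : TS Q U) : Module.finrank F U ≤ idx Q W := by
  classical
  exact Nat.le_findGreatest (Submodule.finrank_mono hU) ⟨U, hU, hts, rfl⟩

theorem exists_ts {W : Submodule F V} {k : ℕ} (hk : k ≤ idx Q W) :
    ∃ U ≤ W, TS Q U ∧ Module.finrank F U = k := by
  classical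
  have h0 : ∃ U ≤ W, TS Q U ∧ Module.finrank F U = 0 :=
    ⟨⊥, bot_le, fun u hu => by rw [(Submodule.mem_bot F).1 hu, QuadraticMap.map_zero], finrank_bot F V⟩
  obtain ⟨U, hU, hts, hd⟩ : ∃ U ≤ W, TS Q U ∧ Module.finrank F U = idx Q W :=
    Nat.findGreatest_spec (P := fun j => ∃ U ≤ W, TS Q U ∧ Module.finrank F U = j) (Nat.zero_le _) h0
  obtain ⟨U', hU', hd'⟩ := exists_le_of_finrank (hd ▸ hk)
  exact ⟨U', hU'.trans hU, fun u hu => hts u (hU' hu), hd'⟩

/-- A decomposition realising the index. -/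
theorem exists_dec {W : Submodule F V} (hW : ND Q W) :
    ∃ D : Decomp Q W, D.m = idx Q W ∧ ∃ D' : Decomp (Q.comp W.subtype) (⊤ : Submodule F W), D'.m = idx Q W := by
  obtain ⟨D⟩ := exists_decomp (Q.comp W.subtype) _ ⊤ rfl (nd_top _ (nd_restrict hW))
  have hp : ∀ x y : W, polar (⇑(Q.comp W.subtype)) x y = polar (⇑Q) (x : V) (y : V) := fun x y => by simp [polar]
  let D' : Decomp Q W :=
    { m := D.m
      e := fun i => (D.e i : V)
      f := fun i => (D.f i : V)
      K := D.K.map W.subtype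
      hK := Submodule.map_subtype_le W D.K
      ndK := by
        rintro _ ⟨x, hx, rfl⟩ h
        rw [D.ndK x hx fun y hy => by rw [hp]; exact h _ ⟨y, hy, rfl⟩]; rfl
      aniso := by
        rintro _ ⟨x, hx, rfl⟩ h
        rw [D.aniso x hx h]; rfl
      he := fun i => (D.e i).2
      hf := fun i => (D.f i).2
      qe := D.qe
      qf := D.qf
      ef := fun i j => by rw [← hp]; exact D.ef i j
      ee := fun i j => by rw [← hp]; exact D.ee i j
      ff := fun i j => by rw [← hp]; exact D.ff i j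
      ek := by rintro i _ ⟨x, hx, rfl⟩; rw [← D.ek i x hx, hp]; rfl
      fk := by rintro i _ ⟨x, hx, rfl⟩; rw [← D.fk i x hx, hp]; rfl
      dim := by
        have := D.dim
        rw [finrank_top] at this
        rw [(Submodule.equivMapOfInjective W.subtype W.injective_subtype D.K).finrank_eq.symm]
        exact this
      small := by
        rw [(Submodule.equivMapOfInjective W.subtype W.injective_subtype D.K).finrank_eq.symm]
        exact D.small }
  have key : D.m = idx Q W := by
    refine le_antisymm ?_ ?_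
    · have h := le_idx (Q := Q) (W := W) (U := (span F (Set.range D.e)).map W.subtype) (Submodule.map_subtype_le W _)
        (by rintro _ ⟨u, hu, rfl⟩; exact D.span_e_singular u hu)
      rwa [(Submodule.equivMapOfInjective W.subtype W.injective_subtype _).finrank_eq.symm,
        finrank_span_eq_card D.e_indep, Fintype.card_fin] at h
    · obtain ⟨U, hU, hts, hd⟩ := exists_ts (Q := Q) (W := W) le_rfl
      -- a maximal totally singular subspace above `U`
      classical
      haveI : Finite W := Module.finite_of_finite F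
      haveI : Finite (Submodule F W) := Finite.of_injective _ SetLike.coe_injective
      obtain ⟨M, hUM, hmax⟩ := Set.Finite.exists_le_maximal
        (Set.toFinite {M : Submodule F W | TS (Q.comp W.subtype) M})
        (show U.comap W.subtype ∈ {M : Submodule F W | TS (Q.comp W.subtype) M} from fun u hu => hts _ hu)
      rw [index_eq (nd_restrict hW) D M hmax.1 fun M' hle hM' => le_antisymm (hmax.2 hM' hle) hle, ← hd,
        ← (Submodule.comapSubtypeEquivOfLe hU).finrank_eq]
      exact Submodule.finrank_mono hUM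
  exact ⟨D', key, D, key⟩

theorem idx_bounds {W : Submodule F V} (hW : ND Q W) :
    2 * idx Q W ≤ Module.finrank F W ∧ Module.finrank F W ≤ 2 * idx Q W + 2 := by
  obtain ⟨D, hD, -⟩ := exists_dec hW
  have := D.dim
  have := D.small
  omega

theorem plus_iff {W : Submodule F V} (hW : ND Q W) : Plus Q W ↔ 2 * idx Q W = Module.finrank F W := by
  refine ⟨fun ⟨U, hU, hts, hd⟩ => ?_, fun h => ?_⟩
  · have := le_idx hU hts
    have := (idx_bounds hW).1
    omega
  · obtain ⟨U, hU, hts, hd⟩ := exists_ts (Q := Q) (W := W) le_rfl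
    exact ⟨U, hU, hts, by omega⟩

theorem plus_bot : Plus Q (⊥ : Submodule F V) :=
  ⟨⊥, le_rfl, fun u hu => by rw [(Submodule.mem_bot F).1 hu, QuadraticMap.map_zero], by simp⟩

theorem Iso.refl (W : Submodule F V) : Iso Q W W := ⟨LinearEquiv.refl F W, fun _ => rfl⟩

theorem Iso.symm {A B : Submodule F V} (h : Iso Q A B) : Iso Q B A := by
  obtain ⟨e, he⟩ := h
  exact ⟨e.symm, fun w => by conv_rhs => rw [← e.apply_symm_apply w, he]⟩

theorem Iso.trans {A B C : Submodule F V} (h : Iso Q A B) (h' : Iso Q B C) : Iso Q A C := by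
  obtain ⟨e, he⟩ := h
  obtain ⟨e', he'⟩ := h'
  exact ⟨e.trans e', fun w => by rw [LinearEquiv.trans_apply, he', he]⟩

theorem Iso.finrank {A B : Submodule F V} (h : Iso Q A B) : Module.finrank F A = Module.finrank F B :=
  h.choose.finrank_eq

theorem Iso.plus {A B : Submodule F V} (h : Iso Q A B) (hA : Plus Q A) : Plus Q B := by
  obtain ⟨e, he⟩ := h
  obtain ⟨U, hU, hts, hd⟩ := hA
  refine ⟨((U.comap A.subtype).map e.toLinearMap).map B.subtype, Submodule.map_subtype_le B _, ?_, ?_⟩
  · rintro _ ⟨_, ⟨u, hu, rfl⟩, rfl⟩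
    exact (he u).trans (hts _ hu)
  · rw [← (Submodule.equivMapOfInjective B.subtype B.injective_subtype _).finrank_eq, LinearEquiv.finrank_map_eq,
      (Submodule.comapSubtypeEquivOfLe hU).finrank_eq, hd, e.finrank_eq]

theorem Iso.nd {A B : Submodule F V} (h : Iso Q A B) (hA : ND Q A) : ND Q B := by
  obtain ⟨e, he⟩ := h
  have hp : ∀ x y : A, polar (⇑Q) (e x : V) (e y : V) = polar (⇑Q) (x : V) (y : V) := fun x y => by
    simp only [polar, ← Submodule.coe_add, ← map_add, he]
  intro x hx hperp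
  obtain ⟨a, ha⟩ := e.surjective ⟨x, hx⟩
  have : (a : V) = 0 := hA _ a.2 fun y hy => by
    have h2 := hperp _ (e ⟨y, hy⟩).2
    rw [show x = (e a : V) from (congrArg Subtype.val ha).symm, hp] at h2
    exact h2
  have ha0 : a = 0 := Subtype.ext this
  rw [ha0, map_zero] at ha
  exact (congrArg Subtype.val ha).symm

theorem Iso.sup {A B A' B' : Submodule F V} (h : Iso Q A A') (h' : Iso Q B B') (hA : ND Q A) (hAB : Orth Q A B)
    (hA'B' : Orth Q A' B') : Iso Q (A ⊔ B) (A' ⊔ B') := by
  classical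
  obtain ⟨e, he⟩ := h
  obtain ⟨e', he'⟩ := h'
  have hA' : ND Q A' := Iso.nd ⟨e, he⟩ hA
  let φ : (A × B) →ₗ[F] ↥(A ⊔ B) :=
    (LinearMap.coprod A.subtype B.subtype).codRestrict _ fun p => add_mem_sup p.1.2 p.2.2
  have hφ : Function.Bijective φ := by
    refine ⟨(injective_iff_map_eq_zero φ).2 fun p hp => ?_, fun w => ?_⟩
    · have h0 : (p.1 : V) + p.2 = 0 := congrArg Subtype.val hp
      have h1 : (p.1 : V) ∈ A ⊓ B := ⟨p.1.2, by rw [eq_neg_of_add_eq_zero_left h0]; exact B.neg_mem p.2.2⟩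
      rw [nd_disjoint hA hAB, Submodule.mem_bot] at h1
      rw [h1, zero_add] at h0
      exact Prod.ext (Subtype.ext h1) (Subtype.ext h0)
    · obtain ⟨a, ha, b, hb, hab⟩ := mem_sup.1 w.2
      exact ⟨(⟨a, ha⟩, ⟨b, hb⟩), Subtype.ext hab⟩
  let ψ : (A × B) →ₗ[F] ↥(A' ⊔ B') :=
    (LinearMap.coprod (A'.subtype ∘ₗ e.toLinearMap) (B'.subtype ∘ₗ e'.toLinearMap)).codRestrict _ fun p =>
      add_mem_sup (e p.1).2 (e' p.2).2
  have hψ : Function.Bijective ψ := by
    refine ⟨(injective_iff_map_eq_zero ψ).2 fun p hp => ?_, fun w => ?_⟩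
    · have h0 : (e p.1 : V) + e' p.2 = 0 := congrArg Subtype.val hp
      have h1 : (e p.1 : V) ∈ A' ⊓ B' := ⟨(e p.1).2, by rw [eq_neg_of_add_eq_zero_left h0]; exact B'.neg_mem (e' p.2).2⟩
      rw [nd_disjoint hA' hA'B', Submodule.mem_bot] at h1
      rw [h1, zero_add] at h0
      exact Prod.ext (e.map_eq_zero_iff.1 (Subtype.ext h1)) (e'.map_eq_zero_iff.1 (Subtype.ext h0))
    · obtain ⟨a, ha, b, hb, hab⟩ := mem_sup.1 w.2
      refine ⟨(e.symm ⟨a, ha⟩, e'.symm ⟨b, hb⟩), Subtype.ext ?_⟩
      show (e (e.symm ⟨a, ha⟩) : V) + (e' (e'.symm ⟨b, hb⟩) : V) = (w : V)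
      rw [e.apply_symm_apply, e'.apply_symm_apply]
      exact hab
  refine ⟨(LinearEquiv.ofBijective φ hφ).symm.trans (LinearEquiv.ofBijective ψ hψ), fun w => ?_⟩
  obtain ⟨p, rfl⟩ := (LinearEquiv.ofBijective φ hφ).surjective w
  rw [LinearEquiv.trans_apply, LinearEquiv.symm_apply_apply]
  show Q ((e p.1 : V) + e' p.2) = Q ((p.1 : V) + p.2)
  rw [hA'B'.q_add (e p.1).2 (e' p.2).2, hAB.q_add p.1.2 p.2.2, he, he']

/-- Even-dimensional subspaces of the same type are isometric. -/
theorem iso_of_plus {A B : Submodule F V} (hA : ND Q A) (hB : ND Q B)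
    (hd : Module.finrank F A = Module.finrank F B) (he : Even (Module.finrank F A)) (h : Plus Q A ↔ Plus Q B) :
    Iso Q A B := by
  obtain ⟨-, -, DA, hDA⟩ := exists_dec hA
  obtain ⟨-, -, DB, hDB⟩ := exists_dec hB
  have h1 := idx_bounds hA
  have h2 := idx_bounds hB
  rw [plus_iff hA, plus_iff hB] at h
  obtain ⟨a, ha⟩ := he
  obtain ⟨g, hg⟩ := equiv_of_index DA DB (by rw [hDA, hDB]; omega) hd ⟨a, ha⟩
  exact ⟨g, fun w => (hg w).symm⟩

/-- Hyperbolic pairs inside a space. -/
theorem exists_pairs {W : Submodule F V} (hW : ND Q W) {k : ℕ} (hk : k ≤ idx Q W) :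
    ∃ H ≤ W, ND Q H ∧ Module.finrank F H = 2 * k ∧ Plus Q H := by
  obtain ⟨D, hD, -⟩ := exists_dec hW
  have hkm : k ≤ D.m := by omega
  let e : Fin k → V := fun i => D.e (Fin.castLE hkm i)
  let f : Fin k → V := fun i => D.f (Fin.castLE hkm i)
  have hli : LinearIndependent F (Sum.elim e f) := by
    have h := (D.indep (κ := Fin 0) Fin.elim0 (fun i => i.elim0) linearIndependent_empty_type).comp
      (fun i : Fin k ⊕ Fin k => Sum.inl (Sum.map (Fin.castLE hkm) (Fin.castLE hkm) i))
      (Sum.inl_injective.comp ((Fin.castLE_injective _).sumMap (Fin.castLE_injective _)))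
    convert h using 1
    funext i; rcases i with i | i <;> rfl
  refine ⟨span F (Set.range (Sum.elim e f)), span_le.2 ?_, fun x hx h => ?_, ?_, span F (Set.range e), ?_, ?_, ?_⟩
  · rintro _ ⟨i | i, rfl⟩
    exacts [D.he _, D.hf _]
  · obtain ⟨c, rfl⟩ := (mem_span_range_iff_exists_fun F).1 hx
    have pol : ∀ y : V, polar (⇑Q) (∑ i, c i • Sum.elim e f i) y = ∑ i, c i * polar (⇑Q) (Sum.elim e f i) y := fun y => by
      show polarBilin Q _ y = _
      rw [map_sum, LinearMap.sum_apply]
      simp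
    have hinj := Fin.castLE_injective hkm
    refine Finset.sum_eq_zero fun i _ => ?_
    have hc : c i = 0 := by
      rcases i with i | i
      · have := h (f i) (subset_span ⟨Sum.inr i, rfl⟩)
        rw [pol] at this
        simpa [Fintype.sum_sum_type, e, f, D.ef, D.ff, hinj.eq_iff] using this
      · have := h (e i) (subset_span ⟨Sum.inl i, rfl⟩)
        rw [pol] at this
        simpa [Fintype.sum_sum_type, e, f, D.ef, D.ee, hinj.eq_iff, QuadraticMap.polar_comm _ (D.f _) (D.e _)] using this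
    rw [hc, zero_smul]
  · rw [finrank_span_eq_card hli]; simp; omega
  · exact span_mono (by rintro _ ⟨i, rfl⟩; exact ⟨Sum.inl i, rfl⟩)
  · exact ts_span (fun i => D.qe _) fun i j => D.ee _ _
  · have h2 : LinearIndependent F e := hli.comp _ Sum.inl_injective
    rw [finrank_span_eq_card hli, finrank_span_eq_card h2]
    simp
    omega

/-- A plane of minus type inside a space of dimension at least three. -/
theorem exists_plane_in {R : Submodule F V} (hR : ND Q R) (hd : 3 ≤ Module.finrank F R) (ζ : F) :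
    ∃ a b : V, a ∈ R ∧ b ∈ R ∧ Q a = 1 ∧ polar (⇑Q) a b = 1 ∧ Q b = ζ := by
  obtain ⟨a, ha, hQa⟩ := exists_value Q R hR (by omega) 1 one_ne_zero
  let Φ : QuadraticForm F V :=
    Q - ζ • QuadraticMap.linMulLin (polarBilin Q a) (polarBilin Q a)
  obtain ⟨y, hy, hy0, hΦ⟩ := FormNormal.exists_singular Φ R hd
  have hΦ' : Q y = ζ * (polar (⇑Q) a y * polar (⇑Q) a y) := by
    have : Q y - ζ * (polar (⇑Q) a y * polar (⇑Q) a y) = 0 := by simpa [Φ] using hΦ
    linear_combination this
  by_cases hs : polar (⇑Q) a y = 0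
  · -- adjust by the singular vector
    rw [hs, mul_zero, mul_zero] at hΦ'
    obtain ⟨w₀, hw₀, haw₀⟩ : ∃ w ∈ R, polar (⇑Q) a w ≠ 0 := by
      by_contra hh
      push Not at hh
      have := hR a ha hh
      rw [this, QuadraticMap.map_zero] at hQa
      exact zero_ne_one hQa
    obtain ⟨u₀, hu₀, hyu₀⟩ : ∃ w ∈ R, polar (⇑Q) y w ≠ 0 := by
      by_contra hh
      push Not at hh
      exact hy0 (hR y hy hh)
    obtain ⟨w, hw, haw, hyw⟩ : ∃ w ∈ R, polar (⇑Q) a w ≠ 0 ∧ polar (⇑Q) y w ≠ 0 := by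
      by_cases h1 : polar (⇑Q) y w₀ = 0
      · by_cases h2 : polar (⇑Q) a u₀ = 0
        · exact ⟨w₀ + u₀, R.add_mem hw₀ hu₀, by rwa [QuadraticMap.polar_add_right, h2, add_zero],
            by rwa [QuadraticMap.polar_add_right, h1, zero_add]⟩
        · exact ⟨u₀, hu₀, h2, hyu₀⟩
      · exact ⟨w₀, hw₀, haw₀, h1⟩
    obtain ⟨b₀, hb₀⟩ : ∃ b, b = (polar (⇑Q) a w)⁻¹ • w := ⟨_, rfl⟩
    have h1 : polar (⇑Q) a b₀ = 1 := by
      rw [hb₀, QuadraticMap.polar_smul_right, smul_eq_mul, inv_mul_cancel₀ haw]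
    have h2 : polar (⇑Q) y b₀ ≠ 0 := by
      rw [hb₀, QuadraticMap.polar_smul_right, smul_eq_mul]
      exact mul_ne_zero (inv_ne_zero haw) hyw
    refine ⟨a, b₀ + ((ζ - Q b₀) / polar (⇑Q) y b₀) • y, ha,
      R.add_mem (hb₀ ▸ R.smul_mem _ hw) (R.smul_mem _ hy), hQa, ?_, ?_⟩
    · rw [QuadraticMap.polar_add_right, QuadraticMap.polar_smul_right, hs, h1, smul_zero, add_zero]
    · rw [QuadraticMap.map_add (f := Q), QuadraticMap.map_smul, hΦ', QuadraticMap.polar_smul_right,
        QuadraticMap.polar_comm _ b₀ y, smul_zero, smul_eq_mul, div_mul_cancel₀ _ h2]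
      ring
  · refine ⟨a, (polar (⇑Q) a y)⁻¹ • y, ha, R.smul_mem _ hy, hQa, ?_, ?_⟩
    · rw [QuadraticMap.polar_smul_right, smul_eq_mul, inv_mul_cancel₀ hs]
    · rw [QuadraticMap.map_smul, hΦ', smul_eq_mul]
      field_simp

/-- Families with the same values span isometric subspaces. -/
theorem iso_span {κ : Type} [Fintype κ] {f g : κ → V} (hf : LinearIndependent F f) (hg : LinearIndependent F g)
    (h1 : ∀ i, Q (g i) = Q (f i)) (h2 : ∀ i j, polar (⇑Q) (g i) (g j) = polar (⇑Q) (f i) (f j)) :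
    Iso Q (span F (Set.range f)) (span F (Set.range g)) := by
  let bf := Module.Basis.span hf
  let bg := Module.Basis.span hg
  let e := bf.equiv bg (Equiv.refl κ)
  have he : ∀ i, (e (bf i) : V) = g i := fun i => by
    show ((bf.equiv bg (Equiv.refl κ)) (bf i) : V) = g i
    rw [Module.Basis.equiv_apply]
    exact congrArg Subtype.val (Module.Basis.span_apply hg i)
  have hb : ∀ i, (bf i : V) = f i := fun i => congrArg Subtype.val (Module.Basis.span_apply hf i)
  refine ⟨e, fun w => ?_⟩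
  have := eq_of_basis ((Q.comp (span F (Set.range g)).subtype).comp e.toLinearMap) (Q.comp (span F (Set.range f)).subtype) bf
    (fun i => by
      show Q (e (bf i) : V) = Q (bf i : V)
      rw [he, hb, h1]) (fun i j => by
      show Q (e (bf i + bf j) : V) - Q (e (bf i) : V) - Q (e (bf j) : V) =
        Q ((bf i + bf j : span F (Set.range f)) : V) - Q (bf i : V) - Q (bf j : V)
      rw [map_add, Submodule.coe_add, Submodule.coe_add, he, he, hb, hb]
      exact h2 i j) w
  simpa using this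

/-- A smaller space embeds. -/
theorem exists_iso_in {R C : Submodule F V} (hR : ND Q R) (hC : ND Q C)
    (h : Module.finrank F R < Module.finrank F C) : ∃ R' ≤ C, Iso Q R R' ∧ ND Q R' := by
  classical
  obtain ⟨D, hD, -⟩ := exists_dec hR
  have hd := D.dim
  have hbC := idx_bounds hC
  obtain ⟨H, hHC, hHn, hHd, hHp⟩ := exists_pairs hC (k := D.m) (by omega)
  obtain ⟨H₀, hH₀R, hH₀n, hH₀d, hH₀p⟩ := exists_pairs hR (k := D.m) (by omega)
  have hK₀ : Module.finrank F (perp Q R H₀) = Module.finrank F D.K := by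
    have := finrank_perp hR hH₀R; omega
  have hS := finrank_perp hC hHC
  obtain ⟨hsupR, hK₀n⟩ := sup_perp hR hH₀R hH₀n
  obtain ⟨hsupC, hSn⟩ := sup_perp hC hHC hHn
  set K₀ := perp Q R H₀ with hK₀def
  set S := perp Q C H with hSdef
  have hiH : Iso Q H₀ H := iso_of_plus hH₀n hHn (by omega) ⟨D.m, by omega⟩ ⟨fun _ => hHp, fun _ => hH₀p⟩
  have hK₀a : Aniso Q K₀ := by
    intro x hx hxQ
    by_contra hx0
    obtain ⟨U, hU, hts, hUd⟩ := hH₀p
    have hts' : TS Q (U ⊔ span F {x}) := ts_sup hts (fun u hu => by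
      obtain ⟨t, rfl⟩ := mem_span_singleton.1 hu
      rw [QuadraticMap.map_smul, hxQ, smul_zero])
      ((orth_perp R H₀).mono hU ((span_singleton_le_iff_mem _ _).2 hx))
    have hle := le_idx (sup_le (hU.trans hH₀R) ((span_singleton_le_iff_mem _ _).2 (perp_le R H₀ hx))) hts'
    have hsum : Module.finrank F ↥(U ⊔ span F {x}) = Module.finrank F U + 1 := by
      have e := Submodule.finrank_sup_add_finrank_inf_eq U (span F {x})
      rw [show U ⊓ span F {x} = ⊥ from eq_bot_iff.2 ((inf_le_inf hU ((span_singleton_le_iff_mem _ _).2 hx)).trans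
        (nd_disjoint hH₀n (orth_perp R H₀)).le), finrank_bot, finrank_span_singleton hx0, add_zero] at e
      exact e
    omega
  suffices hkey : ∃ K' ≤ S, Iso Q K₀ K' by
    obtain ⟨K', hK'S, hiK⟩ := hkey
    have hK'n := hiK.nd hK₀n
    have hor : Orth Q H K' := (orth_perp C H).mono le_rfl hK'S
    refine ⟨H ⊔ K', sup_le hHC (hK'S.trans (perp_le C H)), ?_, nd_sup hHn hK'n hor⟩
    rw [← hsupR]
    exact hiH.sup hiK hH₀n (orth_perp R H₀) hor
  have hsmall := D.small
  rcases (by omega : Module.finrank F D.K = 0 ∨ Module.finrank F D.K = 1 ∨ Module.finrank F D.K = 2) with hk | hk | hk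
  · refine ⟨⊥, bot_le, ?_⟩
    rw [Submodule.finrank_eq_zero.1 (hK₀.trans hk)]
    exact Iso.refl ⊥
  · obtain ⟨x, hx, hx0⟩ := Submodule.exists_mem_ne_zero_of_ne_bot (p := K₀) (fun e => by
      rw [e, finrank_bot] at hK₀; omega)
    have hspan : span F (Set.range ![x]) = K₀ := Submodule.eq_of_le_of_finrank_eq
      (span_le.2 (by rintro _ ⟨i, rfl⟩; fin_cases i; exact hx))
      (by rw [finrank_span_eq_card (linearIndependent_unique_iff.2 hx0)]; simp; omega)
    have hQx : Q x ≠ 0 := fun e => hx0 (hK₀a x hx e)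
    obtain ⟨y, hy, hQy⟩ := exists_value Q S hSn (by omega) (Q x) hQx
    have hy0 : y ≠ 0 := fun e => hQx (by rw [← hQy, e, QuadraticMap.map_zero])
    refine ⟨span F (Set.range ![y]), span_le.2 (by rintro _ ⟨i, rfl⟩; fin_cases i; exact hy), ?_⟩
    rw [← hspan]
    refine iso_span (linearIndependent_unique_iff.2 hx0) (linearIndependent_unique_iff.2 hy0) (fun i => ?_) fun i j => ?_
    · fin_cases i; exact hQy
    · fin_cases i; fin_cases j
      simp [FormNormal.polar_self', hQy]
  · obtain ⟨ζ, hζ, hg⟩ := exists_plane Q hK₀n hK₀a (hK₀.trans hk)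
    obtain ⟨g, hgK, hgi, hg0, hg01, hg1⟩ := hg ζ hζ
    have hspan : span F (Set.range g) = K₀ := Submodule.eq_of_le_of_finrank_eq
      (span_le.2 (by rintro _ ⟨i, rfl⟩; exact hgK i)) (by rw [finrank_span_eq_card hgi]; simp; omega)
    obtain ⟨a, b, ha, hb, hQa, hab, hQb⟩ := exists_plane_in hSn (by omega) ζ
    have hli : LinearIndependent F ![a, b] := by
      rw [LinearIndependent.pair_iff]
      intro s t hst
      by_cases ht : t = 0
      · subst ht
        rw [zero_smul, add_zero] at hst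
        refine ⟨(smul_eq_zero.1 hst).resolve_right ?_, rfl⟩
        rintro rfl
        simp at hQa
      · exfalso
        have hb' : b = (-(t⁻¹ * s)) • a := by
          rw [neg_smul, mul_smul, eq_neg_of_add_eq_zero_left hst, smul_neg, neg_neg, smul_smul, inv_mul_cancel₀ ht,
            one_smul]
        obtain ⟨c, hc⟩ : ∃ c, c = -(t⁻¹ * s) := ⟨_, rfl⟩
        rw [← hc] at hb'
        rw [hb', QuadraticMap.polar_smul_right, FormNormal.polar_self', hQa, smul_eq_mul] at hab
        rw [hb', QuadraticMap.map_smul, hQa, smul_eq_mul] at hQb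
        exact hζ (-c) (by linear_combination c * hab - hQb)
    refine ⟨span F (Set.range ![a, b]), span_le.2 (by rintro _ ⟨i, rfl⟩; fin_cases i <;> simp [ha, hb]), ?_⟩
    rw [← hspan]
    refine iso_span hgi hli (fun i => ?_) fun i j => ?_
    · fin_cases i
      · simp [hQa, hg0]
      · simp [hQb, hg1]
    · fin_cases i <;> fin_cases j <;>
        simp [FormNormal.polar_self', hQa, hQb, hg0, hg1, hab, hg01, QuadraticMap.polar_comm _ b a,
          QuadraticMap.polar_comm _ (g 1) (g 0)]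

theorem plus_sup_plus {A B : Submodule F V} (hA : ND Q A) (hAB : Orth Q A B) (pA : Plus Q A) (pB : Plus Q B) :
    Plus Q (A ⊔ B) := by
  obtain ⟨U, hU, hts, hd⟩ := pA
  obtain ⟨U', hU', hts', hd'⟩ := pB
  have hor := hAB.mono hU hU'
  refine ⟨U ⊔ U', sup_le_sup hU hU', ts_sup hts hts' hor, ?_⟩
  have e := Submodule.finrank_sup_add_finrank_inf_eq U U'
  rw [show U ⊓ U' = ⊥ from eq_bot_iff.2 ((inf_le_inf hU hU').trans (nd_disjoint hA hAB).le), finrank_bot] at e
  have := finrank_sup_orth hA hAB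
  omega

theorem not_plus_sup {A B : Submodule F V} (hA : ND Q A) (hB : ND Q B) (hAB : Orth Q A B) (pA : Plus Q A)
    (nB : ¬ Plus Q B) : ¬ Plus Q (A ⊔ B) := by
  intro pAB
  classical
  obtain ⟨U, hU, hts, hd⟩ := pA
  obtain ⟨E, hE, hEts, hEd⟩ := exists_ts (Q := Q) (W := B) le_rfl
  have hor := hAB.mono hU hE
  set S := U ⊔ E
  have hSd : Module.finrank F S = Module.finrank F U + idx Q B := by
    have e := Submodule.finrank_sup_add_finrank_inf_eq U E
    rw [show U ⊓ E = ⊥ from eq_bot_iff.2 ((inf_le_inf hU hE).trans (nd_disjoint hA hAB).le), finrank_bot, hEd] at e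
    omega
  have hW := nd_sup hA hB hAB
  -- maximality of `S`
  have hmax : ∀ w ∈ A ⊔ B, Q w = 0 → (∀ s ∈ S, polar (⇑Q) s w = 0) → w ∈ S := by
    intro w hw hQw hperp
    obtain ⟨a, ha, b, hb, rfl⟩ := mem_sup.1 hw
    have haU : a ∈ U := by
      have h1 : U ≤ perp Q A U := fun u hu => mem_perp.2 ⟨hU hu, fun v hv => ts_polar hts hv hu⟩
      have h2 : perp Q A U = U := (Submodule.eq_of_le_of_finrank_le h1 (by have := finrank_perp hA hU; omega)).symm
      rw [← h2, mem_perp]
      refine ⟨ha, fun u hu => ?_⟩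
      have := hperp u (mem_sup_left hu)
      rwa [QuadraticMap.polar_add_right, hAB u (hU hu) b hb, add_zero] at this
    have hbE : b ∈ E := by
      by_contra hbE
      have hQb : Q b = 0 := by rwa [hAB.q_add ha hb, hts a haU, zero_add] at hQw
      have hts' : TS Q (E ⊔ span F {b}) := ts_sup hEts (fun u hu => by
          obtain ⟨t, rfl⟩ := mem_span_singleton.1 hu
          rw [QuadraticMap.map_smul, hQb, smul_zero]) (fun x hx y hy => by
          obtain ⟨t, rfl⟩ := mem_span_singleton.1 hy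
          have := hperp x (mem_sup_right hx)
          rw [QuadraticMap.polar_add_right, hAB.symm x (hE hx) a ha, zero_add] at this
          rw [QuadraticMap.polar_smul_right, this, smul_zero])
      have hle := le_idx (sup_le hE ((span_singleton_le_iff_mem _ _).2 hb)) hts'
      have hlt : Module.finrank F E < Module.finrank F ↥(E ⊔ span F {b}) :=
        Submodule.finrank_lt_finrank_of_lt (lt_of_le_of_ne le_sup_left fun e =>
          hbE (e ▸ mem_sup_right (mem_span_singleton_self b)))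
      omega
    exact add_mem_sup haU hbE
  -- compare with a half-dimensional subspace
  have hidx : idx Q (A ⊔ B) = Module.finrank F S := by
    obtain ⟨-, -, D, hD⟩ := exists_dec hW
    rw [← hD, index_eq (nd_restrict hW) D (S.comap (A ⊔ B).subtype) (fun u hu => ts_sup hts hEts hor _ hu)
      fun M' hle hM' => le_antisymm (fun w hw => hmax w.1 w.2 (hM' w hw) fun s hs => ?_) hle]
    · exact (Submodule.comapSubtypeEquivOfLe (sup_le_sup hU hE)).finrank_eq
    · have h := ts_polar hM' (hle (show (⟨s, sup_le_sup hU hE hs⟩ : ↥(A ⊔ B)) ∈ S.comap (A ⊔ B).subtype from hs)) hw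
      simpa [polar] using h
  rw [plus_iff hW, hidx, hSd, finrank_sup_orth hA hAB] at pAB
  refine nB ((plus_iff hB).2 ?_)
  omega

theorem minus_sup_minus {A B : Submodule F V} (hA : ND Q A) (hB : ND Q B) (hAB : Orth Q A B)
    (eA : Even (Module.finrank F A)) (eB : Even (Module.finrank F B)) (nA : ¬ Plus Q A) (nB : ¬ Plus Q B) :
    Plus Q (A ⊔ B) := by
  obtain ⟨D, hD, -⟩ := exists_dec hA
  obtain ⟨D', hD', -⟩ := exists_dec hB
  obtain ⟨a, ha⟩ := eA
  obtain ⟨b, hb⟩ := eB
  have hd := D.dim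
  have hd' := D'.dim
  have hs := D.small
  have hs' := D'.small
  rw [plus_iff hA] at nA
  rw [plus_iff hB] at nB
  obtain ⟨ζ, hζ, hg⟩ := exists_plane Q D.ndK D.aniso (by omega)
  obtain ⟨g, hgK, hgi, hg0, hg01, hg1⟩ := hg ζ hζ
  obtain ⟨-, -, hg'⟩ := exists_plane ((-1 : F) • Q) (D'.scale (-1) (neg_ne_zero.2 one_ne_zero)).ndK
    (D'.scale (-1) (neg_ne_zero.2 one_ne_zero)).aniso (show Module.finrank F D'.K = 2 by omega)
  obtain ⟨g', hgK', hgi', hg0', hg01', hg1'⟩ := hg' ζ hζ
  rw [FormNormal.polar_smul_form] at hg01'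
  simp only [QuadraticMap.smul_apply, smul_eq_mul] at hg0' hg1'
  let f : Fin D.m ⊕ Fin D'.m ⊕ Fin 2 → V := Sum.elim D.e (Sum.elim D'.e fun i => g i + g' i)
  have hli : LinearIndependent F f := by
    rw [Fintype.linearIndependent_iff]
    intro c hc
    rw [Fintype.sum_sum_type, Fintype.sum_sum_type] at hc
    simp only [f, Sum.elim_inl, Sum.elim_inr, smul_add, Finset.sum_add_distrib] at hc
    have hAp : (∑ i, c (Sum.inl i) • D.e i) + ∑ i, c (Sum.inr (Sum.inr i)) • g i ∈ A :=
      add_mem (sum_mem fun i _ => A.smul_mem _ (D.he i)) (sum_mem fun i _ => A.smul_mem _ (D.hK (hgK i)))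
    have hBp : (∑ i, c (Sum.inr (Sum.inl i)) • D'.e i) + ∑ i, c (Sum.inr (Sum.inr i)) • g' i ∈ B :=
      add_mem (sum_mem fun i _ => B.smul_mem _ (D'.he i)) (sum_mem fun i _ => B.smul_mem _ (D'.hK (hgK' i)))
    obtain ⟨x, hx⟩ : ∃ x, x = (∑ i, c (Sum.inl i) • D.e i) + ∑ i, c (Sum.inr (Sum.inr i)) • g i := ⟨_, rfl⟩
    obtain ⟨y, hy⟩ : ∃ y, y = (∑ i, c (Sum.inr (Sum.inl i)) • D'.e i) + ∑ i, c (Sum.inr (Sum.inr i)) • g' i := ⟨_, rfl⟩
    have hxy : x + y = 0 := by rw [hx, hy, ← hc]; abel
    have hx0 : x ∈ A ⊓ B := ⟨hx ▸ hAp, by rw [eq_neg_of_add_eq_zero_left hxy]; exact B.neg_mem (hy ▸ hBp)⟩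
    rw [nd_disjoint hA hAB, Submodule.mem_bot] at hx0
    rw [hx0, zero_add] at hxy
    have hA' := Fintype.linearIndependent_iff.1 (D.indep g hgK hgi)
      (Sum.elim (Sum.elim (fun i => c (Sum.inl i)) 0) fun i => c (Sum.inr (Sum.inr i)))
      (by
        simp only [Fintype.sum_sum_type, Sum.elim_inl, Sum.elim_inr, Pi.zero_apply, zero_smul, Finset.sum_const_zero,
          add_zero]
        exact hx.symm.trans hx0)
    have hB' := Fintype.linearIndependent_iff.1 (D'.indep g' hgK' hgi')
      (Sum.elim (Sum.elim (fun i => c (Sum.inr (Sum.inl i))) 0) fun i => c (Sum.inr (Sum.inr i)))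
      (by
        simp only [Fintype.sum_sum_type, Sum.elim_inl, Sum.elim_inr, Pi.zero_apply, zero_smul, Finset.sum_const_zero,
          add_zero]
        exact hy.symm.trans hxy)
    rintro (i | i | i)
    exacts [hA' (Sum.inl (Sum.inl i)), hB' (Sum.inl (Sum.inl i)), hA' (Sum.inr i)]
  refine ⟨span F (Set.range f), span_le.2 ?_, ?_, ?_⟩
  · rintro _ ⟨i | i | i, rfl⟩
    exacts [mem_sup_left (D.he i), mem_sup_right (D'.he i), add_mem_sup (D.hK (hgK i)) (D'.hK (hgK' i))]
  · have hval : ∀ i, Q (f i) = 0 := by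
      rintro (i | i | i)
      · exact D.qe i
      · exact D'.qe i
      · show Q (g i + g' i) = 0
        rw [hAB.q_add (D.hK (hgK i)) (D'.hK (hgK' i))]
        fin_cases i
        · simp only [Fin.zero_eta]; rw [hg0]; linear_combination -hg0'
        · simp only [Fin.mk_one]; rw [hg1]; linear_combination -hg1'
    have hcross : ∀ (x y : V), x ∈ A → y ∈ B → polar (⇑Q) x y = 0 ∧ polar (⇑Q) y x = 0 :=
      fun x y hx hy => ⟨hAB x hx y hy, hAB.symm y hy x hx⟩
    have hgg : ∀ i j, polar (⇑Q) (g i + g' i) (g j + g' j) = 0 := by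
      intro i j
      rw [QuadraticMap.polar_add_left, QuadraticMap.polar_add_right, QuadraticMap.polar_add_right,
        (hcross _ _ (D.hK (hgK i)) (D'.hK (hgK' j))).1, (hcross _ _ (D.hK (hgK j)) (D'.hK (hgK' i))).2]
      fin_cases i <;> fin_cases j <;>
        simp [FormNormal.polar_self', hg0, hg1, hg01, QuadraticMap.polar_comm _ (g 1) (g 0),
          QuadraticMap.polar_comm _ (g' 1) (g' 0)]
      · linear_combination -2 * hg0'
      · linear_combination -hg01'
      · linear_combination -hg01'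
      · linear_combination -2 * hg1'
    have hpol : ∀ i j, polar (⇑Q) (f i) (f j) = 0 := by
      have A1 : ∀ i, g i ∈ A := fun i => D.hK (hgK i)
      have B1 : ∀ i, g' i ∈ B := fun i => D'.hK (hgK' i)
      rintro (i | i | i) (j | j | j) <;> simp only [f, Sum.elim_inl, Sum.elim_inr]
      · exact D.ee i j
      · exact (hcross _ _ (D.he i) (D'.he j)).1
      · rw [QuadraticMap.polar_add_right, D.ek i _ (hgK j), (hcross _ _ (D.he i) (B1 j)).1, add_zero]
      · exact (hcross _ _ (D.he j) (D'.he i)).2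
      · exact D'.ee i j
      · rw [QuadraticMap.polar_add_right, D'.ek i _ (hgK' j), (hcross _ _ (A1 j) (D'.he i)).2, add_zero]
      · rw [QuadraticMap.polar_comm, QuadraticMap.polar_add_right, D.ek j _ (hgK i), (hcross _ _ (D.he j) (B1 i)).1,
          add_zero]
      · rw [QuadraticMap.polar_comm, QuadraticMap.polar_add_right, D'.ek j _ (hgK' i), (hcross _ _ (A1 i) (D'.he j)).2,
          add_zero]
      · exact hgg i j
    exact ts_span hval hpol
  · rw [finrank_span_eq_card hli, finrank_sup_orth hA hAB]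
    simp
    omega

/-- The type of an orthogonal sum. -/
theorem plus_sup_iff {A B : Submodule F V} (hA : ND Q A) (hB : ND Q B) (hAB : Orth Q A B)
    (eA : Even (Module.finrank F A)) (eB : Even (Module.finrank F B)) :
    Plus Q (A ⊔ B) ↔ (Plus Q A ↔ Plus Q B) := by
  by_cases pA : Plus Q A <;> by_cases pB : Plus Q B
  · exact iff_of_true (plus_sup_plus hA hAB pA pB) (iff_of_true pA pB)
  · exact iff_of_false (not_plus_sup hA hB hAB pA pB) fun h => pB (h.1 pA)
  · rw [sup_comm]
    exact iff_of_false (not_plus_sup hB hA hAB.symm pB pA) fun h => pA (h.2 pB)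
  · exact iff_of_true (minus_sup_minus hA hB hAB eA eB pA pB) (iff_of_false pA pB)

end Cfsg.Lib.OrthEl
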