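import Cfsg.Agent.Classical.OrthElusive.Nondeg

/-!
# Isometries squaring to a sign, odd characteristic
-/

set_option autoImplicit false
set_option linter.unusedSectionVars false

open QuadraticMap Submodule Cfsg.Lib.FormNormal
open Cfsg.Lib.Classical.PrimeOrd (Inv)

namespace Cfsg.Lib.OrthEl

universe u v

variable {F : Type u} [Field F] [Fintype F] {V : Type v} [AddCommGroup V] [Module F V] [FiniteDimensional F V]
  {Q : QuadraticForm F V} {x : Module.End F V}

theorem inv_of_scalar {W : Submodule F V} {t : F} (h : ∀ w ∈ W, x w = t • w) : Inv x W := fun w hw => by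
  rw [h w hw]; exact W.smul_mem t hw

theorem inv_perp_sq {s : F} (hiso : ∀ v, Q (x v) = Q v) (hs : s * s = 1) {W U : Submodule F V}
    (hx2 : ∀ w ∈ W, x (x w) = s • w) (hW : Inv x W) (hU : U ≤ W) (hUi : Inv x U) : Inv x (perp Q W U) := by
  intro w hw
  rw [mem_perp] at hw ⊢
  refine ⟨hW w hw.1, fun a ha => ?_⟩
  obtain ⟨b, hb, rfl⟩ : ∃ b ∈ U, x b = a := ⟨s • x a, U.smul_mem s (hUi a ha), by
    rw [map_smul, hx2 a (hU ha), smul_smul, hs, one_smul]⟩
  simp only [polar, ← map_add, hiso]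
  exact hw.2 b hb

theorem plus_smul_plane {u w : V} {a δ : F} (hu : Q u = a) (hw : Q w = δ) (huw : polar (⇑Q) u w = 0) (ha : a ≠ 0)
    (hd : δ ≠ 0) (h2 : (2 : F) ≠ 0) :
    ND Q (span F ({u, w} : Set V)) ∧ Module.finrank F (span F ({u, w} : Set V)) = 2 ∧
      (Plus Q (span F ({u, w} : Set V)) ↔ IsSquare (-(a * δ))) := by
  have hpu : polar (⇑Q) u u = 2 * a := by rw [FormNormal.polar_self', hu]
  have hpw : polar (⇑Q) w w = 2 * δ := by rw [FormNormal.polar_self', hw]
  have hwu : polar (⇑Q) w u = 0 := by rw [QuadraticMap.polar_comm]; exact huw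
  have hco : ∀ α β : F, polar (⇑Q) (α • u + β • w) u = α * (2 * a) ∧ polar (⇑Q) (α • u + β • w) w = β * (2 * δ) := by
    intro α β
    simp [QuadraticMap.polar_add_left, QuadraticMap.polar_smul_left, hpu, hpw, hwu, huw]
  have hli : LinearIndependent F ![u, w] := by
    rw [LinearIndependent.pair_iff]
    intro α β e
    obtain ⟨e1, e2⟩ := hco α β
    rw [e, QuadraticMap.polar_zero_left] at e1 e2
    exact ⟨(mul_eq_zero.1 e1.symm).resolve_right (mul_ne_zero h2 ha),
      (mul_eq_zero.1 e2.symm).resolve_right (mul_ne_zero h2 hd)⟩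
  have hdim : Module.finrank F (span F ({u, w} : Set V)) = 2 := by
    have := finrank_span_eq_card hli
    rw [Matrix.range_cons_cons_empty] at this
    simpa using this
  have hval : ∀ α β : F, Q (α • u + β • w) = α * α * a + β * β * δ := by
    intro α β
    rw [QuadraticMap.map_add (f := Q), QuadraticMap.map_smul, QuadraticMap.map_smul, QuadraticMap.polar_smul_left,
      QuadraticMap.polar_smul_right, hu, hw, huw]
    simp
  refine ⟨?_, hdim, ?_, ?_⟩
  · intro z hz hp
    obtain ⟨α, β, rfl⟩ := mem_span_pair.1 hz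
    obtain ⟨e1, e2⟩ := hco α β
    rw [hp u (subset_span (by simp))] at e1
    rw [hp w (subset_span (by simp))] at e2
    rw [(mul_eq_zero.1 e1.symm).resolve_right (mul_ne_zero h2 ha),
      (mul_eq_zero.1 e2.symm).resolve_right (mul_ne_zero h2 hd)]
    simp
  · rintro ⟨U, hU, hts, hd'⟩
    obtain ⟨z, hz, hz0⟩ := U.exists_mem_ne_zero_of_ne_bot (fun e => by rw [e, finrank_bot] at hd'; omega)
    obtain ⟨α, β, rfl⟩ := mem_span_pair.1 (hU hz)
    have h0 := hts _ hz
    rw [hval] at h0
    by_cases hβ : β = 0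
    · subst hβ
      rcases mul_eq_zero.1 (show α * α * a = 0 by linear_combination h0) with e | e
      · exact absurd (by rw [mul_self_eq_zero.1 e]; simp) hz0
      · exact absurd e ha
    · refine ⟨α * a / β, ?_⟩
      field_simp
      linear_combination -h0
  · rintro ⟨t, ht⟩
    refine ⟨span F {t • u + a • w}, (span_singleton_le_iff_mem _ _).2
      (add_mem (Submodule.smul_mem _ _ (subset_span (by simp))) (Submodule.smul_mem _ _ (subset_span (by simp)))),
      fun z hz => ?_, ?_⟩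
    · obtain ⟨l, rfl⟩ := mem_span_singleton.1 hz
      rw [QuadraticMap.map_smul, hval, show t * t * a + a * a * δ = 0 by linear_combination -a * ht, smul_zero]
    · rw [finrank_span_singleton, hdim]
      intro e
      have := (hco t a).2
      rw [e, QuadraticMap.polar_zero_left] at this
      exact mul_ne_zero ha (mul_ne_zero h2 hd) this.symm

theorem neg_sq_iff {δ : F} (hd : δ ≠ 0) : (IsSquare (-δ) ↔ IsSquare (-1 : F)) ↔ IsSquare δ := by
  classical
  have h1 : (-1 : F) ≠ 0 := neg_ne_zero.2 one_ne_zero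
  rw [← quadraticChar_one_iff_isSquare hd, ← quadraticChar_one_iff_isSquare h1,
    ← quadraticChar_one_iff_isSquare (neg_ne_zero.2 hd), show -δ = -1 * δ by ring, map_mul]
  rcases quadraticChar_dichotomy hd with e | e <;> rcases quadraticChar_dichotomy h1 with e' | e' <;> rw [e, e'] <;> decide

/-- Any class meets an orthogonal decomposition. -/
theorem split_member {C D : Submodule F V} (hC : ND Q C) (hD : ND Q D) (hor : Orth Q C D) (htop : C ⊔ D = ⊤)
    (h2 : (2 : F) ≠ 0) {W₀ : Submodule F V} (hW₀ : ND Q W₀) (hlt : Module.finrank F W₀ < Module.finrank F V)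
    (hn : 3 ≤ Module.finrank F V) :
    ∃ A ≤ C, ∃ B ≤ D, Iso Q W₀ (A ⊔ B) := by
  rcases Nat.eq_zero_or_pos (Module.finrank F W₀) with h0 | h0
  · rw [Submodule.finrank_eq_zero.1 h0]
    exact ⟨⊥, bot_le, ⊥, bot_le, by rw [bot_sup_eq]; exact Iso.refl ⊥⟩
  have hsum : Module.finrank F C + Module.finrank F D = Module.finrank F V := by
    rw [← finrank_sup_orth hC hor, htop, finrank_top]
  by_cases h1 : Module.finrank F W₀ < Module.finrank F C
  · obtain ⟨A, hA, hi, -⟩ := exists_iso_in hW₀ hC h1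
    exact ⟨A, hA, ⊥, bot_le, by rwa [sup_bot_eq]⟩
  by_cases h1' : Module.finrank F W₀ < Module.finrank F D
  · obtain ⟨B, hB, hi, -⟩ := exists_iso_in hW₀ hD h1'
    exact ⟨⊥, bot_le, B, hB, by rwa [bot_sup_eq]⟩
  by_cases h3 : Module.finrank F C < Module.finrank F W₀
  · obtain ⟨C', hC', hi, hC'n⟩ := exists_iso_in hC hW₀ h3
    obtain ⟨hs, hRn⟩ := sup_perp hW₀ hC' hC'n
    obtain ⟨B, hB, hBi, -⟩ := exists_iso_in hRn hD (by
      have := finrank_perp hW₀ hC'; have := hi.finrank; omega)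
    refine ⟨C, le_rfl, B, hB, ?_⟩
    conv_lhs => rw [← hs]
    exact hi.symm.sup hBi hC'n (orth_perp W₀ C') (hor.mono le_rfl hB)
  by_cases h3' : Module.finrank F D < Module.finrank F W₀
  · obtain ⟨D', hD', hi, hD'n⟩ := exists_iso_in hD hW₀ h3'
    obtain ⟨hs, hRn⟩ := sup_perp hW₀ hD' hD'n
    obtain ⟨A, hA, hAi, -⟩ := exists_iso_in hRn hC (by
      have := finrank_perp hW₀ hD'; have := hi.finrank; omega)
    refine ⟨A, hA, D, le_rfl, ?_⟩
    conv_lhs => rw [← hs]
    rw [sup_comm A D]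
    exact hi.symm.sup hAi hD'n (orth_perp W₀ D') ((hor.mono hA le_rfl).symm)
  obtain ⟨w, hw, hQw⟩ : ∃ w ∈ W₀, Q w ≠ 0 := by
    obtain ⟨w, hw, hQw⟩ := exists_value Q W₀ hW₀ (by omega) 1 one_ne_zero
    exact ⟨w, hw, by rw [hQw]; exact one_ne_zero⟩
  have hw0 : w ≠ 0 := fun e => hQw (by rw [e, QuadraticMap.map_zero])
  have hLn : ND Q (span F {w}) := fun z hz hp => by
    obtain ⟨t, rfl⟩ := mem_span_singleton.1 hz
    have := hp w (mem_span_singleton_self w)
    rw [QuadraticMap.polar_smul_left, FormNormal.polar_self', smul_eq_mul] at this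
    rw [(mul_eq_zero.1 this).resolve_right (mul_ne_zero h2 hQw), zero_smul]
  have hLd := finrank_span_singleton (K := F) hw0
  have hLle : span F {w} ≤ W₀ := (span_singleton_le_iff_mem _ _).2 hw
  obtain ⟨hs, hRn⟩ := sup_perp hW₀ hLle hLn
  obtain ⟨A, hA, hAi, -⟩ := exists_iso_in hLn hC (by omega)
  obtain ⟨B, hB, hBi, -⟩ := exists_iso_in hRn hD (by have := finrank_perp hW₀ hLle; omega)
  refine ⟨A, hA, B, hB, ?_⟩
  conv_lhs => rw [← hs]
  exact hAi.sup hBi hLn (orth_perp W₀ _) (hor.mono hA hB)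

/-- The eigenspaces of an involution. -/
theorem eig_split (h2 : (2 : F) ≠ 0) (hQ : ND Q (⊤ : Submodule F V)) (hiso : ∀ v, Q (x v) = Q v)
    (hx2 : ∀ v, x (x v) = v) :
    ∃ C D : Submodule F V, ND Q C ∧ ND Q D ∧ Orth Q C D ∧ C ⊔ D = ⊤ ∧ (∀ v, v ∈ C ↔ x v = v) ∧
      (∀ v, v ∈ D ↔ x v = -v) := by
  refine ⟨LinearMap.ker (x - 1), LinearMap.ker (x + 1), ?_⟩
  have hC : ∀ v, v ∈ LinearMap.ker (x - 1) ↔ x v = v := fun v => by simp [sub_eq_zero]
  have hD : ∀ v, v ∈ LinearMap.ker (x + 1) ↔ x v = -v := fun v => by simp [add_eq_zero_iff_eq_neg]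
  have hor : Orth Q (LinearMap.ker (x - 1)) (LinearMap.ker (x + 1)) := fun a ha b hb => by
    have h : polar (⇑Q) (x a) (x b) = polar (⇑Q) a b := by simp only [polar, ← map_add, hiso]
    rw [(hC a).1 ha, (hD b).1 hb, QuadraticMap.polar_neg_right] at h
    have : (2 : F) * polar (⇑Q) a b = 0 := by linear_combination -h
    exact (mul_eq_zero.1 this).resolve_left h2
  have hdec : ∀ v : V, ∃ a ∈ LinearMap.ker (x - 1), ∃ b ∈ LinearMap.ker (x + 1), a + b = v := fun v => by
    refine ⟨(2 : F)⁻¹ • (v + x v), ?_, (2 : F)⁻¹ • (v - x v), ?_, ?_⟩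
    · rw [hC, map_smul, map_add, hx2, add_comm]
    · rw [hD, map_smul, map_sub, hx2, ← smul_neg, neg_sub]
    · rw [← smul_add, show v + x v + (v - x v) = (2 : F) • v by rw [two_smul]; abel, smul_smul, inv_mul_cancel₀ h2,
        one_smul]
  refine ⟨fun a ha hp => hQ a trivial fun y _ => ?_, fun a ha hp => hQ a trivial fun y _ => ?_, hor,
    eq_top_iff.2 fun v _ => ?_, hC, hD⟩
  · obtain ⟨c, hc, d, hd, rfl⟩ := hdec y
    rw [QuadraticMap.polar_add_right, hp c hc, hor a ha d hd, add_zero]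
  · obtain ⟨c, hc, d, hd, rfl⟩ := hdec y
    rw [QuadraticMap.polar_add_right, hp d hd, hor.symm a ha c hc, zero_add]
  · obtain ⟨c, hc, d, hd, rfl⟩ := hdec v
    exact add_mem_sup hc hd

/-- Involutions fix a member of every class. -/
theorem invol_member (h2 : (2 : F) ≠ 0) (hQ : ND Q (⊤ : Submodule F V)) (hiso : ∀ v, Q (x v) = Q v)
    (hx2 : ∀ v, x (x v) = v) {W₀ : Submodule F V} (hW₀ : ND Q W₀)
    (hlt : Module.finrank F W₀ < Module.finrank F V) (hn : 3 ≤ Module.finrank F V) :
    ∃ W, Iso Q W₀ W ∧ Inv x W := by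
  obtain ⟨C, D, hC, hD, hor, htop, hCx, hDx⟩ := eig_split h2 hQ hiso hx2
  obtain ⟨A, hA, B, hB, hi⟩ := split_member hC hD hor htop h2 hW₀ hlt hn
  refine ⟨A ⊔ B, hi, (inv_of_scalar (t := 1) fun a ha => by rw [one_smul]; exact (hCx a).1 (hA ha)).sup
    (inv_of_scalar (t := -1) fun b hb => by rw [neg_one_smul]; exact (hDx b).1 (hB hb))⟩

/-! ### Square minus one -/

theorem polar_sq_neg {W : Submodule F V} (h2 : (2 : F) ≠ 0) (hiso : ∀ v, Q (x v) = Q v)
    (hx2 : ∀ w ∈ W, x (x w) = -w) {u : V} (hu : u ∈ W) : polar (⇑Q) u (x u) = 0 := by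
  have h : polar (⇑Q) (x u) (x (x u)) = polar (⇑Q) u (x u) := by simp only [polar, ← map_add, hiso]
  rw [hx2 u hu, QuadraticMap.polar_neg_right, QuadraticMap.polar_comm] at h
  have : (2 : F) * polar (⇑Q) u (x u) = 0 := by linear_combination -h
  exact (mul_eq_zero.1 this).resolve_left h2

/-- A plane of a space where the square is minus one. -/
theorem sq_neg_plane {W : Submodule F V} (h2 : (2 : F) ≠ 0) (hiso : ∀ v, Q (x v) = Q v)
    (hx2 : ∀ w ∈ W, x (x w) = -w) (hW : Inv x W) {u : V} (hu : u ∈ W) (ha : Q u ≠ 0) :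
    span F ({u, x u} : Set V) ≤ W ∧ Inv x (span F ({u, x u} : Set V)) ∧ ND Q (span F ({u, x u} : Set V)) ∧
      Module.finrank F (span F ({u, x u} : Set V)) = 2 ∧
      (Plus Q (span F ({u, x u} : Set V)) ↔ IsSquare (-1 : F)) := by
  obtain ⟨hn, hd, hp⟩ := plus_smul_plane (Q := Q) rfl (hiso u) (polar_sq_neg h2 hiso hx2 hu) ha ha h2
  refine ⟨span_le.2 (by rintro z (rfl | rfl); exacts [hu, hW u hu]), fun z hz => ?_, hn, hd, hp.trans ⟨?_, ?_⟩⟩
  · obtain ⟨α, β, rfl⟩ := mem_span_pair.1 hz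
    rw [map_add, map_smul, map_smul, hx2 u hu, smul_neg, ← neg_smul, add_comm]
    exact mem_span_pair.2 ⟨-β, α, rfl⟩
  · rintro ⟨t, ht⟩
    refine ⟨t / Q u, ?_⟩
    field_simp
    linear_combination ht
  · rintro ⟨t, ht⟩
    exact ⟨t * Q u, by linear_combination Q u * Q u * ht⟩

theorem exists_anisotropic {W : Submodule F V} (hW : ND Q W) (h0 : W ≠ ⊥) : ∃ u ∈ W, Q u ≠ 0 := by
  by_contra hh
  push Not at hh
  exact h0 (eq_bot_iff.2 fun u hu => (Submodule.mem_bot F).2 (hW u hu fun v hv => ts_polar hh hu hv))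

/-- The structure of a space where the square is minus one. -/
theorem sq_neg_struct (h2 : (2 : F) ≠ 0) (hiso : ∀ v, Q (x v) = Q v) :
    ∀ (n : ℕ) (W : Submodule F V), Module.finrank F W = n → ND Q W → Inv x W → (∀ w ∈ W, x (x w) = -w) →
      ∃ k, n = 2 * k ∧ (Plus Q W ↔ (IsSquare (-1 : F) ∨ Even k)) ∧
        ∀ j ≤ k, ∃ W' ≤ W, ND Q W' ∧ Inv x W' ∧ Module.finrank F W' = 2 * j := by
  intro n
  induction n using Nat.strong_induction_on with
  | _ n ih =>
  intro W hn hW hWi hx2
  by_cases h0 : W = ⊥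
  · subst h0
    rw [finrank_bot] at hn
    exact ⟨0, by omega, iff_of_true plus_bot (Or.inr ⟨0, rfl⟩), fun j hj =>
      ⟨⊥, le_rfl, nd_bot, hWi, by rw [finrank_bot]; omega⟩⟩
  obtain ⟨u, hu, ha⟩ := exists_anisotropic hW h0
  obtain ⟨hP, hPi, hPn, hPd, hPp⟩ := sq_neg_plane h2 hiso hx2 hWi hu ha
  obtain ⟨hs, hRn⟩ := sup_perp hW hP hPn
  have hd := finrank_perp hW hP
  have hRi : Inv x (perp Q W (span F ({u, x u} : Set V))) :=
    inv_perp_sq (s := -1) hiso (by ring) (fun w hw => by rw [neg_one_smul]; exact hx2 w hw) hWi hP hPi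
  obtain ⟨k, hk, hkp, hsub⟩ := ih _ (by omega) _ rfl hRn hRi fun w hw => hx2 w (perp_le _ _ hw)
  refine ⟨k + 1, by omega, ?_, fun j hj => ?_⟩
  · conv_lhs => rw [← hs]
    rw [plus_sup_iff hPn hRn (orth_perp _ _) (by rw [hPd]; exact even_two) (by rw [hk]; exact even_two_mul k), hPp, hkp,
      Nat.even_add_one]
    tauto
  · rcases Nat.lt_or_ge j (k + 1) with hlt | hge
    · obtain ⟨W', hW', h⟩ := hsub j (by omega)
      exact ⟨W', hW'.trans (perp_le _ _), h⟩
    · exact ⟨W, le_rfl, hW, hWi, by omega⟩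

/-- Which classes such a map fixes. -/
theorem sq_neg_member (h2 : (2 : F) ≠ 0) (hQ : ND Q (⊤ : Submodule F V)) (hiso : ∀ v, Q (x v) = Q v)
    (hx2 : ∀ v, x (x v) = -v) {W₀ : Submodule F V} (hW₀ : ND Q W₀) {m : ℕ} (hm : Module.finrank F W₀ = m)
    (hmn : m ≤ Module.finrank F V) :
    (∃ W, Iso Q W₀ W ∧ Inv x W) ↔ (Even m ∧ (Plus Q W₀ ↔ (IsSquare (-1 : F) ∨ Even (m / 2)))) := by
  constructor
  · rintro ⟨W, hi, hW⟩
    obtain ⟨k, hk, hp, -⟩ := sq_neg_struct h2 hiso _ W rfl (hi.nd hW₀) hW fun w _ => hx2 w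
    rw [← hi.finrank, hm] at hk
    subst hk
    refine ⟨even_two_mul k, ?_⟩
    rw [Nat.mul_div_cancel_left _ two_pos, ← hp]
    exact ⟨hi.plus, hi.symm.plus⟩
  · rintro ⟨he, hp⟩
    obtain ⟨k, rfl⟩ := he
    obtain ⟨K, hK, -, hsub⟩ := sq_neg_struct h2 hiso _ ⊤ rfl hQ (fun _ _ => trivial) fun w _ => hx2 w
    rw [finrank_top] at hK
    obtain ⟨W, -, hWn, hWi, hWd⟩ := hsub k (by omega)
    obtain ⟨k', hk', hp', -⟩ := sq_neg_struct h2 hiso _ W rfl hWn hWi fun w _ => hx2 w
    refine ⟨W, iso_of_plus hW₀ hWn (by omega) (hm ▸ ⟨k, rfl⟩) ?_, hWi⟩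
    rw [hp, hp', show (k + k) / 2 = k' by omega]

/-- Frames of planes of norm one. -/
theorem exists_frame (h2 : (2 : F) ≠ 0) : ∀ (k : ℕ) (W : Submodule F V), ND Q W → Module.finrank F W = 2 * k →
    (Plus Q W ↔ (IsSquare (-1 : F) ∨ Even k)) →
    ∃ f : Fin k ⊕ Fin k → V, (∀ i, f i ∈ W) ∧ (∀ i, Q (f i) = 1) ∧
      ∀ i j, i ≠ j → polar (⇑Q) (f i) (f j) = 0 := by
  intro k
  induction k with
  | zero => exact fun W _ _ _ => ⟨fun _ => 0, fun i => isEmptyElim i, fun i => isEmptyElim i, fun i => isEmptyElim i⟩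
  | succ k ih =>
    intro W hW hd hp
    obtain ⟨u, hu, hQu⟩ := exists_value Q W hW (by omega) 1 one_ne_zero
    have hu0 : u ≠ 0 := fun e => one_ne_zero (α := F) (by rw [← hQu, e, QuadraticMap.map_zero])
    have hLn : ND Q (span F {u}) := fun z hz hperp => by
      obtain ⟨t, rfl⟩ := mem_span_singleton.1 hz
      have := hperp u (mem_span_singleton_self u)
      rw [QuadraticMap.polar_smul_left, FormNormal.polar_self', smul_eq_mul, hQu, mul_one] at this
      rw [(mul_eq_zero.1 this).resolve_right h2, zero_smul]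
    have hL : span F {u} ≤ W := (span_singleton_le_iff_mem _ _).2 hu
    obtain ⟨-, hRn⟩ := sup_perp hW hL hLn
    have hRd := finrank_perp hW hL
    rw [finrank_span_singleton hu0] at hRd
    obtain ⟨w, hw, hQw⟩ : ∃ w ∈ perp Q W (span F {u}), Q w = 1 := by
      rcases Nat.eq_zero_or_pos k with rfl | hk
      · obtain ⟨w, hw, hQw⟩ := exists_anisotropic hRn (fun e => by rw [e, finrank_bot] at hRd; omega)
        obtain ⟨hn, hd', hp'⟩ := plus_smul_plane (Q := Q) hQu rfl
          ((mem_perp.1 hw).2 u (mem_span_singleton_self u)) one_ne_zero hQw h2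
        have hPW : span F ({u, w} : Set V) = W := Submodule.eq_of_le_of_finrank_eq
          (span_le.2 (by rintro z (rfl | rfl); exacts [hu, perp_le _ _ hw])) (by omega)
        rw [hPW, one_mul] at hp'
        rw [hp'] at hp
        obtain ⟨t, ht⟩ : IsSquare (Q w) := (neg_sq_iff hQw).1 (by simpa using hp)
        refine ⟨t⁻¹ • w, Submodule.smul_mem _ _ hw, ?_⟩
        have ht0 : t ≠ 0 := fun e => hQw (by rw [ht, e, zero_mul])
        rw [QuadraticMap.map_smul, ht, smul_eq_mul]
        field_simp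
      · exact exists_value Q _ hRn (by omega) 1 one_ne_zero
    have huw := (mem_perp.1 hw).2 u (mem_span_singleton_self u)
    obtain ⟨hPn, hPd, hPp⟩ := plus_smul_plane (Q := Q) hQu hQw huw one_ne_zero one_ne_zero h2
    have hP : span F ({u, w} : Set V) ≤ W := span_le.2 (by rintro z (rfl | rfl); exacts [hu, perp_le _ _ hw])
    obtain ⟨hs, hRn'⟩ := sup_perp hW hP hPn
    have hd' := finrank_perp hW hP
    obtain ⟨f, hf, hf1, hfo⟩ := ih _ hRn' (by omega) (by
      rw [← hs, plus_sup_iff hPn hRn' (orth_perp _ _) (by rw [hPd]; exact even_two)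
        (Nat.even_iff.2 (by omega)), hPp, mul_one, Nat.even_add_one] at hp
      tauto)
    have hfu : ∀ i, polar (⇑Q) u (f i) = 0 := fun i => (mem_perp.1 (hf i)).2 u (subset_span (by simp))
    have hfw : ∀ i, polar (⇑Q) w (f i) = 0 := fun i => (mem_perp.1 (hf i)).2 w (subset_span (by simp))
    refine ⟨Sum.elim (Fin.cons u fun i => f (Sum.inl i)) (Fin.cons w fun i => f (Sum.inr i)), ?_, ?_, ?_⟩
    · rintro (i | i) <;> refine Fin.cases ?_ (fun i => ?_) i
      exacts [hu, perp_le _ _ (hf _), perp_le _ _ hw, perp_le _ _ (hf _)]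
    · rintro (i | i) <;> refine Fin.cases ?_ (fun i => ?_) i
      exacts [hQu, hf1 _, hQw, hf1 _]
    · rintro (i | i) (j | j) <;> refine Fin.cases ?_ (fun i => ?_) i <;> refine Fin.cases ?_ (fun j => ?_) j <;>
        intro hne <;>
        simp only [Sum.elim_inl, Sum.elim_inr, Fin.cons_zero, Fin.cons_succ]
      all_goals first
        | exact absurd rfl hne
        | exact huw
        | exact (QuadraticMap.polar_comm _ _ _).trans huw
        | exact hfu _
        | exact hfw _
        | exact (QuadraticMap.polar_comm _ _ _).trans (hfu _)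
        | exact (QuadraticMap.polar_comm _ _ _).trans (hfw _)
        | exact hfo _ _ (by simpa using hne)
        | exact hfo _ _ (by simp)

/-- A map squaring to minus one. -/
theorem exists_sq_neg (h2 : (2 : F) ≠ 0) (hQ : ND Q (⊤ : Submodule F V)) {k : ℕ} (hn : Module.finrank F V = 2 * k)
    (hp : Plus Q (⊤ : Submodule F V) ↔ (IsSquare (-1 : F) ∨ Even k)) :
    ∃ T : Module.End F V, (∀ v, Q (T v) = Q v) ∧ ∀ v, T (T v) = -v := by
  classical
  obtain ⟨f, -, hf1, hfo⟩ := exists_frame h2 k ⊤ hQ (by rw [finrank_top]; exact hn) hp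
  have hli : LinearIndependent F f := by
    rw [Fintype.linearIndependent_iff]
    intro g hg i
    have h := congrArg (fun z => polar (⇑Q) z (f i)) hg
    simp only [QuadraticMap.polar_zero_left] at h
    rw [show polar (⇑Q) (∑ j, g j • f j) (f i) = ∑ j, g j * polar (⇑Q) (f j) (f i) by
      show polarBilin Q _ (f i) = _
      rw [map_sum, LinearMap.sum_apply]
      simp, Finset.sum_eq_single i (fun j _ hj => by rw [hfo j i hj, mul_zero]) (fun h => absurd (Finset.mem_univ i) h),
      FormNormal.polar_self', hf1, mul_one] at h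
    exact (mul_eq_zero.1 h).resolve_right h2
  have hspan : span F (Set.range f) = ⊤ := Submodule.eq_top_of_finrank_eq (by
    rw [finrank_span_eq_card hli, hn]; simp; omega)
  let b : Module.Basis (Fin k ⊕ Fin k) F V := Module.Basis.mk hli hspan.ge
  have hb : ∀ i, b i = f i := fun i => Module.Basis.mk_apply _ _ i
  let T : Module.End F V := b.constr F (Sum.elim (fun i => f (Sum.inr i)) fun i => -f (Sum.inl i))
  have hT : ∀ i, T (b i) = Sum.elim (fun i => f (Sum.inr i)) (fun i => -f (Sum.inl i)) i := fun i =>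
    Module.Basis.constr_basis b F _ i
  refine ⟨T, fun v => ?_, fun v => ?_⟩
  · refine eq_of_basis (Q.comp T) Q b (fun i => ?_) (fun i j => ?_) v
    · show Q (T (b i)) = Q (b i)
      rw [hT, hb, hf1]
      rcases i with i | i <;> simp [hf1]
    · show Q (T (b i + b j)) - Q (T (b i)) - Q (T (b j)) = polar (⇑Q) (b i) (b j)
      rw [map_add, hT, hT, hb, hb]
      show polar (⇑Q) _ _ = _
      rcases i with i | i <;> rcases j with j | j <;>
        simp only [Sum.elim_inl, Sum.elim_inr, QuadraticMap.polar_neg_left, QuadraticMap.polar_neg_right, neg_neg]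
      · by_cases hij : i = j
        · subst hij; simp [FormNormal.polar_self', hf1]
        · rw [hfo _ _ (by simpa using hij), hfo _ _ (by simpa using hij)]
      · by_cases hij : j = i
        · subst hij; rw [hfo _ _ (by simp), hfo _ _ (by simp), neg_zero]
        · rw [hfo _ _ (by simp), hfo _ _ (by simp), neg_zero]
      · rw [hfo _ _ (by simp), hfo _ _ (by simp), neg_zero]
      · by_cases hij : i = j
        · subst hij; simp [FormNormal.polar_self', hf1]
        · rw [hfo _ _ (by simpa using hij), hfo _ _ (by simpa using hij)]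
  · have h : T ∘ₗ T = -LinearMap.id := b.ext fun i => by
      show T (T (b i)) = -b i
      rw [hT]
      rcases i with i | i
      · rw [Sum.elim_inl, ← hb, hT, Sum.elim_inr, hb]
      · rw [Sum.elim_inr, map_neg, ← hb, hT, Sum.elim_inl, hb]
    exact LinearMap.congr_fun h v

/-! ### Totally singular invariant subspaces -/

/-- Invariant singular lines of two planes make a totally singular plane. -/
theorem sq_neg_ts (h2 : (2 : F) ≠ 0) (hiso : ∀ v, Q (x v) = Q v) :
    ∀ (j : ℕ) (W : Submodule F V), ND Q W → Inv x W → (∀ w ∈ W, x (x w) = -w) → 4 * j ≤ Module.finrank F W →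
      ∃ U ≤ W, Inv x U ∧ TS Q U ∧ Module.finrank F U = 2 * j := by
  intro j
  induction j with
  | zero =>
    exact fun W _ _ _ _ => ⟨⊥, bot_le, fun w hw => by rw [(Submodule.mem_bot F).1 hw, map_zero]; exact Submodule.zero_mem _,
      fun w hw => by rw [(Submodule.mem_bot F).1 hw, QuadraticMap.map_zero], by simp⟩
  | succ j ih =>
    intro W hW hWi hx2 hd
    obtain ⟨u, hu, ha⟩ := exists_anisotropic hW (fun e => by rw [e, finrank_bot] at hd; omega)
    obtain ⟨hP, hPi, hPn, hPd, -⟩ := sq_neg_plane h2 hiso hx2 hWi hu ha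
    set P := span F ({u, x u} : Set V) with hPdef
    obtain ⟨-, hRn⟩ := sup_perp hW hP hPn
    have hRi : Inv x (perp Q W P) :=
      inv_perp_sq (s := -1) hiso (by ring) (fun w hw => by rw [neg_one_smul]; exact hx2 w hw) hWi hP hPi
    have hd1 := finrank_perp hW hP
    obtain ⟨w, hw, hb⟩ := exists_anisotropic hRn (fun e => by rw [e, finrank_bot] at hd1; omega)
    have hwW := perp_le _ _ hw
    obtain ⟨hP', hP'i, hP'n, hP'd, -⟩ := sq_neg_plane h2 hiso hx2 hWi hwW hb
    have hP'R : span F ({w, x w} : Set V) ≤ perp Q W P := span_le.2 (by rintro z (rfl | rfl); exacts [hw, hRi w hw])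
    set P' := span F ({w, x w} : Set V) with hP'def
    have hor : Orth Q P P' := (orth_perp W P).mono le_rfl hP'R
    set Z := P ⊔ P' with hZdef
    have hZn : ND Q Z := nd_sup hPn hP'n hor
    have hZW : Z ≤ W := sup_le hP hP'
    have hZi : Inv x Z := hPi.sup hP'i
    obtain ⟨α, β, hab⟩ := FiniteField.exists_root_sum_quadratic (R := F)
      (f := Polynomial.C (Q w) * Polynomial.X ^ 2) (g := Polynomial.C (Q w) * Polynomial.X ^ 2 + Polynomial.C (Q u))
      (Polynomial.degree_C_mul_X_pow 2 hb)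
      (by
        rw [Polynomial.degree_add_eq_left_of_degree_lt] <;> rw [Polynomial.degree_C_mul_X_pow 2 hb]
        · rfl
        · exact lt_of_le_of_lt Polynomial.degree_C_le (by decide))
      (Nat.odd_iff.mp (Nat.odd_iff.mpr (FiniteField.odd_card_of_char_ne_two fun h => h2 (by
        haveI := ringChar.of_eq h; exact CharTwo.two_eq_zero))))
    simp only [Polynomial.eval_mul, Polynomial.eval_C, Polynomial.eval_pow, Polynomial.eval_X, Polynomial.eval_add] at hab
    set v := u + (α • w + β • x w) with hv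
    have huP : u ∈ P := subset_span (by simp)
    have hzP' : α • w + β • x w ∈ P' := mem_span_pair.2 ⟨α, β, rfl⟩
    have hvW : v ∈ W := W.add_mem hu (hP' hzP')
    have hQv : Q v = 0 := by
      rw [hv, hor.q_add huP hzP', QuadraticMap.map_add (f := Q), QuadraticMap.map_smul, QuadraticMap.map_smul, hiso,
        QuadraticMap.polar_smul_left, QuadraticMap.polar_smul_right, polar_sq_neg h2 hiso hx2 hwW]
      simp only [smul_eq_mul, mul_zero, add_zero]
      linear_combination hab
    have hvx := polar_sq_neg h2 hiso hx2 hvW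
    set U := span F ({v, x v} : Set V) with hUdef
    have hvZ : v ∈ Z := add_mem_sup huP hzP'
    have hUZ : U ≤ Z := span_le.2 (by rintro z (rfl | rfl); exacts [hvZ, hZi v hvZ])
    have hUi : Inv x U := fun z hz => by
      obtain ⟨s, t, rfl⟩ := mem_span_pair.1 hz
      rw [map_add, map_smul, map_smul, hx2 v hvW, smul_neg, ← neg_smul, add_comm]
      exact mem_span_pair.2 ⟨-t, s, rfl⟩
    have hUts : TS Q U := fun z hz => by
      obtain ⟨s, t, rfl⟩ := mem_span_pair.1 hz
      rw [QuadraticMap.map_add (f := Q), QuadraticMap.map_smul, QuadraticMap.map_smul, hiso, hQv,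
        QuadraticMap.polar_smul_left, QuadraticMap.polar_smul_right, hvx]
      simp
    have hli : LinearIndependent F ![v, x v] := by
      rw [LinearIndependent.pair_iff]
      intro s t e
      have hsplit : ∀ z : V, z ∈ P → z ∈ P' → z = 0 := fun z h h' =>
        (Submodule.mem_bot F).1 (nd_disjoint hPn hor ▸ ⟨h, h'⟩)
      have e' : (s • u + t • x u) + (s • (α • w + β • x w) + t • x (α • w + β • x w)) = 0 := by
        rw [← e, hv]; simp only [map_add, map_smul, smul_add]; abel
      have h1 : s • u + t • x u = 0 := hsplit _ (mem_span_pair.2 ⟨s, t, rfl⟩) (by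
        rw [eq_neg_of_add_eq_zero_left e']
        exact P'.neg_mem (P'.add_mem (P'.smul_mem s hzP') (P'.smul_mem t (hP'i _ hzP'))))
      have q1 := congrArg (fun z => polar (⇑Q) z u) h1
      have q2 := congrArg (fun z => polar (⇑Q) z (x u)) h1
      simp only [QuadraticMap.polar_add_left, QuadraticMap.polar_smul_left, QuadraticMap.polar_zero_left,
        FormNormal.polar_self', hiso, smul_eq_mul, QuadraticMap.polar_comm _ (x u) u, polar_sq_neg h2 hiso hx2 hu,
        mul_zero, add_zero, zero_add] at q1 q2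
      exact ⟨(mul_eq_zero.1 q1).resolve_right (mul_ne_zero h2 ha), (mul_eq_zero.1 q2).resolve_right (mul_ne_zero h2 ha)⟩
    have hUd : Module.finrank F U = 2 := by
      have := finrank_span_eq_card hli
      rw [Matrix.range_cons_cons_empty] at this
      simpa using this
    obtain ⟨-, hR'n⟩ := sup_perp hW hZW hZn
    have hR'i : Inv x (perp Q W Z) :=
      inv_perp_sq (s := -1) hiso (by ring) (fun w hw => by rw [neg_one_smul]; exact hx2 w hw) hWi hZW hZi
    have hd2 := finrank_perp hW hZW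
    have hZd : Module.finrank F Z = 4 := by rw [hZdef, finrank_sup_orth hPn hor, hPd, hP'd]
    obtain ⟨U', hU', hU'i, hU'ts, hU'd⟩ := ih _ hR'n hR'i (fun z hz => hx2 z (perp_le _ _ hz)) (by omega)
    have horU := (orth_perp W Z).mono hUZ hU'
    refine ⟨U ⊔ U', sup_le (hUZ.trans hZW) (hU'.trans (perp_le _ _)), hUi.sup hU'i, ts_sup hUts hU'ts horU, ?_⟩
    have := Submodule.finrank_sup_add_finrank_inf_eq U U'
    rw [show U ⊓ U' = ⊥ from eq_bot_iff.2 ((inf_le_inf hUZ hU').trans (nd_disjoint hZn (orth_perp W Z)).le),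
      finrank_bot, hUd, hU'd] at this
    omega

end Cfsg.Lib.OrthEl
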