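import Cfsg.Agent.Classical.OrthElusive.AType

/-!
# Involutory isometries in characteristic two
-/

set_option autoImplicit false
set_option linter.unusedSectionVars false

open QuadraticMap Submodule Cfsg.Lib.FormNormal
open Cfsg.Lib.Classical.PrimeOrd (Inv)

namespace Cfsg.Lib.OrthEl

universe u v

variable {F : Type u} [Field F] [Fintype F] [CharP F 2] {V : Type v} [AddCommGroup V] [Module F V] [FiniteDimensional F V]
  {Q : QuadraticForm F V} {x : Module.End F V}

theorem polar_self_two (u : V) : polar (⇑Q) u u = 0 := by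
  rw [FormNormal.polar_self', CharTwo.two_eq_zero, zero_mul]

/-- An involutory isometry. -/
structure Invol (Q : QuadraticForm F V) (x : Module.End F V) : Prop where
  iso : ∀ v, Q (x v) = Q v
  sq : ∀ v, x (x v) = v

theorem Invol.disp_sq (hx : Invol Q x) (v : V) : disp x (disp x v) = 0 := by
  have h : (2 : F) • (v - x v) = 0 := by rw [CharTwo.two_eq_zero, zero_smul]
  rw [disp_apply, disp_apply, map_sub, hx.sq, ← h, two_smul]
  abel

theorem Invol.sym (hx : Invol Q x) (u w : V) : polar (⇑Q) u (disp x w) = polar (⇑Q) (disp x u) w := by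
  have h : polar (⇑Q) u (x w) = polar (⇑Q) (x u) w := by
    conv_lhs => rw [← hx.sq u]
    simp only [polar, ← map_add, hx.iso]
  rw [disp_apply, disp_apply, QuadraticMap.polar_sub_right, QuadraticMap.polar_sub_left, h]

theorem Invol.q_disp (hx : Invol Q x) (u : V) : Q (disp x u) = polar (⇑Q) u (disp x u) := by
  have h := hx.iso u
  rw [x_eq, QuadraticMap.map_add (f := Q)] at h
  rw [← CharTwo.neg_eq (polar (⇑Q) u (disp x u))]
  linear_combination h

theorem Invol.orth_disp (hx : Invol Q x) (u w : V) : polar (⇑Q) (disp x u) (disp x w) = 0 := by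
  rw [hx.sym, hx.disp_sq, QuadraticMap.polar_zero_left]

theorem Invol.inv_perp' (hx : Invol Q x) {W U : Submodule F V} (hW : Inv x W) (hU : U ≤ W) (hUi : Inv x U) :
    Inv x (perp Q W U) := by
  intro w hw
  rw [mem_perp] at hw ⊢
  refine ⟨hW w hw.1, fun a ha => ?_⟩
  have h : polar (⇑Q) (x (x a)) (x w) = polar (⇑Q) (x a) w := by simp only [polar, ← map_add, hx.iso]
  rw [hx.sq] at h
  rw [h]
  exact hw.2 (x a) (hUi a ha)

theorem inv_of_disp {U : Submodule F V} (h : ∀ u ∈ U, disp x u ∈ U) : Inv x U := fun u hu => by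
  rw [x_eq]; exact U.add_mem hu (h u hu)

theorem disp_mem {U : Submodule F V} (h : Inv x U) {u : V} (hu : u ∈ U) : disp x u ∈ U := by
  rw [disp_apply]; exact U.sub_mem (h u hu) hu

/-- A plane from two vectors. -/
theorem plane_two {u w : V} (h : polar (⇑Q) u w ≠ 0) :
    ND Q (span F ({u, w} : Set V)) ∧ Module.finrank F (span F ({u, w} : Set V)) = 2 := by
  have hco : ∀ α β : F, polar (⇑Q) (α • u + β • w) u = β * polar (⇑Q) u w ∧
      polar (⇑Q) (α • u + β • w) w = α * polar (⇑Q) u w := fun α β => by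
    simp [QuadraticMap.polar_add_left, QuadraticMap.polar_smul_left, polar_self_two, CharTwo.two_eq_zero,
      QuadraticMap.polar_comm _ w u]
  refine ⟨fun z hz hp => ?_, ?_⟩
  · obtain ⟨α, β, rfl⟩ := mem_span_pair.1 hz
    obtain ⟨e1, e2⟩ := hco α β
    rw [hp u (subset_span (by simp))] at e1
    rw [hp w (subset_span (by simp))] at e2
    rw [(mul_eq_zero.1 e1.symm).resolve_right h, (mul_eq_zero.1 e2.symm).resolve_right h]
    simp
  · have hli : LinearIndependent F ![u, w] := by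
      rw [LinearIndependent.pair_iff]
      intro α β e
      obtain ⟨e1, e2⟩ := hco α β
      rw [e, QuadraticMap.polar_zero_left] at e1 e2
      exact ⟨(mul_eq_zero.1 e2.symm).resolve_right h, (mul_eq_zero.1 e1.symm).resolve_right h⟩
    have := finrank_span_eq_card hli
    rw [Matrix.range_cons_cons_empty] at this
    simpa using this

/-- Split into planes or trivial. -/
def Planar (Q : QuadraticForm F V) (x : Module.End F V) (W : Submodule F V) : Prop :=
  (∃ u ∈ W, polar (⇑Q) u (disp x u) ≠ 0) ∨ ∀ w ∈ W, disp x w = 0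

theorem Invol.disp_plane (hx : Invol Q x) {W : Submodule F V} (hW : Inv x W) {u : V} (hu : u ∈ W) :
    span F ({u, disp x u} : Set V) ≤ W ∧ Inv x (span F ({u, disp x u} : Set V)) := by
  refine ⟨span_le.2 (by rintro z (rfl | rfl); exacts [hu, disp_mem hW hu]), inv_of_disp fun z hz => ?_⟩
  obtain ⟨α, β, rfl⟩ := mem_span_pair.1 hz
  rw [map_add, map_smul, map_smul, hx.disp_sq, smul_zero, add_zero]
  exact Submodule.smul_mem _ _ (subset_span (by simp))

/-- A plane with planar complement. -/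
theorem exists_plane_planar (hx : Invol Q x) {W : Submodule F V} (hW : ND Q W) (hWi : Inv x W) (h : Planar Q x W)
    (h0 : W ≠ ⊥) :
    ∃ P ≤ W, ND Q P ∧ Inv x P ∧ Module.finrank F P = 2 ∧ Planar Q x (perp Q W P) := by
  by_cases hall : ∀ w ∈ W, disp x w = 0
  · obtain ⟨u, hu, hu0⟩ := W.exists_mem_ne_zero_of_ne_bot h0
    obtain ⟨w, hw, huw⟩ : ∃ w ∈ W, polar (⇑Q) u w ≠ 0 := by
      by_contra hh
      push Not at hh
      exact hu0 (hW u hu hh)
    obtain ⟨hn, hd⟩ := plane_two huw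
    have hP : span F ({u, w} : Set V) ≤ W := span_le.2 (by rintro z (rfl | rfl); exacts [hu, hw])
    exact ⟨_, hP, hn, inv_of_disp fun z hz => by rw [hall z (hP hz)]; exact Submodule.zero_mem _, hd,
      Or.inr fun z hz => hall z (perp_le _ _ hz)⟩
  obtain ⟨u, hu, hl⟩ := h.resolve_right hall
  obtain ⟨hn, hd⟩ := plane_two hl
  obtain ⟨hP, hPi⟩ := hx.disp_plane hWi hu
  by_cases hR : Planar Q x (perp Q W (span F ({u, disp x u} : Set V)))
  · exact ⟨_, hP, hn, hPi, hd, hR⟩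
  rw [Planar, not_or] at hR
  push Not at hR
  obtain ⟨halt, v, hv, hv0⟩ := hR
  obtain ⟨hs, hRn⟩ := sup_perp hW hP hn
  have hRi := hx.inv_perp' hWi hP hPi
  obtain ⟨v', hv', hμ⟩ : ∃ v' ∈ perp Q W (span F ({u, disp x u} : Set V)), polar (⇑Q) v' (disp x v) ≠ 0 := by
    by_contra hh
    push Not at hh
    exact hv0 (hRn _ (disp_mem hRi hv) fun y hy => by rw [QuadraticMap.polar_comm]; exact hh y hy)
  have hvW := perp_le _ _ hv
  have hv'W := perp_le _ _ hv'
  have hou : ∀ z ∈ perp Q W (span F ({u, disp x u} : Set V)),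
      polar (⇑Q) u z = 0 ∧ polar (⇑Q) (disp x u) z = 0 :=
    fun z hz => ⟨(mem_perp.1 hz).2 u (subset_span (by simp)), (mem_perp.1 hz).2 _ (subset_span (by simp))⟩
  obtain ⟨lam, hlam⟩ : ∃ lam, lam = polar (⇑Q) u (disp x u) := ⟨_, rfl⟩
  have hl' : polar (⇑Q) (u + v) (disp x (u + v)) = lam := by
    rw [map_add, QuadraticMap.polar_add_left, QuadraticMap.polar_add_right, QuadraticMap.polar_add_right,
      (hou _ (disp_mem hRi hv)).1, QuadraticMap.polar_comm _ v (disp x u), (hou _ hv).2, halt v hv, hlam]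
    ring
  have hu'W : u + v ∈ W := W.add_mem hu hvW
  obtain ⟨hn', hd'⟩ := plane_two (show polar (⇑Q) (u + v) (disp x (u + v)) ≠ 0 by rw [hl', hlam]; exact hl)
  obtain ⟨hP', hP'i⟩ := hx.disp_plane hWi hu'W
  refine ⟨_, hP', hn', hP'i, hd', Or.inl ?_⟩
  have hlam0 : lam ≠ 0 := hlam ▸ hl
  obtain ⟨t, ht⟩ : ∃ t, t = polar (⇑Q) v' (disp x v) / lam := ⟨_, rfl⟩
  obtain ⟨s, hs'⟩ : ∃ s, s = polar (⇑Q) (u + v) (v' + t • u) / lam := ⟨_, rfl⟩
  have hz1 : polar (⇑Q) (disp x (u + v)) (v' + t • u) = 0 := by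
    rw [map_add, QuadraticMap.polar_add_left, QuadraticMap.polar_add_right, QuadraticMap.polar_add_right,
      QuadraticMap.polar_smul_right, QuadraticMap.polar_smul_right, (hou _ hv').2,
      QuadraticMap.polar_comm _ (disp x v) u, (hou _ (disp_mem hRi hv)).1, QuadraticMap.polar_comm _ (disp x u) u,
      QuadraticMap.polar_comm _ (disp x v) v', ← hlam, smul_eq_mul, smul_eq_mul, mul_zero, add_zero, zero_add, ht,
      div_mul_cancel₀ _ hlam0]
    exact CharTwo.add_self_eq_zero _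
  obtain ⟨z₀, hz₀⟩ : ∃ z₀, z₀ = v' + t • u := ⟨_, rfl⟩
  rw [← hz₀] at hz1 hs'
  obtain ⟨q, hq⟩ : ∃ q, q = disp x (u + v) := ⟨_, rfl⟩
  rw [← hq] at hz1 hl' hn' hd' hP' hP'i ⊢
  have hz₀W : z₀ ∈ W := hz₀ ▸ W.add_mem hv'W (W.smul_mem t hu)
  refine ⟨z₀ + s • q, mem_perp.2 ⟨W.add_mem hz₀W (W.smul_mem s (hq ▸ disp_mem hWi hu'W)), fun a ha => ?_⟩, ?_⟩
  · obtain ⟨α, β, rfl⟩ := mem_span_pair.1 ha
    simp only [QuadraticMap.polar_add_left, QuadraticMap.polar_smul_left, QuadraticMap.polar_add_right,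
      QuadraticMap.polar_smul_right, hl', hz1, polar_self_two, smul_eq_mul, mul_zero, add_zero, zero_add,
      FormNormal.polar_self', CharTwo.two_eq_zero, zero_mul, ← QuadraticMap.polar_comm _ q (u + v)] at *
    rw [hs']
    field_simp
    linear_combination (α * (polar (⇑Q) u z₀ + polar (⇑Q) v z₀)) * (CharTwo.two_eq_zero (R := F))
  · have hq0 : disp x q = 0 := by rw [hq]; exact hx.disp_sq _
    rw [map_add, map_smul, hq0, smul_zero, add_zero, QuadraticMap.polar_add_left, QuadraticMap.polar_smul_left, hq,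
      hx.orth_disp, smul_zero, add_zero, hz₀, map_add, map_smul]
    simp only [QuadraticMap.polar_add_left, QuadraticMap.polar_add_right, QuadraticMap.polar_smul_left,
      QuadraticMap.polar_smul_right, halt v' hv', QuadraticMap.polar_comm _ v' (disp x u), (hou _ hv').2,
      (hou _ (disp_mem hRi hv')).1, ← hlam, smul_eq_mul, mul_zero, add_zero, zero_add]
    exact mul_ne_zero (ht ▸ div_ne_zero hμ hlam0) (mul_ne_zero (ht ▸ div_ne_zero hμ hlam0) hlam0)

/-- The members of a planar space. -/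
theorem planar_struct (hx : Invol Q x) :
    ∀ (n : ℕ) (W : Submodule F V), Module.finrank F W = n → ND Q W → Inv x W → Planar Q x W →
      ∃ a b, n = 2 * (a + b) ∧ (Plus Q W ↔ Even b) ∧ ∀ j ≤ b, ∀ l ≤ a, ∃ W' ≤ W, ND Q W' ∧ Inv x W' ∧
        Module.finrank F W' = 2 * (j + l) ∧ (Plus Q W' ↔ Even j) := by
  intro n
  induction n using Nat.strong_induction_on with
  | _ n ih =>
  intro W hn hW hWi hpl
  by_cases h0 : W = ⊥
  · subst h0
    rw [finrank_bot] at hn
    refine ⟨0, 0, by omega, iff_of_true plus_bot ⟨0, rfl⟩, fun j hj l hl => ⟨⊥, le_rfl, nd_bot, hWi, ?_, ?_⟩⟩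
    · rw [finrank_bot]; omega
    · rw [show j = 0 by omega]; exact iff_of_true plus_bot ⟨0, rfl⟩
  obtain ⟨P, hP, hPn, hPi, hPd, hRpl⟩ := exists_plane_planar hx hW hWi hpl h0
  obtain ⟨hs, hRn⟩ := sup_perp hW hP hPn
  have hd := finrank_perp hW hP
  obtain ⟨a, b, hab, hbp, hsub⟩ := ih _ (by omega) _ rfl hRn (hx.inv_perp' hWi hP hPi) hRpl
  have hWp : Plus Q W ↔ (Plus Q P ↔ Even b) := by
    conv_lhs => rw [← hs]
    rw [plus_sup_iff hPn hRn (orth_perp _ _) (by rw [hPd]; exact even_two) (hab ▸ even_two_mul _), hbp]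
  have hext : ∀ W' ≤ perp Q W P, ND Q W' → Inv x W' → Even (Module.finrank F W') →
      ∃ W'' ≤ W, ND Q W'' ∧ Inv x W'' ∧ Module.finrank F W'' = Module.finrank F W' + 2 ∧
        (Plus Q W'' ↔ (Plus Q P ↔ Plus Q W')) := fun W' hW' hn' hi' he' => by
    have hor : Orth Q P W' := (orth_perp W P).mono le_rfl hW'
    exact ⟨P ⊔ W', sup_le hP (hW'.trans (perp_le _ _)), nd_sup hPn hn' hor, hPi.sup hi',
      by rw [finrank_sup_orth hPn hor, hPd]; omega, plus_sup_iff hPn hn' hor (by rw [hPd]; exact even_two) he'⟩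
  by_cases hp : Plus Q P
  · refine ⟨a + 1, b, by omega, hWp.trans (by simp [hp]), fun j hj l hl => ?_⟩
    rcases Nat.lt_or_ge l (a + 1) with h | h
    · obtain ⟨W', hW', h'⟩ := hsub j hj l (by omega)
      exact ⟨W', hW'.trans (perp_le _ _), h'⟩
    · obtain ⟨W', hW', hn', hi', hd', hp'⟩ := hsub j hj a le_rfl
      obtain ⟨W'', h1, h2, h3, h4, h5⟩ := hext W' hW' hn' hi' (hd' ▸ even_two_mul _)
      exact ⟨W'', h1, h2, h3, by omega, h5.trans (by simp [hp, hp'])⟩
  · refine ⟨a, b + 1, by omega, hWp.trans (by simp [hp, Nat.even_add_one]), fun j hj l hl => ?_⟩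
    rcases Nat.lt_or_ge j (b + 1) with h | h
    · obtain ⟨W', hW', h'⟩ := hsub j (by omega) l hl
      exact ⟨W', hW'.trans (perp_le _ _), h'⟩
    · obtain ⟨W', hW', hn', hi', hd', hp'⟩ := hsub b le_rfl l hl
      obtain ⟨W'', h1, h2, h3, h4, h5⟩ := hext W' hW' hn' hi' (hd' ▸ even_two_mul _)
      refine ⟨W'', h1, h2, h3, by omega, h5.trans ?_⟩
      rw [show j = b + 1 by omega, Nat.even_add_one, hp']
      simp [hp]

/-- The members of an alternating space. -/
theorem alt_struct (hx : Invol Q x) :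
    ∀ (n : ℕ) (W : Submodule F V), Module.finrank F W = n → ND Q W → Inv x W →
      (∀ u ∈ W, polar (⇑Q) u (disp x u) = 0) →
      ∃ (g : ℕ) (F₀ : Submodule F V), F₀ ≤ W ∧ ND Q F₀ ∧ (∀ w ∈ F₀, x w = w) ∧ Even (Module.finrank F F₀) ∧
        n = 4 * g + Module.finrank F F₀ ∧ (Plus Q W ↔ Plus Q F₀) ∧
        ∀ j ≤ g, ∃ B ≤ W, ND Q B ∧ Inv x B ∧ Plus Q B ∧ Module.finrank F B = 4 * j ∧ Orth Q B F₀ := by
  intro n
  induction n using Nat.strong_induction_on with
  | _ n ih =>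
  intro W hn hW hWi halt
  by_cases hall : ∀ w ∈ W, disp x w = 0
  · obtain ⟨a, b, hab, -, -⟩ := planar_struct hx n W hn hW hWi (Or.inr hall)
    refine ⟨0, W, le_rfl, hW, fun w hw => by rw [x_eq, hall w hw, add_zero], ?_, by omega, Iff.rfl,
      fun j hj => ⟨⊥, bot_le, nd_bot, inv_of_disp fun u hu => by
        rw [(Submodule.mem_bot F).1 hu, map_zero]; exact Submodule.zero_mem _, plus_bot,
        by rw [finrank_bot]; omega, fun z hz y _ => by rw [(Submodule.mem_bot F).1 hz, QuadraticMap.polar_zero_left]⟩⟩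
    rw [hn, hab]; exact even_two_mul _
  push Not at hall
  obtain ⟨v, hv, hv0⟩ := hall
  obtain ⟨w, hw, hμ⟩ : ∃ w ∈ W, polar (⇑Q) w (disp x v) ≠ 0 := by
    by_contra hh
    push Not at hh
    exact hv0 (hW _ (disp_mem hWi hv) fun y hy => by rw [QuadraticMap.polar_comm]; exact hh y hy)
  set μ := polar (⇑Q) w (disp x v) with hμd
  have e1 : polar (⇑Q) v (disp x w) = μ := by rw [hx.sym, QuadraticMap.polar_comm, hμd]
  let f : Fin 4 → V := ![v, w, disp x v, disp x w]
  set Z := span F (Set.range f) with hZ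
  have hmem : ∀ i, f i ∈ W := fun i => by
    fin_cases i
    exacts [hv, hw, disp_mem hWi hv, disp_mem hWi hw]
  have hZW : Z ≤ W := span_le.2 (by rintro _ ⟨i, rfl⟩; exact hmem i)
  have hZi : Inv x Z := inv_of_disp fun z hz => by
    obtain ⟨c, rfl⟩ := (mem_span_range_iff_exists_fun F).1 hz
    rw [map_sum]
    refine sum_mem fun i _ => ?_
    rw [map_smul]
    refine Submodule.smul_mem _ _ ?_
    fin_cases i
    · exact subset_span ⟨2, rfl⟩
    · exact subset_span ⟨3, rfl⟩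
    · show disp x (disp x v) ∈ Z; rw [hx.disp_sq]; exact Submodule.zero_mem _
    · show disp x (disp x w) ∈ Z; rw [hx.disp_sq]; exact Submodule.zero_mem _
  have hco : ∀ c : Fin 4 → F,
      polar (⇑Q) (∑ i, c i • f i) (f 2) = c 1 * μ ∧ polar (⇑Q) (∑ i, c i • f i) (f 3) = c 0 * μ ∧
      polar (⇑Q) (∑ i, c i • f i) (f 0) = c 1 * polar (⇑Q) w v + c 3 * μ ∧
      polar (⇑Q) (∑ i, c i • f i) (f 1) = c 0 * polar (⇑Q) v w + c 2 * μ := by
    intro c
    simp only [Fin.sum_univ_four, f, Matrix.cons_val_zero, Matrix.cons_val_one, Matrix.cons_val,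
      QuadraticMap.polar_add_left, QuadraticMap.polar_smul_left, smul_eq_mul, polar_self_two, hx.orth_disp,
      halt v hv, halt w hw, QuadraticMap.polar_comm _ (disp x v) v, QuadraticMap.polar_comm _ (disp x w) v,
      QuadraticMap.polar_comm _ (disp x v) w, QuadraticMap.polar_comm _ (disp x w) w, e1, ← hμd, mul_zero, add_zero,
      zero_add]
    exact ⟨trivial, trivial, trivial, trivial⟩
  have hzero : ∀ c : Fin 4 → F, (∀ i, polar (⇑Q) (∑ i, c i • f i) (f i) = 0) → ∀ i, c i = 0 := by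
    intro c h
    obtain ⟨a2, a3, a0, a1⟩ := hco c
    rw [h 2] at a2; rw [h 3] at a3; rw [h 0] at a0; rw [h 1] at a1
    have c1 := (mul_eq_zero.1 a2.symm).resolve_right hμ
    have c0 := (mul_eq_zero.1 a3.symm).resolve_right hμ
    rw [c1, zero_mul, zero_add] at a0
    rw [c0, zero_mul, zero_add] at a1
    intro i; fin_cases i
    exacts [c0, c1, (mul_eq_zero.1 a1.symm).resolve_right hμ, (mul_eq_zero.1 a0.symm).resolve_right hμ]
  have hZn : ND Q Z := fun z hz hp => by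
    obtain ⟨c, rfl⟩ := (mem_span_range_iff_exists_fun F).1 hz
    have := hzero c fun i => hp _ (subset_span ⟨i, rfl⟩)
    simp [this]
  have hli : LinearIndependent F f := Fintype.linearIndependent_iff.2 fun c hc => hzero c fun i => by
    rw [hc, QuadraticMap.polar_zero_left]
  have hZd : Module.finrank F Z = 4 := by rw [hZ, finrank_span_eq_card hli, Fintype.card_fin]
  have hZp : Plus Q Z := by
    refine ⟨span F (Set.range (f ∘ ![2, 3])), span_mono (Set.range_comp_subset_range _ _), ts_span (fun i => ?_) (fun i j => ?_), ?_⟩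
    · fin_cases i
      · exact (hx.q_disp v).trans (halt v hv)
      · exact (hx.q_disp w).trans (halt w hw)
    · fin_cases i <;> fin_cases j <;> exact hx.orth_disp _ _
    · rw [hZd, finrank_span_eq_card (hli.comp _ (by decide)), Fintype.card_fin]
  obtain ⟨hs, hRn⟩ := sup_perp hW hZW hZn
  have hd := finrank_perp hW hZW
  obtain ⟨g, F₀, hF, hFn, hFx, hFe, hng, hFp, hB⟩ := ih _ (by omega) _ rfl hRn (hx.inv_perp' hWi hZW hZi)
    fun u hu => halt u (perp_le _ _ hu)
  refine ⟨g + 1, F₀, hF.trans (perp_le _ _), hFn, hFx, hFe, by omega, ?_, fun j hj => ?_⟩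
  · conv_lhs => rw [← hs]
    rw [plus_sup_iff hZn hRn (orth_perp _ _) (by rw [hZd]; exact ⟨2, rfl⟩)
      (by rw [hng]; exact (Even.mul_right (⟨2, rfl⟩ : Even 4) g).add hFe), iff_true_intro hZp, true_iff, hFp]
  · rcases Nat.lt_or_ge j (g + 1) with h | h
    · obtain ⟨B, hBle, h'⟩ := hB j (by omega)
      exact ⟨B, hBle.trans (perp_le _ _), h'⟩
    · obtain ⟨B, hBle, hBn, hBi, hBp, hBd, hBo⟩ := hB g le_rfl
      have hor : Orth Q Z B := (orth_perp W Z).mono le_rfl hBle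
      refine ⟨Z ⊔ B, sup_le hZW (hBle.trans (perp_le _ _)), nd_sup hZn hBn hor, hZi.sup hBi,
        plus_sup_plus hZn hor hZp hBp, by rw [finrank_sup_orth hZn hor, hZd, hBd]; omega, fun z hz y hy => ?_⟩
      obtain ⟨c, hc, e, he, rfl⟩ := mem_sup.1 hz
      rw [QuadraticMap.polar_add_left, orth_perp W Z c hc y (hF hy), hBo e he y hy, add_zero]

/-- A member of a given type from the structure. -/
theorem alt_member {W F₀ B : Submodule F V} (hW : F₀ ≤ W) (hB : B ≤ W) (hBn : ND Q B) (hBi : Inv x B) (hBp : Plus Q B)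
    (hor : Orth Q B F₀) (hFn : ND Q F₀) (hFx : ∀ w ∈ F₀, x w = w) (hBe : Even (Module.finrank F B)) {a : ℕ}
    (ha : Even a) (t : Prop)
    (h : (a = 0 ∧ t) ∨ (0 < a ∧ a < Module.finrank F F₀) ∨ (a = Module.finrank F F₀ ∧ (Plus Q F₀ ↔ t))) :
    ∃ W' ≤ W, ND Q W' ∧ Inv x W' ∧ Module.finrank F W' = Module.finrank F B + a ∧ (Plus Q W' ↔ t) := by
  rcases h with ⟨rfl, ht⟩ | ⟨h0, h1⟩ | ⟨rfl, ht⟩
  · exact ⟨B, hB, hBn, hBi, by omega, iff_of_true hBp ht⟩
  all_goals
    obtain ⟨R, hR, hRn, hRd, hRp⟩ : ∃ R ≤ F₀, ND Q R ∧ Module.finrank F R = _ ∧ (Plus Q R ↔ t) := by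
      first
        | exact exists_type hFn ha h0 h1 t
        | exact ⟨F₀, le_rfl, hFn, rfl, ht⟩
    have hor' : Orth Q B R := hor.mono le_rfl hR
    exact ⟨B ⊔ R, sup_le hB (hR.trans hW), nd_sup hBn hRn hor',
      hBi.sup fun w hw => by rw [hFx w (hR hw)]; exact hw,
      by rw [finrank_sup_orth hBn hor', hRd],
      by rw [plus_sup_iff hBn hRn hor' hBe (hRd ▸ ha), iff_true_intro hBp, true_iff, hRp]⟩

/-- Hyperbolic members in plus type. -/
theorem invol_plus_member (hx : Invol Q x) (hQ : ND Q (⊤ : Submodule F V)) {d k : ℕ}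
    (hn : Module.finrank F V = 2 * d) (hV : Plus Q (⊤ : Submodule F V)) (hk : 2 * k < d) (hgood : Odd d ∨ Even k) :
    ∃ W, ND Q W ∧ Inv x W ∧ Module.finrank F W = 2 * k ∧ Plus Q W := by
  rw [Nat.odd_iff, Nat.even_iff] at hgood
  by_cases hpl : Planar Q x ⊤
  · obtain ⟨a, b, hab, hbp, hsub⟩ := planar_struct hx _ ⊤ rfl hQ (fun _ _ => trivial) hpl
    rw [finrank_top, hn] at hab
    have hb := Nat.even_iff.1 (hbp.1 hV)
    obtain ⟨j, l, hj, hl, hjk, hje⟩ : ∃ j l, j ≤ b ∧ l ≤ a ∧ j + l = k ∧ j % 2 = 0 := by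
      rcases Nat.lt_or_ge b k with h | h
      · exact ⟨b, k - b, le_rfl, by omega, by omega, hb⟩
      · exact ⟨k - k % 2, k % 2, by omega, by omega, by omega, by omega⟩
    obtain ⟨W, -, hWn, hWi, hWd, hWp⟩ := hsub j hj l hl
    exact ⟨W, hWn, hWi, by omega, hWp.2 (Nat.even_iff.2 hje)⟩
  · rw [Planar, not_or] at hpl
    push Not at hpl
    obtain ⟨g, F₀, hF, hFn, hFx, hFe, hng, hFp, hB⟩ := alt_struct hx _ ⊤ rfl hQ (fun _ _ => trivial) hpl.1
    rw [finrank_top, hn] at hng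
    obtain ⟨j, hj, hj'⟩ : ∃ j, j ≤ g ∧ j = min g (k / 2) := ⟨_, min_le_left _ _, rfl⟩
    obtain ⟨B, hBle, hBn, hBi, hBp, hBd, hBo⟩ := hB j hj
    obtain ⟨W, -, hWn, hWi, hWd, hWp⟩ := alt_member hF hBle hBn hBi hBp hBo hFn hFx
      (by rw [hBd]; exact Even.mul_right ⟨2, rfl⟩ j) (a := 2 * k - 4 * j) (Nat.even_iff.2 (by omega)) True (by
        rcases Nat.eq_zero_or_pos (2 * k - 4 * j) with h | h
        · exact Or.inl ⟨h, trivial⟩
        rcases Nat.lt_or_ge (2 * k - 4 * j) (Module.finrank F F₀) with h' | h'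
        · exact Or.inr (Or.inl ⟨h, h'⟩)
        · refine Or.inr (Or.inr ⟨?_, iff_of_true (hFp.1 hV) trivial⟩)
          have := Nat.even_iff.1 hFe
          omega)
    exact ⟨W, hWn, hWi, by omega, hWp.2 trivial⟩

/-- Elliptic members in minus type. -/
theorem invol_minus_member (hx : Invol Q x) (hQ : ND Q (⊤ : Submodule F V)) {d k : ℕ}
    (hn : Module.finrank F V = 2 * d) (hV : ¬ Plus Q (⊤ : Submodule F V)) (hk0 : 0 < k) (hk : k < d)
    (hgood : Even d ∨ Odd k) : ∃ W, ND Q W ∧ Inv x W ∧ Module.finrank F W = 2 * k ∧ ¬ Plus Q W := by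
  rw [Nat.odd_iff, Nat.even_iff] at hgood
  by_cases hpl : Planar Q x ⊤
  · obtain ⟨a, b, hab, hbp, hsub⟩ := planar_struct hx _ ⊤ rfl hQ (fun _ _ => trivial) hpl
    rw [finrank_top, hn] at hab
    have hb := Nat.odd_iff.1 (Nat.not_even_iff_odd.1 fun h => hV (hbp.2 h))
    obtain ⟨j, l, hj, hl, hjk, hje⟩ : ∃ j l, j ≤ b ∧ l ≤ a ∧ j + l = k ∧ j % 2 = 1 := by
      rcases Nat.lt_or_ge b k with h | h
      · exact ⟨b, k - b, le_rfl, by omega, by omega, hb⟩
      · exact ⟨k - (1 - k % 2), 1 - k % 2, by omega, by omega, by omega, by omega⟩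
    obtain ⟨W, -, hWn, hWi, hWd, hWp⟩ := hsub j hj l hl
    exact ⟨W, hWn, hWi, by omega, fun h => by have := Nat.even_iff.1 (hWp.1 h); omega⟩
  · rw [Planar, not_or] at hpl
    push Not at hpl
    obtain ⟨g, F₀, hF, hFn, hFx, hFe, hng, hFp, hB⟩ := alt_struct hx _ ⊤ rfl hQ (fun _ _ => trivial) hpl.1
    rw [finrank_top, hn] at hng
    have hF0 : 0 < Module.finrank F F₀ := Nat.pos_of_ne_zero fun e => hV (hFp.2 (by
      rw [Submodule.finrank_eq_zero.1 e]; exact plus_bot))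
    obtain ⟨j, hj, hj'⟩ : ∃ j, j ≤ g ∧ j = min g ((k - 1) / 2) := ⟨_, min_le_left _ _, rfl⟩
    obtain ⟨B, hBle, hBn, hBi, hBp, hBd, hBo⟩ := hB j hj
    obtain ⟨W, -, hWn, hWi, hWd, hWp⟩ := alt_member hF hBle hBn hBi hBp hBo hFn hFx
      (by rw [hBd]; exact Even.mul_right ⟨2, rfl⟩ j) (a := 2 * k - 4 * j) (Nat.even_iff.2 (by omega)) False (by
        rcases Nat.lt_or_ge (2 * k - 4 * j) (Module.finrank F F₀) with h' | h'
        · exact Or.inr (Or.inl ⟨by omega, h'⟩)
        · refine Or.inr (Or.inr ⟨?_, iff_of_false (fun h => hV (hFp.2 h)) not_false⟩)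
          have := Nat.even_iff.1 hFe
          omega)
    exact ⟨W, hWn, hWi, by omega, hWp.1⟩

end Cfsg.Lib.OrthEl
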