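import Cfsg.Agent.Classical.OrthElusive.Bridge

/-!
# The criteria for classes of nondegenerate subspaces and odd primes in cross characteristic
-/

set_option autoImplicit false
set_option linter.unusedSectionVars false

open QuadraticMap Submodule Cfsg.Lib.FormNormal
open Cfsg.Lib.Classical.PrimeOrd (Inv)

namespace Cfsg.Lib.OrthEl

universe u v

variable {F : Type u} [Field F] [Fintype F] {V : Type v} [AddCommGroup V] [Module F V] [FiniteDimensional F V]
  {Q : QuadraticForm F V} {p : ℕ} [Fact p.Prime] [CharP F p] {r : ℕ} [Fact r.Prime]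

/-- Arithmetic data: type of the space, type of the class. -/
theorem cond_iff_odd {i c m n : ℕ} (hev : ¬ Even i) {pV pW : Prop} :
    Cond i c m n pV pW ↔
      ((n % c = 0 ∧ (¬ pV ∨ (m % c = 0 ∧ pW))) ∨
        (0 < n % c ∧ ((m % c < n % c ∧ (0 < m % c ∨ pW)) ∨ (m % c = n % c ∧ Even m ∧ (pW ↔ pV))))) := by
  have h : ∀ j, Sgn i j ↔ True := fun j => iff_true_intro (Or.inl hev)
  simp only [Cond, h, iff_true]

theorem cond_iff_even {i m n : ℕ} (hev : Even i) {pV pW : Prop} :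
    Cond i i m n pV pW ↔
      ((n % i = 0 ∧ (¬ (pV ↔ Even (n / i)) ∨ (m % i = 0 ∧ (pW ↔ Even (m / i))))) ∨
        (0 < n % i ∧ ((m % i < n % i ∧ (0 < m % i ∨ (pW ↔ Even (m / i)))) ∨
          (m % i = n % i ∧ Even m ∧ (pW ↔ ((pV ↔ Even (n / i)) ↔ Even (m / i))))))) := by
  have h : ∀ j, Sgn i j ↔ Even j := fun j => ⟨fun e => e.resolve_left fun g => g hev, Or.inr⟩
  simp only [Cond, h]

theorem div_combine {i : ℕ} (hi : 0 < i) (m n : ℕ) (h : m % i = n % i) :
    (n + m - 2 * (n % i)) / i = n / i + m / i := by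
  have h1 := Nat.div_add_mod n i
  have h2 := Nat.div_add_mod m i
  rw [show n + m - 2 * (n % i) = i * (n / i + m / i) by rw [Nat.mul_add]; omega, Nat.mul_div_cancel_left _ hi]

theorem not_even_iff' {a : ℕ} : ¬ Even a ↔ Odd a := Nat.not_even_iff_odd

variable {i c m n : ℕ} (hr2 : r ≠ 2) (hrp : r ≠ p) (hQ : ND Q (⊤ : Submodule F V))
  (hi : i = orderOf (Fintype.card F : ZMod r)) (hc : c = if Even i then i else 2 * i) {W₀ : Submodule F V}
  (hW₀ : ND Q W₀) (hm : Module.finrank F W₀ = m) (hn : Module.finrank F V = n) (hm0 : 0 < m) (hmn : m < n)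
  (hdvd : r ∣ Nat.card {W : Submodule F V // Iso Q W₀ W})

/-- Every isometry of order dividing `r` fixes a member of the class. -/
def AllFix (Q : QuadraticForm F V) (r : ℕ) (W₀ : Submodule F V) : Prop :=
  ∀ x : Module.End F V, RIsom Q r x → ∃ W, Iso Q W₀ W ∧ Inv x W

include p hr2 hrp hQ hi hc hW₀ hm hn hm0 hmn hdvd in
theorem allFix_iff (hpar : Even m ∨ Even n) :
    AllFix Q r W₀ ↔ Cond i c m n (Plus Q (⊤ : Submodule F V)) (Plus Q W₀) ∧ c ≤ m := by
  obtain ⟨h1, h2⟩ := nondeg_criterion (p := p) hr2 hrp hQ hi hc hW₀ hm hn hm0 hmn hpar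
  exact ⟨fun h => ⟨h1.1 h, h2 h hdvd⟩, fun h => h1.2 h.1⟩

include p hr2 hrp hQ hi hc hW₀ hm hn hm0 hmn hdvd in
/-- Hyperbolic classes in plus type. -/
theorem plus_plus (hme : Even m) (hne : Even n) (hV : Plus Q (⊤ : Submodule F V)) (hW : Plus Q W₀) :
    AllFix Q r W₀ ↔
      ((Odd i ∧ c ≤ m ∧ m % c ≤ n % c) ∨ (Even i ∧
        ((n % c = 0 ∧ (Odd (n / i) ∨ (m % c = 0 ∧ Even (m / i)))) ∨
          (i ≤ m ∧ ((m % c < n % c ∧ 0 < m % c) ∨
            (n % c = m % c ∧ 0 < m % c ∧ Even ((n + m - 2 * (n % c)) / i)) ∨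
            (0 < n % c ∧ m % c = 0 ∧ Even (m / i))))))) := by
  rw [allFix_iff (p := p) hr2 hrp hQ hi hc hW₀ hm hn hm0 hmn hdvd (Or.inl hme)]
  obtain ⟨hce, hc0, hi0⟩ := c_facts (p := p) (F := F) hrp hi hc
  by_cases hev : Even i
  · have hci : c = i := by rw [hc, if_pos hev]
    subst hci
    rw [cond_iff_even hev]
    simp only [iff_true_intro hV, iff_true_intro hW, true_iff, hev, true_and, Nat.not_odd_iff_even.2 hev, false_and,
      false_or, not_even_iff']
    constructor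
    · rintro ⟨h | ⟨hk, ⟨hlt, h⟩ | ⟨heq, -, h⟩⟩, hle⟩
      · exact Or.inl h
      · refine Or.inr ⟨hle, ?_⟩
        rcases Nat.eq_zero_or_pos (m % c) with h0 | h0
        · exact Or.inr (Or.inr ⟨hk, h0, h.resolve_left (by omega)⟩)
        · exact Or.inl ⟨hlt, h0⟩
      · refine Or.inr ⟨hle, Or.inr (Or.inl ⟨heq.symm, by omega, ?_⟩)⟩
        rw [div_combine hi0 _ _ heq, Nat.even_add]
        exact h
    · rintro (⟨h0, h⟩ | ⟨hle, ⟨hlt, h0⟩ | ⟨heq, h0, h⟩ | ⟨hk, h0, h⟩⟩)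
      · refine ⟨Or.inl ⟨h0, h⟩, ?_⟩
        rcases h with h | ⟨hl, -⟩
        · exact ((allFix_iff (p := p) hr2 hrp hQ hi hc hW₀ hm hn hm0 hmn hdvd (Or.inl hme)).1
            ((nondeg_criterion (p := p) hr2 hrp hQ hi hc hW₀ hm hn hm0 hmn (Or.inl hme)).1.2
              ((cond_iff_even hev).2 (Or.inl ⟨h0, Or.inl fun e => Nat.not_even_iff_odd.2 h (e.1 hV)⟩)))).2
        · exact Nat.le_of_dvd hm0 (Nat.dvd_of_mod_eq_zero hl)
      · exact ⟨Or.inr ⟨by omega, Or.inl ⟨hlt, Or.inl h0⟩⟩, hle⟩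
      · refine ⟨Or.inr ⟨by omega, Or.inr ⟨heq.symm, hme, ?_⟩⟩, hle⟩
        rw [div_combine hi0 _ _ heq.symm, Nat.even_add] at h
        exact h
      · exact ⟨Or.inr ⟨hk, Or.inl ⟨by omega, Or.inr h⟩⟩, hle⟩
  · rw [cond_iff_odd hev]
    simp only [iff_true_intro hV, iff_true_intro hW, not_true_eq_false, false_or, or_true, and_true, iff_true, hev,
      false_and, or_false, Nat.not_even_iff_odd.1 hev, true_and]
    constructor
    · rintro ⟨h, hle⟩
      exact ⟨hle, by omega⟩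
    · rintro ⟨hle, h⟩
      refine ⟨?_, hle⟩
      simp only [hme, and_true]
      omega

include p hr2 hrp hQ hi hc hW₀ hm hn hm0 hmn hdvd in
/-- Elliptic classes in plus type. -/
theorem plus_minus (hme : Even m) (hne : Even n) (hV : Plus Q (⊤ : Submodule F V)) (hW : ¬ Plus Q W₀) :
    AllFix Q r W₀ ↔
      ((Odd i ∧ c ≤ m ∧ 0 < m % c ∧ m % c < n % c) ∨ (Even i ∧
        ((n % c = 0 ∧ (Odd (n / i) ∨ (m % c = 0 ∧ Odd (m / i)))) ∨
          (i ≤ m ∧ ((0 < m % c ∧ m % c < n % c) ∨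
            (0 < m % c ∧ m % c = n % c ∧ Odd ((n + m - 2 * (n % c)) / i)) ∨
            (m % c = 0 ∧ 0 < n % c ∧ Odd (m / i))))))) := by
  rw [allFix_iff (p := p) hr2 hrp hQ hi hc hW₀ hm hn hm0 hmn hdvd (Or.inl hme)]
  obtain ⟨hce, hc0, hi0⟩ := c_facts (p := p) (F := F) hrp hi hc
  by_cases hev : Even i
  · have hci : c = i := by rw [hc, if_pos hev]
    subst hci
    rw [cond_iff_even hev]
    simp only [iff_true_intro hV, iff_false_intro hW, true_iff, false_iff, hev, true_and, Nat.not_odd_iff_even.2 hev,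
      false_and, false_or, not_even_iff']
    constructor
    · rintro ⟨h | ⟨hk, ⟨hlt, h⟩ | ⟨heq, -, h⟩⟩, hle⟩
      · exact Or.inl h
      · refine Or.inr ⟨hle, ?_⟩
        rcases Nat.eq_zero_or_pos (m % c) with h0 | h0
        · exact Or.inr (Or.inr ⟨h0, hk, h.resolve_left (by omega)⟩)
        · exact Or.inl ⟨h0, hlt⟩
      · refine Or.inr ⟨hle, Or.inr (Or.inl ⟨by omega, heq, ?_⟩)⟩
        rw [div_combine hi0 _ _ heq, ← Nat.not_even_iff_odd, Nat.even_add]
        exact h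
    · rintro (⟨h0, h⟩ | ⟨hle, ⟨h0, hlt⟩ | ⟨h0, heq, h⟩ | ⟨h0, hk, h⟩⟩)
      · refine ⟨Or.inl ⟨h0, h⟩, ?_⟩
        rcases h with h | ⟨hl, -⟩
        · exact ((allFix_iff (p := p) hr2 hrp hQ hi hc hW₀ hm hn hm0 hmn hdvd (Or.inl hme)).1
            ((nondeg_criterion (p := p) hr2 hrp hQ hi hc hW₀ hm hn hm0 hmn (Or.inl hme)).1.2
              ((cond_iff_even hev).2 (Or.inl ⟨h0, Or.inl fun e => Nat.not_even_iff_odd.2 h (e.1 hV)⟩)))).2
        · exact Nat.le_of_dvd hm0 (Nat.dvd_of_mod_eq_zero hl)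
      · exact ⟨Or.inr ⟨by omega, Or.inl ⟨hlt, Or.inl h0⟩⟩, hle⟩
      · refine ⟨Or.inr ⟨by omega, Or.inr ⟨heq, hme, ?_⟩⟩, hle⟩
        rw [div_combine hi0 _ _ heq, ← Nat.not_even_iff_odd, Nat.even_add] at h
        exact h
      · exact ⟨Or.inr ⟨hk, Or.inl ⟨by omega, Or.inr h⟩⟩, hle⟩
  · rw [cond_iff_odd hev]
    simp only [iff_true_intro hV, iff_false_intro hW, not_true_eq_false, false_or, or_false, and_false, false_iff,
      hev, false_and, Nat.not_even_iff_odd.1 hev, true_and]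
    constructor
    · rintro ⟨h, hle⟩
      exact ⟨hle, by omega⟩
    · rintro ⟨hle, h⟩
      exact ⟨by omega, hle⟩

include p hr2 hrp hQ hi hc hW₀ hm hn hm0 hmn hdvd in
/-- Odd-dimensional classes in plus type. -/
theorem plus_odd (hmo : Odd m) (hne : Even n) (hV : Plus Q (⊤ : Submodule F V)) :
    AllFix Q r W₀ ↔
      ((Odd i ∧ c ≤ m ∧ 0 < m % c ∧ m % c < n % c) ∨
        (Even i ∧ ((n % c = 0 ∧ Odd (n / i)) ∨ (i ≤ m ∧ 0 < m % c ∧ m % c < n % c)))) := by
  rw [allFix_iff (p := p) hr2 hrp hQ hi hc hW₀ hm hn hm0 hmn hdvd (Or.inr hne)]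
  obtain ⟨hce, hc0, hi0⟩ := c_facts (p := p) (F := F) hrp hi hc
  have hl : 0 < m % c := by
    refine Nat.pos_of_ne_zero fun e => Nat.not_even_iff_odd.2 hmo ?_
    obtain ⟨t, rfl⟩ := Nat.dvd_of_mod_eq_zero e
    exact hce.mul_right t
  have hme : ¬ Even m := Nat.not_even_iff_odd.2 hmo
  by_cases hev : Even i
  · have hci : c = i := by rw [hc, if_pos hev]
    subst hci
    rw [cond_iff_even hev]
    simp only [iff_true_intro hV, true_iff, hev, true_and, Nat.not_odd_iff_even.2 hev, false_and, false_or, hme,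
      and_false, or_false, hl, true_or, and_true, not_even_iff']
    constructor
    · rintro ⟨⟨h0, h | ⟨h, -⟩⟩ | ⟨hk, h⟩, hle⟩
      · exact Or.inl ⟨h0, h⟩
      · omega
      · exact Or.inr ⟨hle, h⟩
    · rintro (⟨h0, h⟩ | ⟨hle, h⟩)
      · exact ⟨Or.inl ⟨h0, Or.inl h⟩, ((allFix_iff (p := p) hr2 hrp hQ hi hc hW₀ hm hn hm0 hmn hdvd (Or.inr hne)).1
            ((nondeg_criterion (p := p) hr2 hrp hQ hi hc hW₀ hm hn hm0 hmn (Or.inr hne)).1.2
              ((cond_iff_even hev).2 (Or.inl ⟨h0, Or.inl fun e => Nat.not_even_iff_odd.2 h (e.1 hV)⟩)))).2⟩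
      · exact ⟨Or.inr ⟨by omega, h⟩, hle⟩
  · rw [cond_iff_odd hev]
    simp only [iff_true_intro hV, not_true_eq_false, false_or, hme, false_and, and_false, or_false, hl, true_or,
      and_true, hev, Nat.not_even_iff_odd.1 hev, true_and]
    constructor
    · rintro ⟨h, hle⟩
      exact ⟨hle, by omega⟩
    · rintro ⟨hle, h⟩
      exact ⟨by omega, hle⟩

include p hr2 hrp hQ hi hc hW₀ hm hn hm0 hmn hdvd in
/-- Elliptic classes in minus type. -/
theorem minus_minus (hme : Even m) (hne : Even n) (hV : ¬ Plus Q (⊤ : Submodule F V)) (hW : ¬ Plus Q W₀) :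
    AllFix Q r W₀ ↔
      ((Odd i ∧ (n % c = 0 ∨ (c ≤ m ∧ 0 < m % c ∧ m % c ≤ n % c))) ∨ (Even i ∧
        ((n % c = 0 ∧ (Even (n / i) ∨ (m % c = 0 ∧ Odd (m / i)))) ∨
          (0 < n % c ∧ i ≤ m ∧ ((0 < m % c ∧ m % c < n % c) ∨ (m % c = 0 ∧ Odd (m / i)) ∨
            (m % c = n % c ∧ Even ((n + m - 2 * (n % c)) / i))))))) := by
  rw [allFix_iff (p := p) hr2 hrp hQ hi hc hW₀ hm hn hm0 hmn hdvd (Or.inl hme)]
  obtain ⟨hce, hc0, hi0⟩ := c_facts (p := p) (F := F) hrp hi hc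
  have hwrong : Cond i c m n (Plus Q (⊤ : Submodule F V)) (Plus Q W₀) → c ≤ m := fun hC =>
    ((allFix_iff (p := p) hr2 hrp hQ hi hc hW₀ hm hn hm0 hmn hdvd (Or.inl hme)).1
      ((nondeg_criterion (p := p) hr2 hrp hQ hi hc hW₀ hm hn hm0 hmn (Or.inl hme)).1.2 hC)).2
  rw [and_iff_left_of_imp hwrong]
  by_cases hev : Even i
  · have hci : c = i := by rw [hc, if_pos hev]
    subst hci
    rw [cond_iff_even hev] at hwrong ⊢
    simp only [iff_false_intro hV, iff_false_intro hW, false_iff, not_not, Nat.not_odd_iff_even, hev, true_and, Nat.not_odd_iff_even.2 hev,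
      false_and, false_or, not_even_iff'] at hwrong ⊢
    constructor
    · intro hC
      have hle := hwrong hC
      rcases hC with h | ⟨hk, ⟨hlt, h⟩ | ⟨heq, -, h⟩⟩
      · exact Or.inl h
      · refine Or.inr ⟨hk, hle, ?_⟩
        rcases Nat.eq_zero_or_pos (m % c) with h0 | h0
        · exact Or.inr (Or.inl ⟨h0, h.resolve_left (by omega)⟩)
        · exact Or.inl ⟨h0, hlt⟩
      · refine Or.inr ⟨hk, hle, Or.inr (Or.inr ⟨heq, ?_⟩)⟩
        rw [div_combine hi0 _ _ heq, Nat.even_add]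
        rw [← Nat.not_even_iff_odd] at h
        tauto
    · rintro (h | ⟨hk, hle, ⟨h0, hlt⟩ | ⟨h0, h⟩ | ⟨heq, h⟩⟩)
      · exact Or.inl h
      · exact Or.inr ⟨hk, Or.inl ⟨hlt, Or.inl h0⟩⟩
      · exact Or.inr ⟨hk, Or.inl ⟨by omega, Or.inr h⟩⟩
      · refine Or.inr ⟨hk, Or.inr ⟨heq, hme, ?_⟩⟩
        rw [div_combine hi0 _ _ heq, Nat.even_add] at h
        rw [← Nat.not_even_iff_odd]
        tauto
  · rw [cond_iff_odd hev] at hwrong ⊢
    simp only [iff_false_intro hV, iff_false_intro hW, not_false_eq_true, true_or, and_true, or_false, hev, false_and,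
      Nat.not_even_iff_odd.1 hev, true_and] at hwrong ⊢
    constructor
    · intro hC
      have hle := hwrong hC
      omega
    · rintro (h | ⟨hle, h⟩)
      · exact Or.inl h
      · rcases Nat.eq_zero_or_pos (n % c) with h1 | h1
        · exact Or.inl h1
        · refine Or.inr ⟨h1, ?_⟩
          simp only [hme, and_true]
          omega

include p hr2 hrp hQ hi hc hW₀ hm hn hm0 hmn hdvd in
/-- Odd-dimensional classes in minus type. -/
theorem minus_odd (hmo : Odd m) (hne : Even n) (hV : ¬ Plus Q (⊤ : Submodule F V)) :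
    AllFix Q r W₀ ↔
      ((Odd i ∧ (n % c = 0 ∨ (c ≤ m ∧ 0 < m % c ∧ m % c < n % c))) ∨
        (Even i ∧ ((n % c = 0 ∧ Even (n / i)) ∨ (0 < n % c ∧ i ≤ m ∧ 0 < m % c ∧ m % c < n % c)))) := by
  rw [allFix_iff (p := p) hr2 hrp hQ hi hc hW₀ hm hn hm0 hmn hdvd (Or.inr hne)]
  obtain ⟨hce, hc0, hi0⟩ := c_facts (p := p) (F := F) hrp hi hc
  have hwrong : Cond i c m n (Plus Q (⊤ : Submodule F V)) (Plus Q W₀) → c ≤ m := fun hC =>
    ((allFix_iff (p := p) hr2 hrp hQ hi hc hW₀ hm hn hm0 hmn hdvd (Or.inr hne)).1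
      ((nondeg_criterion (p := p) hr2 hrp hQ hi hc hW₀ hm hn hm0 hmn (Or.inr hne)).1.2 hC)).2
  rw [and_iff_left_of_imp hwrong]
  have hl : 0 < m % c := by
    refine Nat.pos_of_ne_zero fun e => Nat.not_even_iff_odd.2 hmo ?_
    obtain ⟨t, rfl⟩ := Nat.dvd_of_mod_eq_zero e
    exact hce.mul_right t
  have hl0 : m % c ≠ 0 := by omega
  have hme : ¬ Even m := Nat.not_even_iff_odd.2 hmo
  by_cases hev : Even i
  · have hci : c = i := by rw [hc, if_pos hev]
    subst hci
    rw [cond_iff_even hev] at hwrong ⊢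
    simp only [iff_false_intro hV, false_iff, not_not, Nat.not_odd_iff_even, hev, true_and, Nat.not_odd_iff_even.2 hev, false_and, false_or,
      hme, and_false, or_false, hl, hl0, true_or, and_true, not_even_iff'] at hwrong ⊢
    exact ⟨fun hC => hC.imp_right fun h => ⟨h.1, hwrong hC, h.2⟩, fun h => h.imp_right fun h => ⟨h.1, h.2.2⟩⟩
  · rw [cond_iff_odd hev] at hwrong ⊢
    simp only [iff_false_intro hV, not_false_eq_true, true_or, and_true, hme, false_and, and_false, or_false, hl, hev,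
      Nat.not_even_iff_odd.1 hev, true_and] at hwrong ⊢
    constructor
    · intro hC
      have hle := hwrong hC
      omega
    · omega

include p hr2 hrp hQ hi hc hW₀ hm hn hm0 hmn hdvd in
/-- Hyperbolic classes in odd dimension. -/
theorem odd_plus (hme : Even m) (hno : Odd n) (hW : Plus Q W₀) :
    AllFix Q r W₀ ↔
      ((Odd i ∧ c ≤ m ∧ (m % c = 0 ∨ (0 < m % c ∧ m % c < n % c))) ∨
        (Even i ∧ i ≤ m ∧ m % c < n % c ∧ (0 < m % c ∨ Even (m / i)))) := by
  rw [allFix_iff (p := p) hr2 hrp hQ hi hc hW₀ hm hn hm0 hmn hdvd (Or.inl hme)]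
  obtain ⟨hce, hc0, hi0⟩ := c_facts (p := p) (F := F) hrp hi hc
  have hk : 0 < n % c := by
    refine Nat.pos_of_ne_zero fun e => Nat.not_even_iff_odd.2 hno ?_
    obtain ⟨t, rfl⟩ := Nat.dvd_of_mod_eq_zero e
    exact hce.mul_right t
  have hk0 : n % c ≠ 0 := by omega
  have hne : m % c ≠ n % c := fun e => by
    have h1 := Nat.div_add_mod m c
    have h2 := Nat.div_add_mod n c
    have h3 := Nat.even_iff.1 (hce.mul_right (m / c))
    have h4 := Nat.even_iff.1 (hce.mul_right (n / c))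
    have := Nat.even_iff.1 hme
    have := Nat.odd_iff.1 hno
    omega
  by_cases hev : Even i
  · have hci : c = i := by rw [hc, if_pos hev]
    subst hci
    rw [cond_iff_even hev]
    simp only [iff_true_intro hW, true_iff, hev, true_and, Nat.not_odd_iff_even.2 hev, false_and, false_or, hk, hk0,
      hne, or_false]
    tauto
  · rw [cond_iff_odd hev]
    simp only [iff_true_intro hW, or_true, and_true, hev, false_and, or_false, Nat.not_even_iff_odd.1 hev, true_and,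
      hk, hk0, hne, false_or]
    constructor
    · rintro ⟨h, hle⟩
      exact ⟨hle, by omega⟩
    · rintro ⟨hle, h⟩
      exact ⟨by omega, hle⟩

include p hr2 hrp hQ hi hc hW₀ hm hn hm0 hmn hdvd in
/-- Elliptic classes in odd dimension. -/
theorem odd_minus (hme : Even m) (hno : Odd n) (hW : ¬ Plus Q W₀) :
    AllFix Q r W₀ ↔
      ((Odd i ∧ c ≤ m ∧ 0 < m % c ∧ m % c < n % c) ∨
        (Even i ∧ i ≤ m ∧ m % c < n % c ∧ (0 < m % c ∨ Odd (m / i)))) := by
  rw [allFix_iff (p := p) hr2 hrp hQ hi hc hW₀ hm hn hm0 hmn hdvd (Or.inl hme)]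
  obtain ⟨hce, hc0, hi0⟩ := c_facts (p := p) (F := F) hrp hi hc
  have hk : 0 < n % c := by
    refine Nat.pos_of_ne_zero fun e => Nat.not_even_iff_odd.2 hno ?_
    obtain ⟨t, rfl⟩ := Nat.dvd_of_mod_eq_zero e
    exact hce.mul_right t
  have hk0 : n % c ≠ 0 := by omega
  have hne : m % c ≠ n % c := fun e => by
    have h1 := Nat.div_add_mod m c
    have h2 := Nat.div_add_mod n c
    have h3 := Nat.even_iff.1 (hce.mul_right (m / c))
    have h4 := Nat.even_iff.1 (hce.mul_right (n / c))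
    have := Nat.even_iff.1 hme
    have := Nat.odd_iff.1 hno
    omega
  by_cases hev : Even i
  · have hci : c = i := by rw [hc, if_pos hev]
    subst hci
    rw [cond_iff_even hev]
    simp only [iff_false_intro hW, false_iff, hev, true_and, Nat.not_odd_iff_even.2 hev, false_and, false_or, hk, hk0,
      hne, or_false, not_even_iff']
    tauto
  · rw [cond_iff_odd hev]
    simp only [iff_false_intro hW, or_false, hev, false_and, Nat.not_even_iff_odd.1 hev, true_and, hk, hk0, hne,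
      false_or]
    constructor
    · rintro ⟨h, hle⟩
      exact ⟨hle, by omega⟩
    · rintro ⟨hle, h⟩
      exact ⟨by omega, hle⟩

end Cfsg.Lib.OrthEl
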