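import Cfsg.Agent.Classical.OrthElusive.Atom

/-!
# Totally singular invariant subspaces
-/

set_option autoImplicit false
set_option linter.unusedSectionVars false

open QuadraticMap Submodule Cfsg.Lib.FormNormal Polynomial
open Cfsg.Lib.Classical.PrimeOrd (Inv fix mov mem_fix res exists_minimal)
open Cfsg.Lib.PrimeOrderPoly (factorSet card_factorSet)

namespace Cfsg.Lib.OrthEl

universe u v

variable {F : Type u} [Field F] [Fintype F] {V : Type v} [AddCommGroup V] [Module F V] [FiniteDimensional F V]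
  {Q : QuadraticForm F V} {r : ℕ} {x : Module.End F V} {p : ℕ} [Fact p.Prime] [CharP F p] [Fact r.Prime]

include p in
/-- A totally singular invariant subspace in two pieces of the same class. -/
theorem exists_ts_pair (hx : RIsom Q r x) (hrp : r ≠ p) (hev : Even (orderOf (Fintype.card F : ZMod r)))
    {g : F[X]} (hg : g ∈ factorSet F r) {A B : Submodule F V} (hA : Fpf Q x A) (hB : Fpf Q x B) (hor : Orth Q A B)
    (hAg : ∀ a ∈ A, aeval x g a = 0) (hBg : ∀ b ∈ B, aeval x g b = 0)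
    (hAd : Module.finrank F A = orderOf (Fintype.card F : ZMod r))
    (hBd : Module.finrank F B = orderOf (Fintype.card F : ZMod r)) :
    ∃ U ≤ A ⊔ B, Inv x U ∧ TS Q U ∧ Module.finrank F U = orderOf (Fintype.card F : ZMod r) := by
  classical
  obtain ⟨hgi, hgd, -, -⟩ := factor_facts' (p := p) hrp hg
  haveI := Fact.mk hgi
  have hqr := Cfsg.Lib.Classical.PrimeOrd.not_dvd_card (F := F) (p := p) (Fact.out : r.Prime) hrp
  have hpos := Cfsg.Lib.Classical.PrimeOrd.ord_pos hqr
  set i := orderOf (Fintype.card F : ZMod r) with hi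
  set h := i / 2 with hh
  have hhalf : r ∣ Fintype.card F ^ h + 1 := half_dvd hqr hev
  obtain ⟨h', hh'⟩ := hev
  have h2h : i = h + h := by omega
  haveI := (AdjoinRoot.powerBasis hgi.ne_zero).finite
  have hK : Module.finrank F (AdjoinRoot g) = i := by
    rw [(AdjoinRoot.powerBasis hgi.ne_zero).finrank, AdjoinRoot.powerBasis_dim, hgd]
  set σ := frob g h
  haveI : Finite (AdjoinRoot g) := Module.finite_of_finite F
  haveI := Fintype.ofFinite (AdjoinRoot g)
  have hσσ : ∀ z, σ (σ z) = z := fun z => by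
    rw [frob_apply, frob_apply, ← pow_mul, ← pow_add, ← h2h, ← hK, ← Module.card_eq_pow_finrank, FiniteField.pow_card]
  -- both pieces inside one invariant subspace
  have hWi : Inv x (A ⊔ B) := hA.inv.sup hB.inv
  have hWg : ∀ w ∈ A ⊔ B, aeval x g w = 0 := fun w hw => by
    obtain ⟨a, ha, b, hb, rfl⟩ := mem_sup.1 hw
    rw [map_add, hAg a ha, hBg b hb, add_zero]
  let ρ := act g hWi hWg
  have hadj : ∀ (k : AdjoinRoot g) (u w : ↥(A ⊔ B)), polar (⇑Q) (ρ k u : V) w = polar (⇑Q) (u : V) (ρ (σ k) w : V) :=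
    adjoint_act (p := p) hx hrp hg hWi hWg hhalf
  obtain ⟨a, ha, ha0⟩ := A.exists_mem_ne_zero_of_ne_bot (fun e => by rw [e, finrank_bot] at hAd; omega)
  obtain ⟨b, hb, hb0⟩ := B.exists_mem_ne_zero_of_ne_bot (fun e => by rw [e, finrank_bot] at hBd; omega)
  let u₁ : ↥(A ⊔ B) := ⟨a, mem_sup_left ha⟩
  let u₂ : ↥(A ⊔ B) := ⟨b, mem_sup_right hb⟩
  have hu₁ : u₁ ≠ 0 := fun e => ha0 (congrArg Subtype.val e)
  have hu₂ : u₂ ≠ 0 := fun e => hb0 (congrArg Subtype.val e)
  have hspanA : cyc g hWi hWg u₁ = A := Submodule.eq_of_le_of_finrank_eq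
    (by rintro _ ⟨k, rfl⟩; exact act_inv_mem hWi hWg hA.inv k (w := u₁) ha)
    ((finrank_cyc hWi hWg hu₁).trans (hgd.trans hAd.symm))
  have hspanB : cyc g hWi hWg u₂ = B := Submodule.eq_of_le_of_finrank_eq
    (by rintro _ ⟨k, rfl⟩; exact act_inv_mem hWi hWg hB.inv k (w := u₂) hb)
    ((finrank_cyc hWi hWg hu₂).trans (hgd.trans hBd.symm))
  let lam (u : ↥(A ⊔ B)) : AdjoinRoot g →ₗ[F] F :=
    (polarBilin Q (u : V)).comp ((A ⊔ B).subtype ∘ₗ (LinearMap.applyₗ u) ∘ₗ ρ.toLinearMap)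
  have hlam : ∀ u k, lam u k = polar (⇑Q) (u : V) (ρ k u : V) := fun u k => rfl
  have hlamσ : ∀ u k, lam u (σ k) = lam u k := fun u k => by
    rw [hlam, hlam, ← hadj, QuadraticMap.polar_comm]
  have hne1 : lam u₁ ≠ 0 := fun e => ha0 (hA.nd a ha fun y hy => by
    rw [← hspanA] at hy
    obtain ⟨k, rfl⟩ := hy
    exact (hlam u₁ k).symm.trans (by rw [e]; rfl))
  have hne2 : lam u₂ ≠ 0 := fun e => hb0 (hB.nd b hb fun y hy => by
    rw [← hspanB] at hy
    obtain ⟨k, rfl⟩ := hy
    exact (hlam u₂ k).symm.trans (by rw [e]; rfl))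
  -- functionals fixed by the conjugation
  let D : AdjoinRoot g →ₗ[F] AdjoinRoot g := σ.toLinearMap - LinearMap.id
  let K₀ := LinearMap.ker D
  have hK₀ : ∀ c, c ∈ K₀ ↔ σ c = c := fun c => by simp [K₀, D, sub_eq_zero]
  let Λ := (LinearMap.range D).dualAnnihilator
  have hΛ : ∀ u, lam u ∈ Λ := fun u => by
    rw [Submodule.mem_dualAnnihilator]
    rintro _ ⟨k, rfl⟩
    simp [D, map_sub, hlamσ]
  let Φ : K₀ →ₗ[F] Λ :=
    { toFun := fun c => ⟨(lam u₂).comp (LinearMap.mulLeft F (c : AdjoinRoot g)), by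
        rw [Submodule.mem_dualAnnihilator]
        rintro _ ⟨k, rfl⟩
        show lam u₂ ((c : AdjoinRoot g) * (σ k - k)) = 0
        rw [mul_sub, map_sub, sub_eq_zero]
        conv_lhs => rw [← (hK₀ c.1).1 c.2, ← map_mul σ, hlamσ]⟩
      map_add' := fun c c' => by
        ext k
        show lam u₂ (((c : AdjoinRoot g) + c') * k) = lam u₂ ((c : AdjoinRoot g) * k) + lam u₂ ((c' : AdjoinRoot g) * k)
        rw [add_mul, map_add]
      map_smul' := fun t c => by
        ext k
        show lam u₂ ((t • (c : AdjoinRoot g)) * k) = t • lam u₂ ((c : AdjoinRoot g) * k)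
        rw [smul_mul_assoc, map_smul] }
  have hΦi : Function.Injective Φ := by
    rw [injective_iff_map_eq_zero]
    intro c hc
    by_contra hc0
    refine hne2 (LinearMap.ext fun k => ?_)
    have := LinearMap.congr_fun (congrArg Subtype.val hc) ((c : AdjoinRoot g)⁻¹ * k)
    simp only [Φ, LinearMap.coe_mk, AddHom.coe_mk, LinearMap.comp_apply, LinearMap.mulLeft_apply] at this
    rw [← mul_assoc, mul_inv_cancel₀ (fun e => hc0 (Subtype.ext e)), one_mul] at this
    exact this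
  have hΛd : Module.finrank F Λ = Module.finrank F K₀ := by
    have h1 := Subspace.finrank_add_finrank_dualAnnihilator_eq (LinearMap.range D)
    have h2 := LinearMap.finrank_range_add_finrank_ker D
    simp only [Λ, K₀]
    omega
  have hΦs : Function.Surjective Φ := by
    rw [← LinearMap.range_eq_top]
    haveI : FiniteDimensional F Λ := inferInstance
    exact Submodule.eq_top_of_finrank_eq (K := F) (V := ↥Λ) (by rw [LinearMap.finrank_range_of_inj hΦi, hΛd])
  obtain ⟨c, hc⟩ := hΦs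
    ⟨-lam u₁, neg_mem (hΛ u₁)⟩
  have hc' : ∀ k, lam u₂ ((c : AdjoinRoot g) * k) = -lam u₁ k := fun k =>
    LinearMap.congr_fun (congrArg Subtype.val hc) k
  have hc0 : (c : AdjoinRoot g) ≠ 0 := fun e => hne1 (LinearMap.ext fun k => by
    have := hc' k
    rw [e, zero_mul, map_zero] at this
    simpa using this.symm)
  obtain ⟨t, ht⟩ : ∃ t : AdjoinRoot g, σ t * t = c := by
    set R := Fintype.card F ^ h with hR
    have hR1 : 1 < R := Nat.one_lt_pow (by omega) Fintype.one_lt_card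
    obtain ⟨γ, hγ⟩ := IsCyclic.exists_generator (α := (AdjoinRoot g)ˣ)
    obtain ⟨n, hn : γ ^ n = Units.mk0 _ hc0⟩ := mem_powers_iff_mem_zpowers.mpr (hγ (Units.mk0 _ hc0))
    have hord : orderOf γ = (R - 1) * (R + 1) := by
      rw [orderOf_eq_card_of_forall_mem_zpowers hγ, Nat.card_eq_fintype_card, Fintype.card_units,
        Module.card_eq_pow_finrank (K := F), hK, h2h, pow_add, ← hR]
      obtain ⟨S, hS⟩ : ∃ S, R = S + 1 := ⟨R - 1, by omega⟩
      rw [hS, Nat.add_sub_cancel]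
      refine Nat.sub_eq_of_eq_add ?_
      ring
    have hfix : γ ^ (n * R) = γ ^ n := Units.ext (by
      rw [pow_mul, hn, Units.val_pow_eq_pow_val, Units.val_mk0, ← frob_apply]
      exact (hK₀ c.1).1 c.2)
    have hmod := (IsOfFinOrder.pow_eq_pow_iff_modEq (isOfFinOrder_of_finite γ)).1 hfix
    rw [hord] at hmod
    obtain ⟨s, hs⟩ := (Nat.modEq_iff_dvd' (Nat.le_mul_of_pos_right n (by omega))).1 hmod.symm
    have hdiv : R + 1 ∣ n := by
      refine ⟨s, Nat.eq_of_mul_eq_mul_left (show 0 < R - 1 by omega) ?_⟩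
      have : n * R - n = n * (R - 1) := by rw [Nat.mul_sub, mul_one]
      rw [← mul_assoc, ← hs, this, mul_comm]
    obtain ⟨w, rfl⟩ := hdiv
    refine ⟨((γ ^ w : (AdjoinRoot g)ˣ) : AdjoinRoot g), ?_⟩
    rw [frob_apply, ← pow_succ, ← hR, ← Units.val_pow_eq_pow_val, ← pow_mul, mul_comm, hn]
    rfl
  -- the singular line
  let v : ↥(A ⊔ B) := u₁ + ρ t u₂
  have hρmul : ∀ k l (w : ↥(A ⊔ B)), ρ k (ρ l w) = ρ (k * l) w := fun k l w => by
    rw [map_mul, Module.End.mul_apply]
  have hmemA : ∀ k, (ρ k u₁ : V) ∈ A := fun k => act_inv_mem hWi hWg hA.inv k (w := u₁) ha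
  have hmemB : ∀ k, (ρ k u₂ : V) ∈ B := fun k => act_inv_mem hWi hWg hB.inv k (w := u₂) hb
  have hv : ∀ k, polar (⇑Q) (v : V) (ρ k v : V) = 0 := fun k => by
    have e1 : (v : V) = a + (ρ t u₂ : V) := rfl
    have e2 : (ρ k v : V) = (ρ k u₁ : V) + (ρ (k * t) u₂ : V) := by
      show ((ρ k (u₁ + ρ t u₂) : ↥(A ⊔ B)) : V) = _
      rw [map_add, hρmul, Submodule.coe_add]
    rw [e1, e2, QuadraticMap.polar_add_left, QuadraticMap.polar_add_right, QuadraticMap.polar_add_right,
      hor a ha _ (hmemB _), hor.symm _ (hmemB t) _ (hmemA k), hadj, hρmul, add_zero, zero_add,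
      show σ t * (k * t) = (c : AdjoinRoot g) * k by rw [← ht]; ring]
    show lam u₁ k + lam u₂ _ = 0
    rw [hc', add_neg_cancel]
  have hv0 : v ≠ 0 := fun e => by
    have e1 : (u₁ : V) = -(ρ t u₂ : V) := eq_neg_of_add_eq_zero_left (congrArg Subtype.val e)
    have e2 : a ∈ A ⊓ B := ⟨ha, by show a ∈ B; rw [show a = -(ρ t u₂ : V) from e1]; exact B.neg_mem (hmemB t)⟩
    rw [nd_disjoint hA.nd hor, Submodule.mem_bot] at e2
    exact ha0 e2
  have hW : Fpf Q x (A ⊔ B) := ⟨nd_sup hA.nd hB.nd hor, hWi, eq_bot_iff.2 fun w hw => by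
    obtain ⟨a', ha', b', hb', rfl⟩ := mem_sup.1 hw.1
    have hf := mem_fix.1 hw.2
    rw [map_add] at hf
    have h1 : x a' - a' ∈ A ⊓ B := ⟨A.sub_mem (hA.inv a' ha') ha', by
      rw [show x a' - a' = b' - x b' by rw [sub_eq_sub_iff_add_eq_add, hf, add_comm]]
      exact B.sub_mem hb' (hB.inv b' hb')⟩
    rw [nd_disjoint hA.nd hor, Submodule.mem_bot, sub_eq_zero] at h1
    rw [h1] at hf
    have ha'' : a' = 0 := (Submodule.mem_bot F).1 (hA.free ▸ ⟨ha', mem_fix.2 h1⟩)
    have hb'' : b' = 0 := (Submodule.mem_bot F).1 (hB.free ▸ ⟨hb', mem_fix.2 (add_left_cancel hf)⟩)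
    simp [ha'', hb'']⟩
  refine ⟨cyc g hWi hWg v, cyc_le _ _ _, inv_cyc _ _ _, ts_of_polar_zero hx (inv_cyc _ _ _)
    (eq_bot_iff.2 ((inf_le_inf_right _ (cyc_le _ _ v)).trans hW.free.le))
    (fun T hT hTi hT0 => cyc_minimal hWi hWg hv0 hTi hT hT0) ?_, (finrank_cyc hWi hWg hv0).trans hgd⟩
  rintro _ ⟨k, rfl⟩ _ ⟨l, rfl⟩
  show polar (⇑Q) (ρ k v : V) (ρ l v : V) = 0
  rw [hadj, hρmul]
  exact hv _

include p in
/-- Totally singular invariant subspaces of a fixed-point-free space. -/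
theorem exists_ts_inv (hx : RIsom Q r x) (hr2 : r ≠ 2) (hrp : r ≠ p) {i c : ℕ}
    (hi : i = orderOf (Fintype.card F : ZMod r)) (hc : c = if Even i then i else 2 * i) {E : Submodule F V}
    (hE : Fpf Q x E) {j : ℕ} (hj : Module.finrank F E = c * j) {l : ℕ}
    (hl : (¬ Even i ∧ l ≤ j) ∨ (Even i ∧ (l = 0 ∨ 2 * l + (r - 1) / i ≤ j + 1) ∧ 2 * l ≤ j)) :
    ∃ U ≤ E, Inv x U ∧ TS Q U ∧ Module.finrank F U = i * l := by
  classical
  induction l generalizing E j with
  | zero =>
    exact ⟨⊥, bot_le, fun w hw => by rw [(Submodule.mem_bot F).1 hw, map_zero]; exact Submodule.zero_mem _,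
      fun w hw => by rw [(Submodule.mem_bot F).1 hw, QuadraticMap.map_zero], by simp⟩
  | succ l ih =>
    subst hi
    have hpos := Cfsg.Lib.Classical.PrimeOrd.ord_pos (F := F) (r := r)
      (Cfsg.Lib.Classical.PrimeOrd.not_dvd_card (p := p) Fact.out hrp)
    set i := orderOf (Fintype.card F : ZMod r) with hi
    have hc0 : 0 < c := by rw [hc]; split_ifs <;> omega
    -- one totally singular piece of dimension `i` inside a nondegenerate `Z`
    obtain ⟨Z, U, k, hZE, hZ, hk, hUZ, hU, hUts, hUd, hrest⟩ : ∃ (Z U : Submodule F V) (k : ℕ), Z ≤ E ∧ Fpf Q x Z ∧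
        Module.finrank F Z = c * k ∧ U ≤ Z ∧ Inv x U ∧ TS Q U ∧ Module.finrank F U = i ∧
        ((¬ Even i ∧ l ≤ j - k) ∨ (Even i ∧ (l = 0 ∨ 2 * l + (r - 1) / i ≤ j - k + 1) ∧ 2 * l ≤ j - k)) := by
      by_cases hev : Even i
      · obtain ⟨hlj, hlj'⟩ := (hl.resolve_left fun h => h.1 hev).2
        have hci : c = i := by rw [hc, if_pos hev]
        have hcard : (factorSet F r).card = (r - 1) / i := by
          rw [← card_factorSet (F := F) (p := p) (r := r) hrp, ← hi, Nat.mul_div_cancel _ hpos]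
        -- a class occurring twice
        obtain ⟨g, hg, hgd⟩ : ∃ g ∈ factorSet F r, i < Module.finrank F (E ⊓ LinearMap.ker (aeval x g) : Submodule F V) := by
          by_contra hh
          push Not at hh
          have h1 := finrank_le_sum hE.inv (factorSet F r) fun w hw => by
            rw [prod_factorSet (p := p) hrp]
            exact mov_killed hx (hE.mov_le hx (r_cast_ne (p := p) hrp) hw)
          have h2 := h1.trans (Finset.sum_le_card_nsmul _ _ i hh)
          rw [hj, smul_eq_mul, hcard, hci, mul_comm _ i] at h2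
          have h3 := Nat.le_of_mul_le_mul_left h2 hpos
          omega
        have hEg := nd_part (p := p) hx hrp hev hE hg
        set Eg := E ⊓ LinearMap.ker (aeval x g)
        obtain ⟨j', hj', -⟩ := fpf_dim (p := p) hx hr2 hrp hEg rfl hc
        obtain ⟨A, hA, hAf, hAd, -, -⟩ := exists_atom (p := p) hx hr2 hrp hEg (fun e => by
          rw [show Eg = ⊥ from e, finrank_bot] at hgd; omega)
        rw [if_pos hev, ← hi] at hAd
        obtain ⟨-, hBn⟩ := sup_perp hEg.nd hA hAf.nd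
        have hBf : Fpf Q x (perp Q Eg A) := hEg.mono (perp_le Eg A) hBn (hx.inv_perp r_pos hEg.inv hAf.inv)
        have hd := finrank_perp hEg.nd hA
        obtain ⟨B, hB, hBf', hBd, -, -⟩ := exists_atom (p := p) hx hr2 hrp hBf (fun e => by
          rw [e, finrank_bot] at hd; omega)
        rw [if_pos hev, ← hi] at hBd
        have hor : Orth Q A B := (orth_perp Eg A).mono le_rfl hB
        obtain ⟨U, hU, hUi, hUts, hUd⟩ := exists_ts_pair (p := p) hx hrp hev hg hAf hBf' hor
          (fun a ha => (hA ha).2) (fun b hb => (perp_le Eg A (hB hb)).2) hAd hBd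
        have hle : A ⊔ B ≤ E := sup_le (hA.trans inf_le_left) ((hB.trans (perp_le Eg A)).trans inf_le_left)
        refine ⟨A ⊔ B, U, 2, hle, hE.mono hle (nd_sup hAf.nd hBf'.nd hor) (hAf.inv.sup hBf'.inv), ?_, hU, hUi, hUts,
          hUd, Or.inr ⟨hev, by omega, by omega⟩⟩
        rw [finrank_sup_orth hAf.nd hor, hAd, hBd, hci, mul_two]
      · obtain ⟨-, hlj⟩ := hl.resolve_right fun h => hev h.1
        obtain ⟨A, hA, hAf, hAd, hAp, hA0⟩ := exists_atom (p := p) hx hr2 hrp hE (fun e => by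
          rw [e, finrank_bot] at hj
          have := Nat.mul_pos hc0 (show 0 < j by omega)
          omega)
        rw [if_neg hev, ← hi] at hAd
        obtain ⟨U, hUA, hUi, hU0, hmin⟩ := exists_minimal hAf.inv hA0
        have hfr : U ⊓ fix x = ⊥ := eq_bot_iff.2 ((inf_le_inf_right _ hUA).trans hAf.free.le)
        have hUd := finrank_minimal (p := p) hx hrp hUi hU0 hfr hmin
        have hts : TS Q U := (nd_or_ts hx hUi hfr hmin).resolve_left fun hn => by
          obtain ⟨j', hj', -⟩ := fpf_dim (p := p) hx hr2 hrp (hAf.mono hUA hn hUi) rfl hc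
          rw [hUd, hc, if_neg hev] at hj'
          rcases Nat.eq_zero_or_pos j' with rfl | h0
          · omega
          · have := Nat.le_mul_of_pos_right (2 * i) h0; omega
        exact ⟨A, U, 1, hA, hAf, by rw [hAd, hc, if_neg hev, mul_one], hUA, hUi, hts, hUd, Or.inl ⟨hev, by omega⟩⟩
    obtain ⟨-, hrn⟩ := sup_perp hE.nd hZE hZ.nd
    have hE' : Fpf Q x (perp Q E Z) := hE.mono (perp_le E Z) hrn (hx.inv_perp r_pos hE.inv hZ.inv)
    have hd := finrank_perp hE.nd hZE
    have hkj : k ≤ j := Nat.le_of_mul_le_mul_left (hk ▸ hj ▸ Submodule.finrank_mono hZE) hc0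
    obtain ⟨U', hU'le, hU', hU'ts, hU'd⟩ := ih (E := perp Q E Z) hE' (j := j - k) (by
      rw [Nat.mul_sub]; omega) hrest
    have hor := (orth_perp E Z).mono hUZ hU'le
    refine ⟨U ⊔ U', sup_le (hUZ.trans hZE) (hU'le.trans (perp_le E Z)), hU.sup hU', ts_sup hUts hU'ts hor, ?_⟩
    have := Submodule.finrank_sup_add_finrank_inf_eq U U'
    rw [show U ⊓ U' = ⊥ from eq_bot_iff.2 ((inf_le_inf hUZ hU'le).trans (nd_disjoint hZ.nd (orth_perp E Z)).le),
      finrank_bot, hUd, hU'd] at this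
    rw [Nat.mul_succ]
    omega

end Cfsg.Lib.OrthEl
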