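import Cfsg.Agent.Classical.OrthElusive.Pairs
import Cfsg.Agent.Classical.OrthElusive.Models
import Cfsg.Agent.Classical.OrthElusive.Count
import Cfsg.Agent.Classical.OrthElusive.NondegOdd

/-!
# Totally singular subspaces fixed by isometries of odd prime order
-/

set_option autoImplicit false
set_option linter.unusedSectionVars false

open QuadraticMap Submodule Cfsg.Lib.FormNormal Polynomial
open Cfsg.Lib.Classical.PrimeOrd (Inv fix mov mem_fix isCompl_fix_mov inv_mov dvd_of_fpf)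
open Cfsg.Lib.PrimeOrderPoly (factorSet card_factorSet)

namespace Cfsg.Lib.OrthEl

universe u v

variable {F : Type u} [Field F] [Fintype F] {V : Type v} [AddCommGroup V] [Module F V] [FiniteDimensional F V]
  {Q : QuadraticForm F V} {r : ℕ} {x : Module.End F V}

/-- An invariant subspace splits into fixed and moved vectors. -/
theorem RIsom.split_sup (hx : RIsom Q r x) (hr : (r : F) ≠ 0) {W : Submodule F V} (hW : Inv x W) :
    W ⊓ fix x ⊔ W ⊓ mov x = W := by
  refine le_antisymm (sup_le inf_le_left inf_le_left) fun w hw => ?_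
  obtain ⟨a, ha⟩ : ∃ a, a = (r : F)⁻¹ • ∑ j ∈ Finset.range r, (x ^ j) w := ⟨_, rfl⟩
  have hpow : ∀ j, (x ^ j) w ∈ W := fun j => by
    induction j with
    | zero => simpa using hw
    | succ j ih => rw [pow_succ', Module.End.mul_apply]; exact hW _ ih
  have haW : a ∈ W := ha ▸ W.smul_mem _ (sum_mem fun j _ => hpow j)
  have hax : x a = a := by
    rw [ha, map_smul, map_sum]
    congr 1
    have h1 : ∑ j ∈ Finset.range r, x ((x ^ j) w) = ∑ j ∈ Finset.range r, (x ^ (j + 1)) w :=
      Finset.sum_congr rfl fun j _ => by rw [pow_succ', Module.End.mul_apply]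
    rw [h1]
    have h2 := (Finset.sum_range_succ' (fun j => (x ^ j) w) r).symm.trans (Finset.sum_range_succ (fun j => (x ^ j) w) r)
    simp only [pow_zero, hx.pow] at h2
    exact add_right_cancel h2
  have hmov : ∀ j, w - (x ^ j) w ∈ mov x := fun j => by
    induction j with
    | zero => simp
    | succ j ih =>
      rw [show w - (x ^ (j + 1)) w = (w - (x ^ j) w) - (x - 1) ((x ^ j) w) by
        rw [pow_succ', Module.End.mul_apply, LinearMap.sub_apply, Module.End.one_apply]; abel]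
      exact sub_mem ih ⟨_, rfl⟩
  have hwa : w - a ∈ mov x := by
    have : w - a = (r : F)⁻¹ • ∑ j ∈ Finset.range r, (w - (x ^ j) w) := by
      rw [Finset.sum_sub_distrib, Finset.sum_const, Finset.card_range, smul_sub, ← Nat.cast_smul_eq_nsmul F,
        smul_smul, inv_mul_cancel₀ hr, one_smul, ha]
    rw [this]
    exact (mov x).smul_mem _ (sum_mem fun j _ => hmov j)
  have hdec : w = a + (w - a) := by abel
  rw [hdec]
  exact add_mem_sup ⟨haW, mem_fix.2 hax⟩ ⟨W.sub_mem hw haW, hwa⟩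

/-- The class of totally singular subspaces of one dimension. -/
theorem ts_class {W₀ W : Submodule F V} (hW₀ : TS Q W₀) :
    (Module.finrank F W = Module.finrank F W₀ ∧ TS Q W) ↔ Iso Q W₀ W :=
  ⟨fun h => iso_of_ts hW₀ h.2 h.1.symm, fun h => ⟨h.finrank.symm, h.ts hW₀⟩⟩

theorem ts_half {W U : Submodule F V} (hW : ND Q W) (hU : U ≤ W) (hts : TS Q U) :
    2 * Module.finrank F U ≤ Module.finrank F W := by
  have := le_idx hU hts
  have := (idx_bounds hW).1
  omega

/-- The defect of the fixed space. -/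
noncomputable def dlt (i n : ℕ) (pV : Prop) (j : ℕ) : ℕ :=
  @ite _ (Even n ∧ ¬ (pV ↔ Sgn i j)) (_root_.Classical.propDecidable _) 1 0

theorem dlt_le (i n : ℕ) (pV : Prop) (j : ℕ) : dlt i n pV j ≤ 1 := by
  unfold dlt; split_ifs <;> omega

theorem dlt_parity (i n : ℕ) (pV : Prop) {j k : ℕ} (h : j % 2 = k % 2) : dlt i n pV j = dlt i n pV k := by
  have : Sgn i j ↔ Sgn i k := by simp only [Sgn, Nat.even_iff, h]
  unfold dlt
  by_cases h' : Even n ∧ ¬ (pV ↔ Sgn i k)
  · rw [if_pos h', if_pos (by rwa [this])]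
  · rw [if_neg h', if_neg (by rwa [this])]

theorem dlt_odd_i {i n : ℕ} (hi : ¬ Even i) (pV : Prop) (j k : ℕ) : dlt i n pV j = dlt i n pV k := by
  have : Sgn i j ↔ Sgn i k := iff_of_true (Or.inl hi) (Or.inl hi)
  unfold dlt
  by_cases h' : Even n ∧ ¬ (pV ↔ Sgn i k)
  · rw [if_pos h', if_pos (by rwa [this])]
  · rw [if_neg h', if_neg (by rwa [this])]

theorem dlt_eq_zero {i n : ℕ} {pV : Prop} {j : ℕ} : dlt i n pV j = 0 ↔ (Even n → (pV ↔ Sgn i j)) := by
  unfold dlt
  split_ifs with h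
  · exact iff_of_false (fun e => by simp at e) fun h' => h.2 (h' h.1)
  · exact iff_of_true rfl fun he => by_contra fun h' => h ⟨he, h'⟩

/-- The index from the dimension and the type. -/
theorem idx_formula {W : Submodule F V} (hW : ND Q W) :
    (Plus Q W → 2 * idx Q W = Module.finrank F W) ∧
      (¬ Plus Q W → Even (Module.finrank F W) → 2 * idx Q W + 2 = Module.finrank F W) ∧
      (Odd (Module.finrank F W) → 2 * idx Q W + 1 = Module.finrank F W) := by
  have h := idx_bounds hW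
  refine ⟨(plus_iff hW).1, fun hp he => ?_, fun ho => ?_⟩
  · rw [plus_iff hW] at hp
    rw [Nat.even_iff] at he
    omega
  · rw [Nat.odd_iff] at ho
    omega

variable {p : ℕ} [Fact p.Prime] [CharP F p] [Fact r.Prime]

include p in
/-- The index of the fixed space. -/
theorem idx_fix (hx : RIsom Q r x) (hr2 : r ≠ 2) (hrp : r ≠ p) (hQ : ND Q (⊤ : Submodule F V)) {i c : ℕ}
    (hi : i = orderOf (Fintype.card F : ZMod r)) (hc : c = if Even i then i else 2 * i) {n : ℕ}
    (hn : Module.finrank F V = n) {j : ℕ} (hj : Module.finrank F (mov x) = c * j) :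
    idx Q (fix x) + c / 2 * j + dlt i n (Plus Q (⊤ : Submodule F V)) j = n / 2 := by
  obtain ⟨hce, hc0, -⟩ := c_facts (p := p) (F := F) hrp hi hc
  obtain ⟨j', hj', hjs, hjt, -⟩ := fix_type (p := p) hx hr2 hrp hQ hi hc
  have hjj : j' = j := Nat.eq_of_mul_eq_mul_left hc0 (hj'.symm.trans hj)
  subst hjj
  obtain ⟨h1, h2, h3⟩ := idx_formula (hx.nd_fix (r_cast_ne (p := p) hrp) hQ).1
  rw [hn] at hjs hjt
  obtain ⟨a, ha⟩ := hce
  subst ha
  rw [show (a + a) / 2 = a by omega]
  rw [Nat.add_mul] at hjs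
  rcases Nat.even_or_odd n with hev | hod
  · have hb : Even (Module.finrank F (fix x)) := Nat.even_iff.2 (by have := Nat.even_iff.1 hev; omega)
    by_cases hd : dlt i n (Plus Q (⊤ : Submodule F V)) j' = 0
    · have := h1 ((hjt hev).2 (dlt_eq_zero.1 hd hev))
      omega
    · have hd1 : dlt i n (Plus Q (⊤ : Submodule F V)) j' = 1 := by
        have := dlt_le i n (Plus Q (⊤ : Submodule F V)) j'
        omega
      have := h2 (fun hp => hd (dlt_eq_zero.2 fun _ => (hjt hev).1 hp)) hb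
      omega
  · have hd : dlt i n (Plus Q (⊤ : Submodule F V)) j' = 0 :=
      dlt_eq_zero.2 fun he => absurd he (Nat.not_even_iff_odd.2 hod)
    have := h3 (Nat.odd_iff.2 (by have := Nat.odd_iff.1 hod; omega))
    omega

include p in
/-- A member from the moved and fixed parts. -/
theorem ts_build (hx : RIsom Q r x) (hr2 : r ≠ 2) (hrp : r ≠ p) (hQ : ND Q (⊤ : Submodule F V)) {i c : ℕ}
    (hi : i = orderOf (Fintype.card F : ZMod r)) (hc : c = if Even i then i else 2 * i) {j : ℕ}
    (hj : Module.finrank F (mov x) = c * j) {l m : ℕ} (hlm : i * l ≤ m) (hm : m ≤ i * l + idx Q (fix x))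
    (hl : (¬ Even i ∧ l ≤ j) ∨ (Even i ∧ (l = 0 ∨ 2 * l + (r - 1) / i ≤ j + 1) ∧ 2 * l ≤ j)) :
    ∃ U : Submodule F V, (Module.finrank F U = m ∧ TS Q U) ∧ Inv x U := by
  have hrc := r_cast_ne (p := p) (F := F) hrp
  obtain ⟨hfn, hmf⟩ := hx.nd_fix hrc hQ
  obtain ⟨U, hU, hUi, hUts, hUd⟩ := exists_ts_inv (p := p) hx hr2 hrp hi hc hmf hj hl
  obtain ⟨T, hT, hTts, hTd⟩ := exists_ts (Q := Q) (W := fix x) (k := m - i * l) (by omega)
  refine ⟨U ⊔ T, ⟨?_, ts_sup hUts hTts (hx.fix_orth_mov.symm.mono hU hT)⟩,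
    hUi.sup fun w hw => by rw [mem_fix.1 (hT hw)]; exact hw⟩
  have e := Submodule.finrank_sup_add_finrank_inf_eq U T
  rw [show U ⊓ T = ⊥ from eq_bot_iff.2 ((inf_le_inf hU hT).trans
    (inf_comm (mov x) (fix x) ▸ (isCompl_fix_mov hrc hx.pow).inf_eq_bot.le)), finrank_bot] at e
  omega

include p in
/-- The shape of an invariant totally singular subspace. -/
theorem ts_shape (hx : RIsom Q r x) (hrp : r ≠ p) (hQ : ND Q (⊤ : Submodule F V)) {i : ℕ}
    (hi : i = orderOf (Fintype.card F : ZMod r)) {U : Submodule F V} (hts : TS Q U) (hU : Inv x U) :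
    ∃ l a, Module.finrank F U = a + i * l ∧ a ≤ idx Q (fix x) ∧ (l = 0 → U ≤ fix x) ∧
      2 * (i * l) ≤ Module.finrank F (mov x) ∧
      (Even i → ∀ B : F[X] → ℕ,
        (∀ g ∈ factorSet F r, Module.finrank F (mov x ⊓ LinearMap.ker (aeval x g) : Submodule F V) = i * B g) →
          l ≤ ∑ g ∈ factorSet F r, B g / 2) := by
  classical
  have hrc := r_cast_ne (p := p) (F := F) hrp
  have hi0 : 0 < i := hi ▸ Cfsg.Lib.Classical.PrimeOrd.ord_pos
    (Cfsg.Lib.Classical.PrimeOrd.not_dvd_card (p := p) Fact.out hrp)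
  obtain ⟨hfn, hmf⟩ := hx.nd_fix hrc hQ
  set M := U ⊓ mov x with hM
  have hMi : Inv x M := hU.inf (inv_mov x)
  have hMts : TS Q M := fun w hw => hts w hw.1
  have hdvd : ∀ T ≤ M, Inv x T → i ∣ Module.finrank F T := fun T hT hTi =>
    hi ▸ dvd_of_fpf hx.pow hTi (eq_bot_iff.2 ((inf_le_inf_right _ (hT.trans inf_le_right)).trans hmf.free.le))
  obtain ⟨l, hl⟩ := hdvd M le_rfl hMi
  have hsum : Module.finrank F U = Module.finrank F (U ⊓ fix x : Submodule F V) + Module.finrank F M := by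
    have e := Submodule.finrank_sup_add_finrank_inf_eq (U ⊓ fix x) M
    rw [hx.split_sup hrc hU, show (U ⊓ fix x) ⊓ M = ⊥ from eq_bot_iff.2 ((inf_le_inf inf_le_right inf_le_right).trans
      (isCompl_fix_mov hrc hx.pow).inf_eq_bot.le), finrank_bot, add_zero] at e
    exact e
  refine ⟨l, _, by rw [hsum, hl], le_idx inf_le_right (fun w hw => hts w hw.1), fun h0 => ?_,
    hl ▸ ts_half hmf.nd inf_le_right hMts, fun hev B hB => ?_⟩
  · have h1 : M = ⊥ := Submodule.finrank_eq_zero.1 (by rw [hl, h0, mul_zero])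
    have h2 := hx.split_sup hrc hU
    rw [← hM, h1, sup_bot_eq] at h2
    exact h2 ▸ inf_le_right
  · have h1 := finrank_le_sum hMi (factorSet F r) fun w hw => by
      rw [prod_factorSet (p := p) hrp]; exact mov_killed hx hw.2
    rw [hl] at h1
    refine Nat.le_of_mul_le_mul_left (h1.trans ?_) hi0
    rw [Finset.mul_sum]
    refine Finset.sum_le_sum fun g hg => ?_
    obtain ⟨t, ht⟩ := hdvd _ inf_le_left (inv_part hMi g)
    have h2 := ts_half (nd_part (p := p) hx hrp (hi ▸ hev) hmf hg).nd (inf_le_inf_right _ (inf_le_right : M ≤ mov x))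
      (fun w hw => hMts w hw.1)
    rw [ht, hB g hg] at h2
    rw [ht]
    refine Nat.mul_le_mul_left i ((Nat.le_div_iff_mul_le two_pos).2 (Nat.le_of_mul_le_mul_left ?_ hi0))
    rw [← mul_assoc, mul_comm _ 2]
    exact h2

/-- Possible multiplicities. -/
def Adm (d h t : ℕ) (δ : ℕ → ℕ) (j o : ℕ) : Prop := h * j + δ j ≤ d ∧ o ≤ t ∧ o ≤ j ∧ o % 2 = j % 2

/-- A member of dimension `m` exists. -/
def Good (d h i m : ℕ) (δ : ℕ → ℕ) (j L : ℕ) : Prop := ∃ l ≤ L, i * l ≤ m ∧ m + h * j + δ j ≤ d + i * l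

/-- The criterion for an even order of `q`. -/
def CondTSEven (d h t m : ℕ) (δ : ℕ → ℕ) : Prop :=
  (δ (d / h) = 0 ∧ t + 2 * (m / (2 * h)) ≤ d / h ∧ m % (2 * h) ≤ d % h) ∨
  (δ (d / h) = 1 ∧ 0 < d % h ∧ t + 2 * (m / (2 * h)) ≤ d / h ∧ m % (2 * h) + 1 ≤ d % h) ∨
  (δ (d / h) = 1 ∧ d % h = 0 ∧ t + 2 * (m / (2 * h)) < d / h ∧ m % (2 * h) ≤ h)

theorem mul_step {h j N : ℕ} (hj : j < N) : h * j + h ≤ h * N := by
  have := Nat.mul_le_mul_left h (Nat.succ_le_of_lt hj)
  rw [Nat.mul_succ] at this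
  exact this

theorem arith_even {d h t m : ℕ} (hh : 0 < h) (ht : 1 ≤ t) (δ : ℕ → ℕ) (hδ : ∀ j, δ j ≤ 1)
    (hpar : ∀ j k, j % 2 = k % 2 → δ j = δ k) (hflip : ∀ j, δ j = 1 → δ (j + 1) = 0) (hm : 2 * h ≤ m) (hmd : m ≤ d) :
    (∀ j o, Adm d h t δ j o → Good d h (2 * h) m δ j ((j - o) / 2)) ↔ CondTSEven d h t m δ := by
  have hN := Nat.div_add_mod d h
  have hR := Nat.mod_lt d hh
  have hA := Nat.div_add_mod m (2 * h)
  have hl := Nat.mod_lt m (show 0 < 2 * h by omega)
  unfold CondTSEven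
  set N := d / h
  set R := d % h
  set A := m / (2 * h)
  set l := m % (2 * h)
  have hA1 : 1 ≤ A := Nat.pos_of_ne_zero fun e => by rw [e, mul_zero] at hA; omega
  have hAN : 2 * A ≤ N := by
    by_contra hlt
    have := mul_step (h := h) (show N < 2 * A by omega)
    rw [show h * (2 * A) = 2 * h * A by ring] at this
    omega
  constructor
  · intro hall
    obtain ⟨J, hJd, hJ⟩ : ∃ J, h * J + δ J ≤ d ∧
        ((J = N ∧ (δ N = 0 ∨ 0 < R)) ∨ (J + 1 = N ∧ δ N = 1 ∧ R = 0)) := by
      have := hδ N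
      by_cases hk : δ N = 0 ∨ 0 < R
      · exact ⟨N, by omega, Or.inl ⟨rfl, hk⟩⟩
      · obtain ⟨J, hJ⟩ : ∃ J, N = J + 1 := ⟨N - 1, by omega⟩
        refine ⟨J, ?_, Or.inr ⟨hJ.symm, by omega, by omega⟩⟩
        have := hδ J
        rw [hJ, Nat.mul_succ] at hN
        omega
    have hle : t + 2 * A ≤ N ∧ (J + 1 = N → t + 2 * A < N) := by
      by_contra hbad
      -- one pair short
      obtain ⟨o, ho, hoJ, hfail⟩ : ∃ o, o ≤ t ∧ 2 * (A - 1) + o ≤ J ∧
          (N < 2 * A + o ∨ (2 * A + o = N ∧ δ N = 1 ∧ R = 0)) := by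
        rcases Nat.lt_or_ge J (2 * A - 2 + t) with hc | hc
        · exact ⟨J - (2 * A - 2), by omega, by omega, Or.inl (by omega)⟩
        · refine ⟨t, le_rfl, by omega, ?_⟩
          rcases hJ with ⟨rfl, -⟩ | ⟨hJ, h1, h2⟩ <;> omega
      set j := 2 * (A - 1) + o with hj
      have hadm : h * j + δ j ≤ d := by
        rcases eq_or_lt_of_le hoJ with e | e
        · rw [e]; exact hJd
        · have := mul_step (h := h) e
          have := hδ j
          omega
      obtain ⟨l', hl', -, hgood⟩ := hall j o ⟨hadm, ho, by omega, by omega⟩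
      have hj' : h * j = h * (2 * (A - 1)) + h * o := by rw [hj, Nat.mul_add]
      have hl2 : 2 * h * l' ≤ h * (2 * (A - 1)) := by
        rw [show h * (2 * (A - 1)) = 2 * h * (A - 1) by ring]
        exact Nat.mul_le_mul_left _ (by omega)
      have hA' : 2 * h * A + h * o = h * (2 * A + o) := by ring
      rcases hfail with hf | ⟨hf, h1, h2⟩
      · have := mul_step (h := h) hf
        omega
      · have hjN : δ j = 1 := by rw [← h1]; exact hpar _ _ (by omega)
        rw [hf] at hA'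
        omega
    obtain ⟨o, ho, hoe, hoj⟩ : ∃ o, o ≤ 1 ∧ o % 2 = J % 2 ∧ o ≤ J := ⟨J % 2, by omega, by omega, Nat.mod_le _ _⟩
    obtain ⟨l', hl', hl'm, hgood⟩ := hall J o ⟨hJd, by omega, hoj, hoe⟩
    have hl'A : l' ≤ A := Nat.lt_succ_iff.1 (by
      refine lt_of_mul_lt_mul_left (a := 2 * h) ?_ (Nat.zero_le _)
      rw [Nat.mul_succ]; omega)
    have hl'A2 : 2 * h * l' ≤ 2 * h * A := Nat.mul_le_mul_left _ hl'A
    rcases hJ with ⟨hJN, hk⟩ | ⟨hJ, h1, h2⟩
    · rw [hJN] at hgood hJd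
      have := hδ N
      rcases hk with hk | hk
      · exact Or.inl ⟨hk, hle.1, by omega⟩
      · rcases Nat.eq_zero_or_pos (δ N) with h0 | h0
        · exact Or.inl ⟨h0, hle.1, by omega⟩
        · exact Or.inr (Or.inl ⟨by omega, hk, hle.1, by omega⟩)
    · have hhJ : h * J + h = h * N := by rw [← hJ, Nat.mul_succ]
      exact Or.inr (Or.inr ⟨h1, h2, hle.2 hJ, by omega⟩)
  · rintro hcond j o ⟨hjd, hot, hoj, hpo⟩
    have hjN : j ≤ N := by
      by_contra hlt
      have := mul_step (h := h) (show N < j by omega)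
      omega
    have hj1 := hδ j
    by_cases hLA : A ≤ (j - o) / 2
    · refine ⟨A, hLA, by omega, ?_⟩
      rcases eq_or_lt_of_le hjN with rfl | hlt
      · rcases hcond with ⟨h1, -, h3⟩ | ⟨h1, -, -, h3⟩ | ⟨h1, h2, -, -⟩ <;> omega
      · have hs := mul_step (h := h) hlt
        rcases hcond with ⟨h1, -, h3⟩ | ⟨h1, -, -, h3⟩ | ⟨h1, h2, -, h3⟩
        · omega
        · omega
        · rcases eq_or_lt_of_le (Nat.succ_le_of_lt hlt) with e | e
          · have e0 : δ j = 0 := by
              rw [hpar j (N + 1) (by omega)]; exact hflip N h1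
            omega
          · have hs2 := mul_step (h := h) (show j + 1 < N from e)
            rw [Nat.mul_succ] at hs2
            omega
    · refine ⟨(j - o) / 2, le_rfl, ?_, ?_⟩
      · have : 2 * h * ((j - o) / 2) ≤ 2 * h * A := Nat.mul_le_mul_left _ (by omega)
        omega
      · have e1 : h * j = 2 * h * ((j - o) / 2) + h * o := by
          rw [show 2 * h * ((j - o) / 2) + h * o = h * (2 * ((j - o) / 2) + o) by ring]
          congr 1; omega
        have e2 : 2 * h * A + h * o = h * (2 * A + o) := by ring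
        rcases eq_or_lt_of_le (show 2 * A + o ≤ N by rcases hcond with h' | h' | h' <;> omega) with e | e
        · have hjp : δ j = δ N := hpar _ _ (by omega)
          rw [e] at e2
          rcases hcond with ⟨h1, -, h3⟩ | ⟨h1, -, -, h3⟩ | ⟨h1, h2, h3, -⟩ <;> omega
        · have := mul_step (h := h) e
          rcases hcond with ⟨h1, -, h3⟩ | ⟨h1, -, -, h3⟩ | ⟨h1, h2, h4, h3⟩
          · omega
          · omega
          · rcases eq_or_lt_of_le (Nat.succ_le_of_lt e) with e' | e'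
            · have e0 : δ j = 0 := by
                rw [hpar j (N + 1) (by omega)]; exact hflip N h1
              omega
            · have := mul_step (h := h) (show 2 * A + o + 1 < N from e')
              rw [Nat.mul_succ] at this
              omega

end Cfsg.Lib.OrthEl
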