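import Cfsg.Agent.Classical.OrthElusive.Count
import Cfsg.Agent.Classical.Orth.Card

/-!
# The number of totally singular subspaces modulo the characteristic
-/

set_option autoImplicit false
set_option linter.unusedSectionVars false

open QuadraticMap Submodule Cfsg.Lib.FormNormal

namespace Cfsg.Lib.OrthEl

universe u v

variable {F : Type u} [Field F] [Fintype F] {V : Type v} [AddCommGroup V] [Module F V] [FiniteDimensional F V]
  {Q : QuadraticForm F V} {p : ℕ} [Fact p.Prime] [CharP F p]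

/-- The vectors of `W` orthogonal to two given ones. -/
noncomputable def perpTwo (Q : QuadraticForm F V) (W : Submodule F V) (x y : V) : Submodule F V :=
  W ⊓ LinearMap.ker (polarBilin Q x) ⊓ LinearMap.ker (polarBilin Q y)

theorem mem_perpTwo {W : Submodule F V} {x y w : V} :
    w ∈ perpTwo Q W x y ↔ (w ∈ W ∧ polar (⇑Q) x w = 0) ∧ polar (⇑Q) y w = 0 := Iff.rfl

theorem exists_singular_mate {W : Submodule F V} (hW : ND Q W) {v : V} (hv : v ∈ W) (hv0 : v ≠ 0) (hQv : Q v = 0) :
    ∃ u ∈ W, Q u = 0 ∧ polar (⇑Q) v u = 1 := by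
  obtain ⟨w, hw, hne⟩ : ∃ w ∈ W, polar (⇑Q) v w ≠ 0 := by
    by_contra h
    push Not at h
    exact hv0 (hW v hv h)
  obtain ⟨w₁, hw₁⟩ : ∃ z, z = (polar (⇑Q) v w)⁻¹ • w := ⟨_, rfl⟩
  have h1 : polar (⇑Q) v w₁ = 1 := by
    rw [hw₁, QuadraticMap.polar_smul_right, smul_eq_mul, inv_mul_cancel₀ hne]
  have hvv : polar (⇑Q) v v = 0 := by rw [QuadraticMap.polar_self, hQv, smul_zero]
  refine ⟨w₁ + (-Q w₁) • v, W.add_mem (hw₁ ▸ W.smul_mem _ hw) (W.smul_mem _ hv), ?_, ?_⟩
  · rw [QuadraticMap.map_add (f := Q), QuadraticMap.map_smul, hQv, smul_zero, QuadraticMap.polar_smul_right,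
      QuadraticMap.polar_comm _ w₁ v, h1]
    simp
  · rw [QuadraticMap.polar_add_right, QuadraticMap.polar_smul_right, hvv, h1, smul_zero, add_zero]

variable {W : Submodule F V} {v u : V} (hW : ND Q W) (hv : v ∈ W) (hu : u ∈ W) (hQv : Q v = 0) (hQu : Q u = 0)
  (hvu : polar (⇑Q) v u = 1)
include hW hv hu hQv hQu hvu

theorem hyp_split_two {w : V} (hw : w ∈ W) :
    w - polar (⇑Q) u w • v - polar (⇑Q) v w • u ∈ perpTwo Q W v u := by
  have hvv : polar (⇑Q) v v = 0 := by rw [QuadraticMap.polar_self, hQv, smul_zero]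
  have huu : polar (⇑Q) u u = 0 := by rw [QuadraticMap.polar_self, hQu, smul_zero]
  have huv : polar (⇑Q) u v = 1 := by rw [QuadraticMap.polar_comm]; exact hvu
  refine ⟨⟨W.sub_mem (W.sub_mem hw (W.smul_mem _ hv)) (W.smul_mem _ hu), ?_⟩, ?_⟩
  · show polar (⇑Q) v _ = 0
    simp only [QuadraticMap.polar_sub_right, QuadraticMap.polar_smul_right, hvv, hvu, smul_eq_mul]
    ring
  · show polar (⇑Q) u _ = 0
    simp only [QuadraticMap.polar_sub_right, QuadraticMap.polar_smul_right, huu, huv, smul_eq_mul]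
    ring

theorem nd_perpTwo : ND Q (perpTwo Q W v u) := by
  intro x hx h
  refine hW x hx.1.1 fun w hw => ?_
  have e : w = (w - polar (⇑Q) u w • v - polar (⇑Q) v w • u) + polar (⇑Q) u w • v + polar (⇑Q) v w • u := by abel
  rw [e, QuadraticMap.polar_add_right, QuadraticMap.polar_add_right, h _ (hyp_split_two hW hv hu hQv hQu hvu hw),
    QuadraticMap.polar_smul_right, QuadraticMap.polar_smul_right, QuadraticMap.polar_comm _ x v,
    QuadraticMap.polar_comm _ x u, (mem_perpTwo.1 hx).1.2, (mem_perpTwo.1 hx).2]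
  simp

/-- A hyperbolic plane split off. -/
theorem equiv_hyp :
    ∃ φ : ((F × F) × perpTwo Q W v u) ≃ₗ[F] W,
      ∀ x, Q.comp W.subtype (φ x) = Cfsg.Lib.Classical.OrthCard.hyp (Q.comp (perpTwo Q W v u).subtype) x := by
  have hvv : polar (⇑Q) v v = 0 := by rw [QuadraticMap.polar_self, hQv, smul_zero]
  have huu : polar (⇑Q) u u = 0 := by rw [QuadraticMap.polar_self, hQu, smul_zero]
  have huv : polar (⇑Q) u v = 1 := by rw [QuadraticMap.polar_comm]; exact hvu
  let f : ((F × F) × perpTwo Q W v u) →ₗ[F] W :=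
    { toFun := fun x => ⟨x.1.1 • v + x.1.2 • u + (x.2 : V),
        W.add_mem (W.add_mem (W.smul_mem _ hv) (W.smul_mem _ hu)) x.2.2.1.1⟩
      map_add' := fun x y => Subtype.ext (by simp only [Prod.fst_add, Prod.snd_add, Submodule.coe_add, add_smul]; abel)
      map_smul' := fun c x => Subtype.ext (by simp [smul_add, smul_smul]) }
  have hfa : ∀ x, (f x : V) = x.1.1 • v + x.1.2 • u + (x.2 : V) := fun x => rfl
  have hbij : Function.Bijective f := by
    refine ⟨(injective_iff_map_eq_zero f).2 fun x hx => ?_, fun w => ?_⟩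
    · have h0 : x.1.1 • v + x.1.2 • u + (x.2 : V) = 0 := congrArg Subtype.val hx
      obtain ⟨⟨-, hxv⟩, hxu⟩ := mem_perpTwo.1 x.2.2
      have h1 := congrArg (polar (⇑Q) v) h0
      have h2 := congrArg (polar (⇑Q) u) h0
      simp [QuadraticMap.polar_add_right, QuadraticMap.polar_smul_right, hvv, hvu, hxv] at h1
      simp [QuadraticMap.polar_add_right, QuadraticMap.polar_smul_right, huu, huv, hxu] at h2
      rw [h1, h2, zero_smul, zero_smul, zero_add, zero_add] at h0
      exact Prod.ext (Prod.ext h2 h1) (Subtype.ext h0)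
    · exact ⟨((polar (⇑Q) u w, polar (⇑Q) v w), ⟨_, hyp_split_two hW hv hu hQv hQu hvu w.2⟩), Subtype.ext (by
        rw [hfa]
        show polar (⇑Q) u (w : V) • v + polar (⇑Q) v (w : V) • u +
          ((w : V) - polar (⇑Q) u (w : V) • v - polar (⇑Q) v (w : V) • u) = w
        abel)⟩
  refine ⟨LinearEquiv.ofBijective f hbij, fun x => ?_⟩
  obtain ⟨⟨-, hxv⟩, hxu⟩ := mem_perpTwo.1 x.2.2
  show Q (f x : V) = _
  rw [hfa, Cfsg.Lib.Classical.OrthCard.hyp_apply]
  show Q (x.1.1 • v + x.1.2 • u + (x.2 : V)) = x.1.1 * x.1.2 + Q (x.2 : V)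
  rw [QuadraticMap.map_add (f := Q), QuadraticMap.map_add (f := Q), QuadraticMap.polar_add_left,
    QuadraticMap.polar_smul_left, QuadraticMap.polar_smul_left, QuadraticMap.polar_smul_left,
    QuadraticMap.polar_smul_right, hxv, hxu, hvu, QuadraticMap.map_smul, QuadraticMap.map_smul, hQv, hQu]
  simp

theorem finrank_perpTwo : Module.finrank F (perpTwo Q W v u) + 2 = Module.finrank F W := by
  obtain ⟨φ, -⟩ := equiv_hyp hW hv hu hQv hQu hvu
  rw [← φ.finrank_eq, Module.finrank_prod, Module.finrank_prod, Module.finrank_self]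
  omega

include p in
/-- The number of zeros. -/
theorem zeros_cast (h : 3 ≤ Module.finrank F W) : (Nat.card {x : W // Q (x : V) = 0} : ZMod p) = 0 := by
  have hd := finrank_perpTwo hW hv hu hQv hQu hvu
  obtain ⟨φ, hφ⟩ := equiv_hyp hW hv hu hQv hQu hvu
  have h1 := Cfsg.Lib.Classical.OrthCard.zeros_congr (Cfsg.Lib.Classical.OrthCard.hyp (Q.comp (perpTwo Q W v u).subtype))
    (Q.comp W.subtype) φ hφ
  rw [Cfsg.Lib.Classical.OrthCard.zeros_hyp] at h1
  have hF : (Nat.card F : ZMod p) = 0 := by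
    obtain ⟨k, -, hk⟩ := FiniteField.card F p
    rw [Nat.card_eq_fintype_card, hk, Nat.cast_pow, ZMod.natCast_self, zero_pow k.pos.ne']
  have hWc : (Nat.card (perpTwo Q W v u) : ZMod p) = 0 := by
    rw [Module.natCard_eq_pow_finrank (K := F), Nat.cast_pow, hF, zero_pow (by omega)]
  show (Nat.card {x : W // (Q.comp W.subtype) x = 0} : ZMod p) = 0
  rw [← h1, Nat.cast_add, Nat.cast_mul, Nat.cast_mul, hF, hWc]
  ring

/-- The index drops by one. -/
theorem idx_perpTwo {m : ℕ} (hm : m + 1 ≤ idx Q W) : m ≤ idx Q (perpTwo Q W v u) := by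
  obtain ⟨W₀, hW₀, hts, hd⟩ := exists_ts hm
  set A := W₀ ⊓ LinearMap.ker (polarBilin Q v) with hA
  have hAts : TS Q A := fun a ha => hts a ha.1
  have hvts : TS Q (span F {v}) := fun a ha => by
    obtain ⟨c, rfl⟩ := mem_span_singleton.1 ha
    rw [QuadraticMap.map_smul, hQv, smul_zero]
  have hor : Orth Q (span F {v}) A := fun a ha b hb => by
    obtain ⟨c, rfl⟩ := mem_span_singleton.1 ha
    rw [QuadraticMap.polar_smul_left, show polar (⇑Q) v b = 0 from hb.2, smul_zero]
  set B := span F {v} ⊔ A with hB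
  have hBts : TS Q B := ts_sup hvts hAts hor
  have hBW : B ≤ W := sup_le ((span_singleton_le_iff_mem _ _).2 hv) (inf_le_left.trans hW₀)
  have hker : m ≤ Module.finrank F A := by
    have e := LinearMap.finrank_range_add_finrank_ker ((polarBilin Q v).comp W₀.subtype)
    have hr : Module.finrank F (LinearMap.range ((polarBilin Q v).comp W₀.subtype)) ≤ 1 :=
      (Submodule.finrank_le _).trans (Module.finrank_self F).le
    have hk : (LinearMap.ker ((polarBilin Q v).comp W₀.subtype)).map W₀.subtype = A := by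
      rw [LinearMap.ker_comp, Submodule.map_comap_subtype]
    rw [← hk, ← (Submodule.equivMapOfInjective W₀.subtype W₀.injective_subtype _).finrank_eq]
    omega
  have hBd : m + 1 ≤ Module.finrank F B := by
    by_cases hvA : v ∈ A
    · have hAW : A = W₀ := inf_eq_left.2 fun a ha => ts_polar hts hvA.1 ha
      have := Submodule.finrank_mono (show W₀ ≤ B from hAW ▸ le_sup_right)
      omega
    · have hv0 : v ≠ 0 := fun e => hvA (e ▸ A.zero_mem)
      have e := Submodule.finrank_sup_add_finrank_inf_eq (span F {v}) A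
      rw [finrank_span_singleton hv0, show span F {v} ⊓ A = ⊥ from disjoint_iff.1
        (Submodule.disjoint_span_singleton' hv0 |>.2 hvA).symm, finrank_bot, add_zero] at e
      rw [hB]
      omega
  have hBsplit : B ≤ span F {v} ⊔ (B ⊓ perpTwo Q W v u) := fun b hb => by
    have hvb : polar (⇑Q) v b = 0 := ts_polar hBts (mem_sup_left (mem_span_singleton_self v)) hb
    have h := hyp_split_two hW hv hu hQv hQu hvu (hBW hb)
    rw [hvb, zero_smul, sub_zero] at h
    rw [show b = polar (⇑Q) u b • v + (b - polar (⇑Q) u b • v) by abel]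
    exact add_mem_sup (smul_mem _ _ (mem_span_singleton_self v))
      ⟨B.sub_mem hb (smul_mem _ _ (mem_sup_left (mem_span_singleton_self v))), h⟩
  have h1 := (Submodule.finrank_mono hBsplit).trans (Submodule.finrank_add_le_finrank_add_finrank _ _)
  have h2 : Module.finrank F (span F {v}) ≤ 1 := by simpa using finrank_span_le_card (R := F) ({v} : Set V)
  have h3 := le_idx (Q := Q) (U := B ⊓ perpTwo Q W v u) inf_le_right (fun w hw => hBts w hw.1)
  omega

/-- Members through a vector. -/
theorem card_through (m : ℕ) :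
    Nat.card {U : Submodule F V // (U ≤ W ∧ Module.finrank F U = m + 1 ∧ TS Q U) ∧ v ∈ U} =
      Nat.card {U : Submodule F V // U ≤ perpTwo Q W v u ∧ Module.finrank F U = m ∧ TS Q U} := by
  have hv0 : v ≠ 0 := fun e => by rw [e, QuadraticMap.polar_zero_left] at hvu; exact zero_ne_one hvu
  have hdis : ∀ U : Submodule F V, U ≤ perpTwo Q W v u → span F {v} ⊓ U = ⊥ := fun U hU => eq_bot_iff.2 fun w hw => by
    obtain ⟨c, rfl⟩ := mem_span_singleton.1 hw.1
    have h := (mem_perpTwo.1 (hU hw.2)).2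
    rw [QuadraticMap.polar_smul_right, QuadraticMap.polar_comm _ u v, hvu, smul_eq_mul, mul_one] at h
    rw [h, zero_smul]
    exact zero_mem _
  have hdim : ∀ U : Submodule F V, U ≤ perpTwo Q W v u →
      Module.finrank F ↥(span F {v} ⊔ U) = Module.finrank F U + 1 := fun U hU => by
    have e := Submodule.finrank_sup_add_finrank_inf_eq (span F {v}) U
    rw [hdis U hU, finrank_bot, add_zero, finrank_span_singleton hv0] at e
    omega
  have hsplit : ∀ U : Submodule F V, U ≤ W → TS Q U → v ∈ U → span F {v} ⊔ (U ⊓ perpTwo Q W v u) = U :=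
    fun U hU hts hvU => le_antisymm (sup_le ((span_singleton_le_iff_mem _ _).2 hvU) inf_le_left) fun b hb => by
      have h := hyp_split_two hW hv hu hQv hQu hvu (hU hb)
      rw [ts_polar hts hvU hb, zero_smul, sub_zero] at h
      rw [show b = polar (⇑Q) u b • v + (b - polar (⇑Q) u b • v) by abel]
      exact add_mem_sup (smul_mem _ _ (mem_span_singleton_self v)) ⟨U.sub_mem hb (U.smul_mem _ hvU), h⟩
  refine Nat.card_congr
    { toFun := fun U => ⟨U.1 ⊓ perpTwo Q W v u, inf_le_right, ?_, fun w hw => U.2.1.2.2 w hw.1⟩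
      invFun := fun U => ⟨span F {v} ⊔ U.1, ⟨sup_le ((span_singleton_le_iff_mem _ _).2 hv)
        (U.2.1.trans fun w hw => hw.1.1), by rw [hdim _ U.2.1, U.2.2.1], ts_sup ?_ U.2.2.2 ?_⟩,
          mem_sup_left (mem_span_singleton_self v)⟩
      left_inv := fun U => Subtype.ext (hsplit U.1 U.2.1.1 U.2.1.2.2 U.2.2)
      right_inv := fun U => Subtype.ext ?_ }
  · have h := hdim (U.1 ⊓ perpTwo Q W v u) inf_le_right
    rw [hsplit U.1 U.2.1.1 U.2.1.2.2 U.2.2, U.2.1.2.1] at h
    omega
  · intro a ha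
    obtain ⟨c, rfl⟩ := mem_span_singleton.1 ha
    rw [QuadraticMap.map_smul, hQv, smul_zero]
  · intro a ha b hb
    obtain ⟨c, rfl⟩ := mem_span_singleton.1 ha
    rw [QuadraticMap.polar_smul_left, (mem_perpTwo.1 (U.2.1 hb)).1.2, smul_zero]
  · show (span F {v} ⊔ U.1) ⊓ perpTwo Q W v u = U.1
    rw [sup_comm, sup_inf_assoc_of_le _ U.2.1, hdis _ le_rfl, sup_bot_eq]

omit hW hv hu hQv hQu hvu

include p in
/-- Totally singular subspaces number one modulo the characteristic. -/
theorem ts_count : ∀ (m : ℕ) (W : Submodule F V), ND Q W → 2 * m < Module.finrank F W → m ≤ idx Q W →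
    (Nat.card {U : Submodule F V // U ≤ W ∧ Module.finrank F U = m ∧ TS Q U} : ZMod p) = 1 := by
  classical
  haveI : Finite V := Module.finite_of_finite F
  haveI : Finite (Submodule F V) := Finite.of_injective _ SetLike.coe_injective
  intro m
  induction m with
  | zero =>
    intro W _ _ _
    have : Nat.card {U : Submodule F V // U ≤ W ∧ Module.finrank F U = 0 ∧ TS Q U} = 1 := by
      refine Nat.card_eq_one_iff_unique.2 ⟨⟨fun A B => Subtype.ext ?_⟩, ⟨⟨⊥, bot_le, finrank_bot F V, fun w hw => by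
        rw [(Submodule.mem_bot F).1 hw, QuadraticMap.map_zero]⟩⟩⟩
      rw [Submodule.finrank_eq_zero.1 A.2.2.1, Submodule.finrank_eq_zero.1 B.2.2.1]
    rw [this, Nat.cast_one]
  | succ m ih =>
    intro W hW hdim hidx
    haveI := Fintype.ofFinite V
    let P := fun U : Submodule F V => U ≤ W ∧ Module.finrank F U = m + 1 ∧ TS Q U
    let S := {x : V // x ∈ W ∧ Q x = 0 ∧ x ≠ 0}
    have e : (Σ U : {U // P U}, {x : V // x ∈ U.1 ∧ x ≠ 0}) ≃ Σ x : S, {U : Submodule F V // P U ∧ x.1 ∈ U} :=
      { toFun := fun z => ⟨⟨z.2.1, z.1.2.1 z.2.2.1, z.1.2.2.2 _ z.2.2.1, z.2.2.2⟩, ⟨z.1.1, z.1.2, z.2.2.1⟩⟩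
        invFun := fun z => ⟨⟨z.2.1, z.2.2.1⟩, ⟨z.1.1, z.2.2.2, z.1.2.2.2⟩⟩
        left_inv := fun _ => rfl
        right_inv := fun _ => rfl }
    have hF : (Nat.card F : ZMod p) = 0 := by
      obtain ⟨k, -, hk⟩ := FiniteField.card F p
      rw [Nat.card_eq_fintype_card, hk, Nat.cast_pow, ZMod.natCast_self, zero_pow k.pos.ne']
    have hnz : ∀ U : {U // P U}, (Nat.card {x : V // x ∈ U.1 ∧ x ≠ 0} : ZMod p) = -1 := fun U => by
      have h1 : Nat.card {x : V // x ∈ U.1 ∧ x ≠ 0} + 1 = Nat.card U.1 := by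
        rw [← Finite.card_option]
        refine Nat.card_congr
          { toFun := fun o => o.elim ⟨0, zero_mem _⟩ fun x => ⟨x.1, x.2.1⟩
            invFun := fun x => if h : (x : V) = 0 then none else some ⟨x.1, x.2, h⟩
            left_inv := fun o => by
              rcases o with _ | ⟨x, hx⟩
              · simp
              · simp [hx.2]
            right_inv := fun x => by
              by_cases h : (x : V) = 0
              · simp only [h, dite_true, Option.elim_none]; exact Subtype.ext h.symm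
              · simp [h] }
      have h2 := congrArg (Nat.cast : ℕ → ZMod p) h1
      rw [Module.natCard_eq_pow_finrank (K := F) (V := U.1), U.2.2.1, Nat.cast_pow, hF,
        zero_pow (Nat.succ_ne_zero m), Nat.cast_add, Nat.cast_one] at h2
      exact eq_neg_of_add_eq_zero_left h2
    have hone : ∀ x : S, (Nat.card {U : Submodule F V // P U ∧ x.1 ∈ U} : ZMod p) = 1 := fun ⟨x, hx, hQx, hx0⟩ => by
      obtain ⟨y, hy, hQy, hxy⟩ := exists_singular_mate hW hx hx0 hQx
      rw [card_through hW hx hy hQx hQy hxy m]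
      exact ih _ (nd_perpTwo hW hx hy hQx hQy hxy) (by have := finrank_perpTwo hW hx hy hQx hQy hxy; omega)
        (idx_perpTwo hW hx hy hQx hQy hxy hidx)
    obtain ⟨W₀, hW₀, hts₀, hd₀⟩ := exists_ts (Q := Q) (W := W) (k := 1) (by omega)
    obtain ⟨x₀, hx₀, hx₀0⟩ := Submodule.exists_mem_ne_zero_of_ne_bot (show W₀ ≠ ⊥ from fun e => by
      rw [e, finrank_bot] at hd₀; exact zero_ne_one hd₀)
    obtain ⟨y₀, hy₀, hQy₀, hxy₀⟩ := exists_singular_mate hW (hW₀ hx₀) hx₀0 (hts₀ _ hx₀)
    have hS : (Nat.card S : ZMod p) = -1 := by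
      have h0 := zeros_cast (p := p) hW (hW₀ hx₀) hy₀ (hts₀ _ hx₀) hQy₀ hxy₀ (by omega)
      have h1 : Nat.card S + 1 = Nat.card {x : W // Q (x : V) = 0} := by
        rw [← Finite.card_option]
        refine Nat.card_congr
          { toFun := fun o => o.elim ⟨0, QuadraticMap.map_zero Q⟩ fun x => ⟨⟨x.1, x.2.1⟩, x.2.2.1⟩
            invFun := fun x => if h : (x.1 : V) = 0 then none else some ⟨x.1.1, x.1.2, x.2, h⟩
            left_inv := fun o => by
              rcases o with _ | ⟨x, hx⟩
              · simp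
              · simp [hx.2.2]
            right_inv := fun x => by
              by_cases h : (x.1 : V) = 0
              · simp only [h, dite_true, Option.elim_none]; exact Subtype.ext (Subtype.ext h.symm)
              · simp [h] }
      rw [← h1, Nat.cast_add, Nat.cast_one] at h0
      exact eq_neg_of_add_eq_zero_left h0
    have h := congrArg (Nat.cast : ℕ → ZMod p) (Nat.card_congr e)
    haveI := Fintype.ofFinite {U // P U}
    haveI := Fintype.ofFinite S
    rw [Nat.card_sigma, Nat.card_sigma, Nat.cast_sum, Nat.cast_sum, Finset.sum_congr rfl fun U _ => hnz U,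
      Finset.sum_congr rfl fun x _ => hone x] at h
    rw [Finset.sum_const, Finset.sum_const, Finset.card_univ, Finset.card_univ, nsmul_eq_mul, nsmul_eq_mul,
      ← Nat.card_eq_fintype_card, ← Nat.card_eq_fintype_card, hS, mul_neg_one, mul_one, neg_inj] at h
    exact h

include p in
/-- The characteristic does not divide the number of totally singular subspaces. -/
theorem ts_not_dvd (hQ : ND Q (⊤ : Submodule F V)) {m : ℕ} (hm : 2 * m < Module.finrank F V)
    (hidx : m ≤ idx Q (⊤ : Submodule F V)) :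
    ¬ p ∣ Nat.card {U : Submodule F V // Module.finrank F U = m ∧ TS Q U} := by
  rw [← ZMod.natCast_eq_zero_iff, Nat.card_congr (Equiv.subtypeEquivRight (q := fun U => U ≤ (⊤ : Submodule F V) ∧
    Module.finrank F U = m ∧ TS Q U) fun U => ⟨fun h => ⟨le_top, h⟩, fun h => h.2⟩),
    ts_count (p := p) m ⊤ hQ (by rwa [finrank_top]) hidx]
  exact one_ne_zero

end Cfsg.Lib.OrthEl
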