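import Cfsg.Agent.Classical.OrthElusive.Singular

/-!
# The criterion for totally singular subspaces
-/

set_option autoImplicit false
set_option linter.unusedSectionVars false

open QuadraticMap Submodule Cfsg.Lib.FormNormal Polynomial
open Cfsg.Lib.Classical.PrimeOrd (Inv fix mov mem_fix isCompl_fix_mov)
open Cfsg.Lib.PrimeOrderPoly (factorSet card_factorSet)

namespace Cfsg.Lib.OrthEl

universe u v

variable {F : Type u} [Field F] [Fintype F] {V : Type v} [AddCommGroup V] [Module F V] [FiniteDimensional F V]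
  {Q : QuadraticForm F V} {r : ℕ} {p : ℕ} [Fact p.Prime] [CharP F p] [Fact r.Prime]

/-- Every isometry of order dividing `r` fixes a totally singular `m`-space. -/
def AllTS (Q : QuadraticForm F V) (r m : ℕ) : Prop :=
  ∀ x : Module.End F V, RIsom Q r x → ∃ U : Submodule F V, (Module.finrank F U = m ∧ TS Q U) ∧ Inv x U

theorem dlt_flip {i n : ℕ} (hev : Even i) (pV : Prop) (j : ℕ) (h : dlt i n pV j = 1) : dlt i n pV (j + 1) = 0 := by
  rw [dlt_eq_zero]
  intro hn
  have h' : ¬ (Even n → (pV ↔ Sgn i j)) := fun e => by rw [dlt_eq_zero.2 e] at h; exact zero_ne_one h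
  unfold Sgn at h' ⊢
  rw [Nat.even_add_one]
  tauto

variable {i c n m : ℕ} (hr2 : r ≠ 2) (hrp : r ≠ p) (hQ : ND Q (⊤ : Submodule F V))
  (hi : i = orderOf (Fintype.card F : ZMod r)) (hc : c = if Even i then i else 2 * i) (hn : Module.finrank F V = n)
include p hr2 hrp hQ hi hc hn

/-- An element with given multiplicities. -/
theorem exists_mult {j o : ℕ} (hadm : c / 2 * j + dlt i n (Plus Q (⊤ : Submodule F V)) j ≤ n / 2)
    (ho : Even i → o ≤ (r - 1) / i ∧ o ≤ j ∧ o % 2 = j % 2) :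
    ∃ x : Module.End F V, RIsom Q r x ∧ Module.finrank F (mov x) = c * j ∧
      (Even i → ∃ B : F[X] → ℕ,
        (∀ g ∈ factorSet F r, Module.finrank F (mov x ⊓ LinearMap.ker (aeval x g) : Submodule F V) = i * B g) ∧
          ∑ g ∈ factorSet F r, B g / 2 = (j - o) / 2) := by
  classical
  obtain ⟨hce, hc0, hi0⟩ := c_facts (p := p) (F := F) hrp hi hc
  have hcard : (factorSet F r).card = (r - 1) / i := by
    rw [← card_factorSet (F := F) (p := p) (r := r) hrp, ← hi, Nat.mul_div_cancel _ hi0]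
  obtain ⟨g₁, hg₁⟩ : (factorSet F r).Nonempty := by
    rw [← Finset.card_pos]
    refine Nat.pos_of_ne_zero fun e => ?_
    have := card_factorSet (F := F) (p := p) (r := r) hrp
    rw [e, zero_mul] at this
    have := (Fact.out : r.Prime).two_le
    omega
  obtain ⟨o', ho', hev'⟩ : ∃ o', o' = (if Even i then o else 0) ∧ (o' ≤ (factorSet F r).card ∧ o' ≤ j) := by
    refine ⟨_, rfl, ?_⟩
    split_ifs with h
    · exact ⟨hcard ▸ (ho h).1, (ho h).2.1⟩
    · exact ⟨Nat.zero_le _, Nat.zero_le _⟩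
  obtain ⟨S, hSsub, hScard⟩ := Finset.exists_subset_card_eq hev'.1
  obtain ⟨L, hL⟩ : ∃ L : Multiset F[X], L = S.val + Multiset.replicate (j - o') g₁ := ⟨_, rfl⟩
  have hLmem : ∀ g ∈ L, g ∈ factorSet F r := fun g hg => by
    rw [hL, Multiset.mem_add] at hg
    rcases hg with h | h
    · exact hSsub h
    · rw [Multiset.eq_of_mem_replicate h]; exact hg₁
  have hLcard : L.card = j := by rw [hL, Multiset.card_add, Multiset.card_replicate, Finset.card_val, hScard]; omega
  obtain ⟨a, ha⟩ := id hce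
  obtain ⟨x, hx, hxd, hxg⟩ := exists_isom (p := p) hr2 hrp hQ hi hc L hLmem (by
    rw [hLcard, hn]
    have hca : c * j = 2 * (c / 2 * j) := by rw [← mul_assoc, show 2 * (c / 2) = c by omega]
    rcases Nat.lt_or_ge (c * j) n with h | h
    · exact Or.inl h
    · have hd0 : dlt i n (Plus Q (⊤ : Submodule F V)) j = 0 := by omega
      have hneq : c * j = n := by omega
      exact Or.inr ⟨hneq, dlt_eq_zero.1 hd0 (hneq ▸ hce.mul_right j)⟩)
  refine ⟨x, hx, by rw [hxd, hLcard], fun hev => ⟨fun g => L.count g, fun g hg => hxg hev g hg, ?_⟩⟩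
  rw [if_pos hev] at ho'
  subst ho'
  obtain ⟨k, hk⟩ : ∃ k, j - o' = 2 * k := ⟨(j - o') / 2, by have := (ho hev).2.2; have := (ho hev).2.1; omega⟩
  rw [Finset.sum_eq_single g₁ (fun g _ hne => ?_) (fun h => absurd hg₁ h)]
  · show L.count g₁ / 2 = _
    rw [hL, Multiset.count_add, Multiset.count_replicate_self, hk]
    have := Multiset.nodup_iff_count_le_one.1 S.nodup g₁
    omega
  · show L.count g / 2 = 0
    rw [hL, Multiset.count_add, Multiset.count_replicate, if_neg hne.symm]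
    have := Multiset.nodup_iff_count_le_one.1 S.nodup g
    omega

/-- Small subspaces do not allow a fixed member. -/
theorem ts_le_dim (hall : AllTS Q r m) (hm : m ≤ idx Q (⊤ : Submodule F V))
    (hdvd : r ∣ Nat.card {U : Submodule F V // Module.finrank F U = m ∧ TS Q U}) : i ≤ m := by
  classical
  obtain ⟨hce, hc0, hi0⟩ := c_facts (p := p) (F := F) hrp hi hc
  by_contra hlt
  push Not at hlt
  obtain ⟨W₀, -, hW₀, hW₀d⟩ := exists_ts hm
  set δ := dlt i n (Plus Q (⊤ : Submodule F V)) with hδ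
  have hN := Nat.div_add_mod (n / 2) (c / 2)
  obtain ⟨a, ha⟩ := id hce
  have hh : 0 < c / 2 := by omega
  have hR := Nat.mod_lt (n / 2) hh
  obtain ⟨J, hJ, hJ'⟩ : ∃ J, c / 2 * J + δ J ≤ n / 2 ∧
      (n / 2 < c / 2 * J + c / 2 ∨ (n / 2 = c / 2 * J + c / 2 ∧ δ (J + 1) = 1)) := by
    have := dlt_le i n (Plus Q (⊤ : Submodule F V)) ((n / 2) / (c / 2))
    rw [← hδ] at this
    by_cases hk : δ ((n / 2) / (c / 2)) = 0 ∨ 0 < (n / 2) % (c / 2)
    · exact ⟨(n / 2) / (c / 2), by omega, Or.inl (by omega)⟩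
    · rcases Nat.eq_zero_or_pos ((n / 2) / (c / 2)) with e | e
      · exfalso
        have h2 : 0 < n / 2 := by
          refine Nat.pos_of_ne_zero fun e2 => hk (Or.inl ?_)
          rw [e, hδ, dlt_eq_zero]
          intro hne
          have : n = 0 := by have := Nat.even_iff.1 hne; omega
          refine iff_of_true ?_ (Or.inr ⟨0, rfl⟩)
          refine ⟨⊥, le_top, fun w hw => by rw [(Submodule.mem_bot F).1 hw, QuadraticMap.map_zero], ?_⟩
          rw [finrank_bot, finrank_top, hn, this]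
        rw [e, mul_zero] at hN
        omega
      · obtain ⟨J, hJ⟩ : ∃ J, (n / 2) / (c / 2) = J + 1 := ⟨_, (Nat.succ_pred_eq_of_pos e).symm⟩
        have := dlt_le i n (Plus Q (⊤ : Submodule F V)) J
        rw [← hδ] at this
        rw [hJ, Nat.mul_succ] at hN
        rw [hJ] at hk
        exact ⟨J, by omega, Or.inr ⟨by omega, by
          have := dlt_le i n (Plus Q (⊤ : Submodule F V)) (J + 1); rw [← hδ] at this; omega⟩⟩
  obtain ⟨x, hx, hxd, -⟩ := exists_mult (p := p) hr2 hrp hQ hi hc hn (j := J) (o := J % 2) hJ (fun _ => by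
    refine ⟨?_, Nat.mod_le _ _, Nat.mod_mod _ _⟩
    have h1 : 1 ≤ (r - 1) / i := by
      have := card_factorSet (F := F) (p := p) (r := r) hrp
      rw [← hi] at this
      rw [← this, Nat.mul_div_cancel _ hi0]
      refine Nat.pos_of_ne_zero fun e => ?_
      rw [e, zero_mul] at this
      have := (Fact.out : r.Prime).two_le
      omega
    omega)
  obtain ⟨j, hj, hjs, hjt, -⟩ := fix_type (p := p) hx hr2 hrp hQ hi hc
  have hjJ : j = J := Nat.eq_of_mul_eq_mul_left hc0 (hj.symm.trans hxd)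
  subst hjJ
  rw [hn] at hjs hjt
  have hca : c * j = 2 * (c / 2 * j) := by rw [← mul_assoc, show 2 * (c / 2) = c by omega]
  rw [Nat.card_congr (Equiv.subtypeEquivRight (q := fun U => Iso Q W₀ U) fun U => by
    rw [← hW₀d]; exact ts_class hW₀)] at hdvd
  refine not_dvd_of_small (p := p) hr2 hrp hQ hi hc hx W₀ (fun W hiso hW => ?_) ?_ ?_ hdvd
  · obtain ⟨l, b, hl, -, hsmall, -⟩ := ts_shape (p := p) hx hrp hQ hi (hiso.ts hW₀) hW
    refine hsmall (Nat.eq_zero_of_not_pos fun h0 => ?_)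
    have := Nat.le_mul_of_pos_right i h0
    rw [← hiso.finrank, hW₀d] at hl
    omega
  · rcases hJ' with h | ⟨h, h1⟩
    · exact Or.inl (by omega)
    · have hne : Even n := by
        by_contra hne
        rw [hδ, (dlt_eq_zero.2 fun he => absurd he hne : dlt i n (Plus Q (⊤ : Submodule F V)) (j + 1) = 0)] at h1
        exact zero_ne_one h1
      have hne' := Nat.even_iff.1 hne
      refine Or.inr ⟨by omega, ?_⟩
      have h2 : ¬ (Even n → (Plus Q (⊤ : Submodule F V) ↔ Sgn i (j + 1))) := fun e => by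
        rw [hδ, dlt_eq_zero.2 e] at h1; exact zero_ne_one h1
      rw [hjt hne]
      unfold Sgn at h2 ⊢
      rw [Nat.even_add_one] at h2
      tauto
  · obtain ⟨U, ⟨hUd, hUts⟩, hUi⟩ := hall x hx
    exact ⟨U, iso_of_ts hW₀ hUts (hW₀d.trans hUd.symm), hUi⟩

/-- An even order of `q`. -/
theorem ts_criterion_even (hev : Even i) (hm : m ≤ idx Q (⊤ : Submodule F V))
    (hdvd : r ∣ Nat.card {U : Submodule F V // Module.finrank F U = m ∧ TS Q U}) :
    AllTS Q r m ↔ i ≤ m ∧ CondTSEven (n / 2) (i / 2) ((r - 1) / i) m (dlt i n (Plus Q (⊤ : Submodule F V))) := by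
  classical
  obtain ⟨hce, hc0, hi0⟩ := c_facts (p := p) (F := F) hrp hi hc
  have hci : c = i := by rw [hc, if_pos hev]
  obtain ⟨a, ha⟩ := id hev
  set h := i / 2 with hh
  have hi2 : i = 2 * h := by omega
  have ht1 : 1 ≤ (r - 1) / i := by
    have := card_factorSet (F := F) (p := p) (r := r) hrp
    rw [← hi] at this
    rw [← this, Nat.mul_div_cancel _ hi0]
    refine Nat.pos_of_ne_zero fun e => ?_
    rw [e, zero_mul] at this
    have := (Fact.out : r.Prime).two_le
    omega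
  have hmd : m ≤ n / 2 := by
    have h2 := (idx_bounds hQ).1
    rw [finrank_top, hn] at h2
    omega
  have har : i ≤ m → ((∀ j o, Adm (n / 2) h ((r - 1) / i) (dlt i n (Plus Q (⊤ : Submodule F V))) j o →
      Good (n / 2) h (2 * h) m (dlt i n (Plus Q (⊤ : Submodule F V))) j ((j - o) / 2)) ↔
      CondTSEven (n / 2) h ((r - 1) / i) m (dlt i n (Plus Q (⊤ : Submodule F V)))) := fun him =>
    arith_even (by omega) ht1 _ (dlt_le i n _) (fun j k e => dlt_parity i n _ e) (dlt_flip hev _) (by omega) hmd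
  constructor
  · intro hall
    have him := ts_le_dim (p := p) hr2 hrp hQ hi hc hn hall hm hdvd
    refine ⟨him, (har him).1 fun j o ⟨hjd, hot, hoj, hpo⟩ => ?_⟩
    obtain ⟨x, hx, hxd, hB⟩ := exists_mult (p := p) hr2 hrp hQ hi hc hn (j := j) (o := o)
      (by rw [hci, ← hh]; exact hjd) (fun _ => ⟨hot, hoj, hpo⟩)
    obtain ⟨B, hB1, hB2⟩ := hB hev
    obtain ⟨U, ⟨hUd, hUts⟩, hUi⟩ := hall x hx
    obtain ⟨l, b, hl, hb, -, -, hlB⟩ := ts_shape (p := p) hx hrp hQ hi hUts hUi
    have hidx := idx_fix (p := p) hx hr2 hrp hQ hi hc hn hxd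
    rw [hci, ← hh] at hidx
    refine ⟨l, hB2 ▸ hlB hev B hB1, ?_, ?_⟩
    · rw [← hi2]; omega
    · rw [← hi2]; omega
  · rintro ⟨him, hcond⟩ x hx
    obtain ⟨hfn, hmf⟩ := hx.nd_fix (r_cast_ne (p := p) hrp) hQ
    obtain ⟨j, hj, -, -⟩ := fpf_dim (p := p) hx hr2 hrp hmf hi hc
    have hidx := idx_fix (p := p) hx hr2 hrp hQ hi hc hn hj
    rw [hci, ← hh] at hidx
    set t := (r - 1) / i
    obtain ⟨o, hot, hoj, hpo, hot'⟩ : ∃ o, o ≤ t ∧ o ≤ j ∧ o % 2 = j % 2 ∧ (o = j ∨ t ≤ o + 1) := by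
      rcases Nat.lt_or_ge j t with hjt | hjt
      · exact ⟨j, by omega, le_rfl, rfl, Or.inl rfl⟩
      · exact ⟨t - (t + j) % 2, by omega, by omega, by omega, Or.inr (by omega)⟩
    obtain ⟨l, hlL, hlm, hgood⟩ := (har him).2 hcond j o ⟨by omega, hot, hoj, hpo⟩
    rw [← hi2] at hlm hgood
    refine ts_build (p := p) hx hr2 hrp hQ hi hc hj (l := l) hlm (by omega) (Or.inr ⟨hev, ?_, by omega⟩)
    rcases hot' with e | e
    · exact Or.inl (by omega)
    · exact Or.inr (by omega)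

/-- An odd order of `q`. -/
theorem ts_criterion_odd (hev : ¬ Even i) (hm : m ≤ idx Q (⊤ : Submodule F V))
    (hdvd : r ∣ Nat.card {U : Submodule F V // Module.finrank F U = m ∧ TS Q U}) :
    AllTS Q r m ↔ i ≤ m ∧ m % i ≤ (n / 2 - dlt i n (Plus Q (⊤ : Submodule F V)) 0) % i := by
  classical
  obtain ⟨hce, hc0, hi0⟩ := c_facts (p := p) (F := F) hrp hi hc
  have hci : c / 2 = i := by rw [hc, if_neg hev]; omega
  set δ := dlt i n (Plus Q (⊤ : Submodule F V)) with hδ
  have hδc : ∀ j, δ j = δ 0 := fun j => dlt_odd_i hev _ j 0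
  set I := n / 2 - δ 0 with hI
  have hI' := Nat.div_add_mod I i
  have hm' := Nat.div_add_mod m i
  have hRI := Nat.mod_lt I hi0
  have hml := Nat.mod_lt m hi0
  have hmI : m ≤ I := by
    obtain ⟨h1, h2, h3⟩ := idx_formula hQ
    rw [finrank_top, hn] at h1 h2 h3
    by_cases hd : δ 0 = 0
    · have h4 := (idx_bounds hQ).1
      rw [finrank_top, hn] at h4
      omega
    · have h5 : ¬ (Even n → (Plus Q (⊤ : Submodule F V) ↔ Sgn i 0)) := fun e => hd (dlt_eq_zero.2 e)
      rw [Classical.not_imp] at h5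
      have hp : ¬ Plus Q (⊤ : Submodule F V) := fun hp => h5.2 (iff_of_true hp (Or.inr ⟨0, rfl⟩))
      have := h2 hp h5.1
      have := dlt_le i n (Plus Q (⊤ : Submodule F V)) 0
      rw [← hδ] at this
      omega
  constructor
  · intro hall
    refine ⟨ts_le_dim (p := p) hr2 hrp hQ hi hc hn hall hm hdvd, ?_⟩
    have hd0 : δ 0 ≤ n / 2 := by
      by_contra hlt
      have := dlt_le i n (Plus Q (⊤ : Submodule F V)) 0
      rw [← hδ] at this
      have h5 : ¬ (Even n → (Plus Q (⊤ : Submodule F V) ↔ Sgn i 0)) := fun e => by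
        rw [hδ, dlt_eq_zero.2 e] at hlt; exact hlt (Nat.zero_le _)
      rw [Classical.not_imp] at h5
      refine h5.2 (iff_of_true ?_ (Or.inr ⟨0, rfl⟩))
      have hn0 : n = 0 := by have := Nat.even_iff.1 h5.1; omega
      refine ⟨⊥, le_top, fun w hw => by rw [(Submodule.mem_bot F).1 hw, QuadraticMap.map_zero], ?_⟩
      rw [finrank_bot, finrank_top, hn, hn0]
    obtain ⟨x, hx, hxd, -⟩ := exists_mult (p := p) hr2 hrp hQ hi hc hn (j := I / i) (o := 0) (by
      rw [hci, ← hδ, hδc]; omega) (fun e => absurd e hev)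
    obtain ⟨U, ⟨hUd, hUts⟩, hUi⟩ := hall x hx
    obtain ⟨l, b, hl, hb, -, -, -⟩ := ts_shape (p := p) hx hrp hQ hi hUts hUi
    have hidx := idx_fix (p := p) hx hr2 hrp hQ hi hc hn hxd
    rw [hci, ← hδ, hδc] at hidx
    rw [hUd] at hl
    have hlA : l ≤ m / i := (Nat.le_div_iff_mul_le hi0).2 (by rw [mul_comm]; omega)
    have := Nat.mul_le_mul_left i hlA
    omega
  · rintro ⟨-, hcond⟩ x hx
    obtain ⟨hfn, hmf⟩ := hx.nd_fix (r_cast_ne (p := p) hrp) hQ
    obtain ⟨j, hj, -, -⟩ := fpf_dim (p := p) hx hr2 hrp hmf hi hc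
    have hidx := idx_fix (p := p) hx hr2 hrp hQ hi hc hn hj
    rw [hci, ← hδ, hδc] at hidx
    rcases Nat.lt_or_ge j (m / i) with hlt | hge
    · have h1 := mul_step (h := i) hlt
      exact ts_build (p := p) hx hr2 hrp hQ hi hc hj (l := j) (by omega) (by omega) (Or.inl ⟨hev, le_rfl⟩)
    · have hjI : j ≤ I / i := (Nat.le_div_iff_mul_le hi0).2 (by rw [mul_comm]; omega)
      have := Nat.mul_le_mul_left i hjI
      exact ts_build (p := p) hx hr2 hrp hQ hi hc hj (l := m / i) (by omega) (by omega) (Or.inl ⟨hev, hge⟩)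

end Cfsg.Lib.OrthEl
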