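import Cfsg.Agent.Classical.OrthElusive.SingularMain
import Cfsg.Agent.Classical.OrthElusive.Bridge

/-!
# The criteria for totally singular subspaces, odd prime order
-/

set_option autoImplicit false
set_option linter.unusedSectionVars false

open QuadraticMap Submodule Cfsg.Lib.FormNormal
open Cfsg.Lib.Classical.PrimeOrd (Inv)

namespace Cfsg.Lib.OrthEl

universe u

variable {F : Type u} [Field F] [Fintype F] {ι : Type} [Fintype ι] [DecidableEq ι]
  {Q : QuadraticForm F (ι → F)} {r : ℕ} [Fact r.Prime]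

theorem two_mul_mod_two_mul (d h : ℕ) : (2 * d) % (2 * h) = 2 * (d % h) := Nat.mul_mod_mul_left 2 d h

theorem two_mul_succ_div (d h : ℕ) : (2 * d + 1) / (2 * h) = d / h := by
  rw [← Nat.div_div_eq_div_mul, show (2 * d + 1) / 2 = d by omega]

theorem two_mul_succ_mod {h : ℕ} (hh : 0 < h) (d : ℕ) : (2 * d + 1) % (2 * h) = 2 * (d % h) + 1 := by
  have h1 := Nat.mod_add_div (2 * d + 1) (2 * h)
  have h2 := Nat.mod_add_div d h
  rw [two_mul_succ_div, show 2 * h * (d / h) = 2 * (h * (d / h)) by ring] at h1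
  omega

/-- Totally singular members for elements of `Ω` of order `r`. -/
theorem allTS_order (hQ : (polarBilin Q).Nondegenerate) (hn : 6 ≤ Fintype.card ι) (hr2 : r ≠ 2) {m : ℕ}
    (hm : m ≤ idx Q (⊤ : Submodule F (ι → F))) :
    (∀ x : GL ι F, x ∈ Cfsg.Geo.omegaGL (⇑Q) → orderOf x = r →
      ∃ W : Submodule F (ι → F), (Module.finrank F W = m ∧ TS Q W) ∧
        W.map (Matrix.toLin' (x : Matrix ι ι F)) ≤ W) ↔ AllTS Q r m :=
  bridge_order hQ hn hr2 _ (let ⟨W, _, h1, h2⟩ := exists_ts hm; ⟨W, h2, h1⟩)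

/-- Totally singular members, projective version. -/
theorem allTS_scalar (hQ : (polarBilin Q).Nondegenerate) (hn : 6 ≤ Fintype.card ι) (hr2 : r ≠ 2) {m : ℕ}
    (hm : m ≤ idx Q (⊤ : Submodule F (ι → F))) :
    (∀ x : GL ι F, x ∈ Cfsg.Geo.omegaGL (⇑Q) →
      (∃ z : F, ((x ^ r : GL ι F) : Matrix ι ι F) = z • (1 : Matrix ι ι F)) →
      (∀ z : F, (x : Matrix ι ι F) ≠ z • (1 : Matrix ι ι F)) →
      ∃ W : Submodule F (ι → F), (Module.finrank F W = m ∧ TS Q W) ∧
        W.map (Matrix.toLin' (x : Matrix ι ι F)) ≤ W) ↔ AllTS Q r m :=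
  bridge_scalar hQ hn hr2 _ (let ⟨W, _, h1, h2⟩ := exists_ts hm; ⟨W, h2, h1⟩)

variable {p : ℕ} [Fact p.Prime] [CharP F p] {d m i c : ℕ}
  (hQ : ND Q (⊤ : Submodule F (ι → F))) (hr2 : r ≠ 2) (hrp : r ≠ p)
  (hi : i = orderOf (Fintype.card F : ZMod r)) (hc : c = if Even i then i else 2 * i)
include p hQ hr2 hrp hi hc

theorem ts_odd_dim (hn : Fintype.card ι = 2 * d + 1) (hm : m ≤ idx Q (⊤ : Submodule F (ι → F)))
    (hdvd : r ∣ Nat.card {U : Submodule F (ι → F) // Module.finrank F U = m ∧ TS Q U}) :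
    AllTS Q r m ↔ (i ≤ m ∧ 2 * (m % i) < (2 * d + 1) % c ∧ (Odd i ∨ (r - 1) / i + 2 * (m / i) ≤ (2 * d + 1) / i)) := by
  obtain ⟨-, -, hi0⟩ := c_facts (p := p) (F := F) hrp hi hc
  have hnn : Module.finrank F (ι → F) = 2 * d + 1 := by rw [Module.finrank_fintype_fun_eq_card, hn]
  have hodd : ¬ Even (2 * d + 1) := by simp
  have hδ : ∀ j, dlt i (2 * d + 1) (Plus Q (⊤ : Submodule F (ι → F))) j = 0 := fun j =>
    dlt_eq_zero.2 fun h => absurd h hodd
  have hd : (2 * d + 1) / 2 = d := by omega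
  by_cases hev : Even i
  · rw [ts_criterion_even (p := p) hr2 hrp hQ hi hc hnn hev hm hdvd, CondTSEven, hc, if_pos hev, hδ, hd]
    obtain ⟨h, rfl⟩ := hev
    rw [← two_mul] at hi0 ⊢
    rw [two_mul_succ_div, two_mul_succ_mod (by omega), show 2 * h / 2 = h by omega]
    have hne : ¬ Odd (2 * h) := by simp
    simp only [hne, false_or, true_and, zero_ne_one, false_and, or_false]
    omega
  · rw [ts_criterion_odd (p := p) hr2 hrp hQ hi hc hnn hev hm hdvd, hc, if_neg hev, hδ, hd,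
      two_mul_succ_mod hi0]
    simp only [Nat.not_even_iff_odd.1 hev, true_or, and_true, Nat.sub_zero]
    omega

theorem ts_plus_dim (hn : Fintype.card ι = 2 * d) (hp : Plus Q (⊤ : Submodule F (ι → F)))
    (hm : m ≤ idx Q (⊤ : Submodule F (ι → F)))
    (hdvd : r ∣ Nat.card {U : Submodule F (ι → F) // Module.finrank F U = m ∧ TS Q U}) :
    AllTS Q r m ↔ ((Odd i ∧ i ≤ m ∧ 2 * (m % i) ≤ (2 * d) % c) ∨
      (Even i ∧ i ≤ m ∧ (r - 1) / i + 2 * (m / i) ≤ (2 * d) / i ∧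
        ((2 * (m % i) ≤ i ∧ (2 * d) % c = 0 ∧ Odd ((2 * d) / i) ∧ (r - 1) / i + 2 * (m / i) < (2 * d) / i) ∨
          (2 * (m % i) ≤ (2 * d) % c ∧ Even ((2 * d) / i)) ∨
          (2 * (m % i) < (2 * d) % c ∧ Odd ((2 * d) / i))))) := by
  obtain ⟨-, -, hi0⟩ := c_facts (p := p) (F := F) hrp hi hc
  have hnn : Module.finrank F (ι → F) = 2 * d := by rw [Module.finrank_fintype_fun_eq_card, hn]
  have hd : 2 * d / 2 = d := by omega
  by_cases hev : Even i
  · have hδ : ∀ j, dlt i (2 * d) (Plus Q (⊤ : Submodule F (ι → F))) j = j % 2 := fun j => by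
      have h1 := dlt_le i (2 * d) (Plus Q (⊤ : Submodule F (ι → F))) j
      by_cases hj : Even j
      · rw [dlt_eq_zero.2 fun _ => iff_of_true hp (Or.inr hj), Nat.even_iff.1 hj]
      · have h2 : dlt i (2 * d) (Plus Q (⊤ : Submodule F (ι → F))) j ≠ 0 := fun e => by
          rcases (dlt_eq_zero.1 e ⟨d, two_mul d⟩).1 hp with h | h
          exacts [h hev, hj h]
        rw [Nat.not_even_iff.1 hj]
        omega
    rw [ts_criterion_even (p := p) hr2 hrp hQ hi hc hnn hev hm hdvd, CondTSEven, hc, if_pos hev, hδ, hd]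
    obtain ⟨h, rfl⟩ := hev
    rw [← two_mul] at hi0 ⊢
    rw [two_mul_mod_two_mul, Nat.mul_div_mul_left _ _ two_pos, show 2 * h / 2 = h by omega]
    have hne : ¬ Odd (2 * h) := by simp
    simp only [hne, false_and, false_or, Nat.odd_iff, Nat.even_iff, show (2 * h) % 2 = 0 by omega, true_and]
    omega
  · have hδ : dlt i (2 * d) (Plus Q (⊤ : Submodule F (ι → F))) 0 = 0 :=
      dlt_eq_zero.2 fun _ => iff_of_true hp (Or.inl hev)
    rw [ts_criterion_odd (p := p) hr2 hrp hQ hi hc hnn hev hm hdvd, hc, if_neg hev, hδ, hd, two_mul_mod_two_mul]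
    simp only [hev, false_and, or_false, Nat.not_even_iff_odd.1 hev, true_and, Nat.sub_zero]
    omega

theorem ts_minus_dim (hn : Fintype.card ι = 2 * d) (hp : ¬ Plus Q (⊤ : Submodule F (ι → F)))
    (hm : m ≤ idx Q (⊤ : Submodule F (ι → F)))
    (hdvd : r ∣ Nat.card {U : Submodule F (ι → F) // Module.finrank F U = m ∧ TS Q U}) :
    AllTS Q r m ↔ ((Odd i ∧ i ≤ m ∧ ((2 * d) % c = 0 ∨ 2 * (m % i) < (2 * d) % c)) ∨
      (Even i ∧ i ≤ m ∧ (r - 1) / i + 2 * (m / i) ≤ (2 * d) / i ∧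
        ((2 * (m % i) ≤ i ∧ (2 * d) % c = 0 ∧ Even ((2 * d) / i) ∧ (r - 1) / i + 2 * (m / i) < (2 * d) / i) ∨
          (2 * (m % i) ≤ (2 * d) % c ∧ Odd ((2 * d) / i)) ∨
          (2 * (m % i) < (2 * d) % c ∧ Even ((2 * d) / i))))) := by
  obtain ⟨-, -, hi0⟩ := c_facts (p := p) (F := F) hrp hi hc
  have hnn : Module.finrank F (ι → F) = 2 * d := by rw [Module.finrank_fintype_fun_eq_card, hn]
  have hd : 2 * d / 2 = d := by omega
  have hd0 : 0 < d := by
    refine Nat.pos_of_ne_zero fun e => hp ⟨⊥, le_top, fun w hw => by rw [(Submodule.mem_bot F).1 hw, QuadraticMap.map_zero], ?_⟩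
    rw [finrank_bot, finrank_top, hnn, e]
  by_cases hev : Even i
  · have hδ : ∀ j, dlt i (2 * d) (Plus Q (⊤ : Submodule F (ι → F))) j = 1 - j % 2 := fun j => by
      have h1 := dlt_le i (2 * d) (Plus Q (⊤ : Submodule F (ι → F))) j
      by_cases hj : Even j
      · have h2 : dlt i (2 * d) (Plus Q (⊤ : Submodule F (ι → F))) j ≠ 0 := fun e =>
          hp ((dlt_eq_zero.1 e ⟨d, two_mul d⟩).2 (Or.inr hj))
        rw [Nat.even_iff.1 hj]
        omega
      · rw [dlt_eq_zero.2 fun _ => iff_of_false hp fun h => h.elim (· hev) hj, Nat.not_even_iff.1 hj]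
    rw [ts_criterion_even (p := p) hr2 hrp hQ hi hc hnn hev hm hdvd, CondTSEven, hc, if_pos hev, hδ, hd]
    obtain ⟨h, rfl⟩ := hev
    rw [← two_mul] at hi0 ⊢
    rw [two_mul_mod_two_mul, Nat.mul_div_mul_left _ _ two_pos, show 2 * h / 2 = h by omega]
    have hne : ¬ Odd (2 * h) := by simp
    simp only [hne, false_and, false_or, Nat.odd_iff, Nat.even_iff, show (2 * h) % 2 = 0 by omega, true_and]
    omega
  · have hδ : dlt i (2 * d) (Plus Q (⊤ : Submodule F (ι → F))) 0 = 1 := by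
      have h1 := dlt_le i (2 * d) (Plus Q (⊤ : Submodule F (ι → F))) 0
      have h2 : dlt i (2 * d) (Plus Q (⊤ : Submodule F (ι → F))) 0 ≠ 0 := fun e =>
        hp ((dlt_eq_zero.1 e ⟨d, two_mul d⟩).2 (Or.inl hev))
      omega
    rw [ts_criterion_odd (p := p) hr2 hrp hQ hi hc hnn hev hm hdvd, hc, if_neg hev, hδ, hd, two_mul_mod_two_mul]
    simp only [hev, false_and, or_false, Nat.not_even_iff_odd.1 hev, true_and]
    have h1 : (d - 1) % i = if d % i = 0 then i - 1 else d % i - 1 := by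
      obtain ⟨e, rfl⟩ : ∃ e, d = e + 1 := ⟨d - 1, by omega⟩
      have h2 := Nat.mod_lt e hi0
      rcases Nat.lt_or_ge (e % i + 1) i with h | h
      · rw [Nat.add_mod, Nat.add_sub_cancel]
        rcases Nat.eq_or_lt_of_le (show 1 ≤ i by omega) with h' | h'
        · omega
        · rw [Nat.mod_eq_of_lt h', Nat.mod_eq_of_lt h, if_neg (by omega)]; omega
      · have h3 : (e + 1) % i = 0 := by
          rw [← Nat.mod_add_mod, show e % i + 1 = i by omega, Nat.mod_self]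
        rw [h3, if_pos rfl, Nat.add_sub_cancel]; omega
    have h4 := Nat.mod_lt m hi0
    rw [h1]
    split_ifs <;> omega

end Cfsg.Lib.OrthEl
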