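import Cfsg.Agent.Classical.OrthElusive.TwoOdd
import Cfsg.Agent.Classical.OrthElusive.Singular

/-!
# Totally singular subspaces and the prime two in odd characteristic
-/

set_option autoImplicit false
set_option linter.unusedSectionVars false

open QuadraticMap Submodule Cfsg.Lib.FormNormal Matrix
open Cfsg.Lib.Classical.PrimeOrd (Inv)
open Cfsg.Lib.Classical.Refl (mat refl)

namespace Cfsg.Lib.OrthEl

universe u v

section Lin

variable {F : Type u} [Field F] [Fintype F] {V : Type v} [AddCommGroup V] [Module F V] [FiniteDimensional F V]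
  {Q : QuadraticForm F V} {x : Module.End F V}

theorem invol_ts {C D : Submodule F V} (hC : ∀ w ∈ C, x w = w) (hD : ∀ w ∈ D, x w = -w) (hCn : ND Q C)
    (hor : Orth Q C D) {m : ℕ} (hm : m ≤ idx Q C + idx Q D) :
    ∃ U : Submodule F V, (Module.finrank F U = m ∧ TS Q U) ∧ Inv x U := by
  obtain ⟨A, hA, hAts, hAd⟩ := exists_ts (Q := Q) (W := C) (k := min m (idx Q C)) (min_le_right _ _)
  obtain ⟨B, hB, hBts, hBd⟩ := exists_ts (Q := Q) (W := D) (k := m - min m (idx Q C)) (by omega)
  refine ⟨A ⊔ B, ⟨?_, ts_sup hAts hBts (hor.mono hA hB)⟩,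
    (inv_of_scalar (t := 1) fun a ha => by rw [one_smul]; exact hC a (hA ha)).sup
      (inv_of_scalar (t := -1) fun b hb => by rw [neg_one_smul]; exact hD b (hB hb))⟩
  have e := Submodule.finrank_sup_add_finrank_inf_eq A B
  rw [show A ⊓ B = ⊥ from eq_bot_iff.2 ((inf_le_inf hA hB).trans (nd_disjoint hCn hor).le), finrank_bot] at e
  omega

theorem invol_ts_le (h2 : (2 : F) ≠ 0) (hx2 : ∀ v, x (x v) = v) {C D : Submodule F V}
    (hC : ∀ w, x w = w → w ∈ C) (hD : ∀ w, x w = -w → w ∈ D) {U : Submodule F V} (hts : TS Q U) (hU : Inv x U) :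
    Module.finrank F U ≤ idx Q C + idx Q D := by
  have hle : U ≤ (U ⊓ C) ⊔ (U ⊓ D) := fun w hw => by
    rw [show w = (2 : F)⁻¹ • (w + x w) + (2 : F)⁻¹ • (w - x w) by
      rw [← smul_add, show w + x w + (w - x w) = (2 : F) • w by rw [two_smul]; abel, smul_smul, inv_mul_cancel₀ h2,
        one_smul]]
    refine add_mem_sup ⟨U.smul_mem _ (U.add_mem hw (hU w hw)), hC _ ?_⟩
      ⟨U.smul_mem _ (U.sub_mem hw (hU w hw)), hD _ ?_⟩
    · rw [map_smul, map_add, hx2, add_comm]
    · rw [map_smul, map_sub, hx2, ← smul_neg, neg_sub]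
  have h1 := (Submodule.finrank_mono hle).trans (Submodule.finrank_add_le_finrank_add_finrank _ _)
  have h3 := le_idx (Q := Q) (U := U ⊓ C) inf_le_right fun w hw => hts w hw.1
  have h4 := le_idx (Q := Q) (U := U ⊓ D) inf_le_right fun w hw => hts w hw.1
  omega

/-- With a square root of minus one. -/
theorem sq_neg_ts_square (h2 : (2 : F) ≠ 0) (hs : IsSquare (-1 : F)) (hQ : ND Q (⊤ : Submodule F V))
    (hiso : ∀ v, Q (x v) = Q v) (hx2 : ∀ v, x (x v) = -v) {m : ℕ} (hm : 2 * m ≤ Module.finrank F V) :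
    ∃ U : Submodule F V, (Module.finrank F U = m ∧ TS Q U) ∧ Inv x U := by
  obtain ⟨s, hs⟩ := hs
  have key : ∀ t : F, t * t = -1 → TS Q (LinearMap.ker (x - t • 1)) ∧ ∀ w ∈ LinearMap.ker (x - t • 1), x w = t • w :=
    fun t ht => by
      have hk : ∀ w ∈ LinearMap.ker (x - t • 1), x w = t • w := fun w hw => by
        simpa [sub_eq_zero] using hw
      refine ⟨fun w hw => ?_, hk⟩
      have e := hiso w
      rw [hk w hw, QuadraticMap.map_smul, ht, smul_eq_mul, neg_one_mul] at e
      have : (2 : F) * Q w = 0 := by linear_combination -e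
      exact (mul_eq_zero.1 this).resolve_left h2
  have hsn : s * s = -1 := hs.symm
  obtain ⟨hE, hEx⟩ := key s hsn
  obtain ⟨hE', hE'x⟩ := key (-s) (by rw [neg_mul_neg]; exact hsn)
  have hs0 : s ≠ 0 := fun e => by rw [e, mul_zero] at hsn; exact neg_ne_zero.2 one_ne_zero hsn.symm
  have htop : (⊤ : Submodule F V) ≤ LinearMap.ker (x - s • 1) ⊔ LinearMap.ker (x - (-s) • 1) := fun w _ => by
    rw [show w = (2 : F)⁻¹ • (w - s • x w) + (2 : F)⁻¹ • (w + s • x w) by
      rw [← smul_add, show w - s • x w + (w + s • x w) = (2 : F) • w by rw [two_smul]; abel, smul_smul,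
        inv_mul_cancel₀ h2, one_smul]]
    refine add_mem_sup (Submodule.smul_mem _ _ ?_) (Submodule.smul_mem _ _ ?_)
    · show x (w - s • x w) - s • (w - s • x w) = 0
      rw [map_sub, map_smul, hx2, smul_sub, smul_smul, hsn, neg_one_smul, smul_neg]
      abel
    · show x (w + s • x w) - (-s) • (w + s • x w) = 0
      rw [map_add, map_smul, hx2, neg_smul, smul_add, smul_smul, hsn, neg_one_smul, smul_neg]
      abel
  have h1 := (Submodule.finrank_mono htop).trans (Submodule.finrank_add_le_finrank_add_finrank _ _)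
  rw [finrank_top] at h1
  have h3 := ts_half hQ le_top hE'
  rw [finrank_top] at h3
  obtain ⟨U, hU, hUd⟩ := exists_le_of_finrank (U := LinearMap.ker (x - s • 1)) (k := m) (by omega)
  exact ⟨U, ⟨hUd, fun w hw => hE w (hU hw)⟩, inv_of_scalar fun w hw => hEx w (hU hw)⟩

/-- Without a square root of minus one. -/
theorem sq_neg_inv_even (hs : ¬ IsSquare (-1 : F)) (hx2 : ∀ v, x (x v) = -v) {U : Submodule F V} (hU : Inv x U) :
    Even (Module.finrank F U) := by
  by_contra hodd
  let f : Module.End F U := x.restrict hU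
  have hf : f * f = (-1 : F) • (1 : Module.End F U) := LinearMap.ext fun w => Subtype.ext (by
    show x (x w) = _
    rw [hx2]
    simp)
  have h := congrArg LinearMap.det hf
  rw [map_mul, LinearMap.det_smul, LinearMap.det.map_one, mul_one, (Nat.not_even_iff_odd.1 hodd).neg_one_pow] at h
  exact hs ⟨_, h.symm⟩

end Lin

variable {F : Type u} [Field F] [Fintype F] {ι : Type} [Fintype ι] [DecidableEq ι]
  {Q : QuadraticForm F (ι → F)} (hQ : (polarBilin Q).Nondegenerate) (h2 : (2 : F) ≠ 0)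
include hQ h2

/-- An element of `Ω` negating a plane of minus type. -/
theorem exists_minus_plane_invol (hs : ¬ IsSquare (-1 : F)) (hn : 3 ≤ Fintype.card ι) :
    ∃ (g : Cfsg.isometryGroup F (⇑Q)) (P : Submodule F (ι → F)), g ∈ Cfsg.Omega F (⇑Q) ∧ ND Q P ∧
      Module.finrank F P = 2 ∧ ¬ Plus Q P ∧ (∀ w ∈ P, mat Q g *ᵥ w = -w) ∧
      (∀ w ∈ perp Q ⊤ P, mat Q g *ᵥ w = w) := by
  classical
  have hn2 : 2 ≤ Fintype.card ι := by omega
  have hV : Module.finrank F (ι → F) = Fintype.card ι := Module.finrank_fintype_fun_eq_card F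
  obtain ⟨u, -, hQu⟩ := exists_value Q ⊤ (nd_top_of_nondeg hQ) (by rw [finrank_top, hV]; omega) 1 one_ne_zero
  have hu : Q u ≠ 0 := by rw [hQu]; exact one_ne_zero
  have hu0 : u ≠ 0 := fun e => hu (by rw [e, QuadraticMap.map_zero])
  have hLn : ND Q (span F {u}) := fun z hz hp => by
    obtain ⟨t, rfl⟩ := mem_span_singleton.1 hz
    have := hp u (mem_span_singleton_self u)
    rw [QuadraticMap.polar_smul_left, FormNormal.polar_self', smul_eq_mul] at this
    rw [(mul_eq_zero.1 this).resolve_right (mul_ne_zero h2 hu), zero_smul]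
  obtain ⟨-, hRn⟩ := sup_perp (nd_top_of_nondeg hQ) (le_top (a := span F {u})) hLn
  have hd := finrank_perp (nd_top_of_nondeg hQ) (le_top (a := span F {u}))
  rw [finrank_span_singleton hu0, finrank_top, hV] at hd
  obtain ⟨w, hw, hQw⟩ := exists_value Q _ hRn (by omega) 1 one_ne_zero
  have huw : polar (⇑Q) u w = 0 := (mem_perp.1 hw).2 u (mem_span_singleton_self u)
  have hw0 : Q w ≠ 0 := by rw [hQw]; exact one_ne_zero
  obtain ⟨hPn, hPd, hPp⟩ := plus_smul_plane (Q := Q) hQu hQw huw one_ne_zero one_ne_zero h2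
  refine ⟨refl Q u hu * refl Q w hw0, span F ({u, w} : Set (ι → F)), ?_, hPn, hPd, fun hp => hs (by simpa using hPp.1 hp),
    fun z hz => ?_, fun z hz => ?_⟩
  · rw [Cfsg.Lib.Classical.Refl.mem_omega_iff Q h2 hQ hn2]
    refine ⟨?_, ?_⟩
    · rw [map_mul, Cfsg.Lib.Classical.Refl.detHom_refl, Cfsg.Lib.Classical.Refl.detHom_refl, neg_mul_neg, one_mul]
    · rw [spin_two hQ h2 hn2, if_pos]
      rw [hQu, hQw, mul_one]
      exact IsSquare.one
  · obtain ⟨α, β, rfl⟩ := mem_span_pair.1 hz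
    rw [mat_mul, Matrix.mulVec_add, Matrix.mulVec_smul, Matrix.mulVec_smul, refl_self' w hw0,
      refl_fix' w hw0 (by rw [QuadraticMap.polar_comm]; exact huw), Matrix.mulVec_add, Matrix.mulVec_smul,
      Matrix.mulVec_smul, refl_self' u hu, Matrix.mulVec_neg, refl_fix' u hu huw]
    simp [smul_neg, neg_add, add_comm]
  · rw [mat_mul, refl_fix' w hw0 ((mem_perp.1 hz).2 w (subset_span (by simp))),
      refl_fix' u hu ((mem_perp.1 hz).2 u (subset_span (by simp)))]

/-- The counterexample: a member avoids the bound. -/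
theorem minus_plane_bound {g : Cfsg.isometryGroup F (⇑Q)} {P : Submodule F (ι → F)} (hPn : ND Q P)
    (hPd : Module.finrank F P = 2) (hPp : ¬ Plus Q P) (hneg : ∀ w ∈ P, mat Q g *ᵥ w = -w)
    (hfix : ∀ w ∈ perp Q ⊤ P, mat Q g *ᵥ w = w) {U : Submodule F (ι → F)} (hts : TS Q U)
    (hmap : U.map (Matrix.toLin' (mat Q g)) ≤ U) : Module.finrank F U ≤ idx Q (perp Q ⊤ P) := by
  classical
  obtain ⟨hs, -⟩ := sup_perp (nd_top_of_nondeg hQ) (le_top (a := P)) hPn
  have hdec : ∀ z : ι → F, ∃ a ∈ P, ∃ b ∈ perp Q ⊤ P, a + b = z := fun z => mem_sup.1 (hs.ge mem_top)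
  have hx2 : ∀ v, Matrix.toLin' (mat Q g) (Matrix.toLin' (mat Q g) v) = v := fun v => by
    obtain ⟨a, ha, b, hb, rfl⟩ := hdec v
    rw [map_add, map_add, Matrix.toLin'_apply, Matrix.toLin'_apply, Matrix.toLin'_apply, Matrix.toLin'_apply,
      hneg a ha, Matrix.mulVec_neg, hneg a ha, hfix b hb, hfix b hb, neg_neg]
  have h4 : ∀ a : ι → F, -a = a → a = 0 := fun a e => by
    have : (2 : F) • a = 0 := by rw [two_smul]; nth_rewrite 1 [← e]; exact neg_add_cancel a
    exact (smul_eq_zero.1 this).resolve_left h2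
  have h := invol_ts_le (Q := Q) h2 hx2 (C := perp Q ⊤ P) (D := P)
    (fun w hw => by
      obtain ⟨a, ha, b, hb, rfl⟩ := hdec w
      rw [Matrix.toLin'_apply, Matrix.mulVec_add, hneg a ha, hfix b hb, add_left_inj] at hw
      rw [h4 a hw, zero_add]
      exact hb)
    (fun w hw => by
      obtain ⟨a, ha, b, hb, rfl⟩ := hdec w
      rw [Matrix.toLin'_apply, Matrix.mulVec_add, hneg a ha, hfix b hb, neg_add, add_right_inj] at hw
      rw [h4 b hw.symm, add_zero]
      exact ha)
    hts (inv_of_map_le hmap)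
  have h5 := (idx_formula hPn).2.1 hPp (by rw [hPd]; exact even_two)
  omega

variable {q : ℕ} (hq : Fintype.card F = q) (hodd : Odd q) {d m : ℕ}
include hq hodd

/-- Odd dimension. -/
theorem ts_two_odd_dim (hn : Fintype.card ι = 2 * d + 1) (hd : 1 ≤ d) (hmd : m ≤ d) :
    (∀ X : GL ι F, X ∈ Cfsg.Geo.omegaGL (⇑Q) → orderOf X = 2 →
      ∃ W : Submodule F (ι → F), (Module.finrank F W = m ∧ TS Q W) ∧
        W.map (Matrix.toLin' (X : Matrix ι ι F)) ≤ W) ↔ (m < d ∨ q % 4 = 1) := by
  classical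
  obtain ⟨hm1, -⟩ := square_facts hq hodd
  have hn2 : 2 ≤ Fintype.card ι := by omega
  have hV : Module.finrank F (ι → F) = 2 * d + 1 := by rw [Module.finrank_fintype_fun_eq_card, hn]
  constructor
  · intro h
    by_contra hh
    push Not at hh
    obtain ⟨g, P, hg, hPn, hPd, hPp, hneg, hfix⟩ :=
      exists_minus_plane_invol hQ h2 (fun e => hh.2 (hm1.1 e)) (by omega)
    obtain ⟨hs, hRn⟩ := sup_perp (nd_top_of_nondeg hQ) (le_top (a := P)) hPn
    have hd' := finrank_perp (nd_top_of_nondeg hQ) (le_top (a := P))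
    rw [finrank_top, hV, hPd] at hd'
    have hord : orderOf (g : GL ι F) = 2 := by
      refine orderOf_eq_prime (Units.ext (Matrix.toLin'.injective (LinearMap.ext fun v => ?_))) fun e => ?_
      · rw [Matrix.toLin'_apply, Units.val_one, Matrix.toLin'_one, LinearMap.id_apply, _root_.sq, Units.val_mul,
          ← Matrix.mulVec_mulVec]
        obtain ⟨a, ha, b, hb, rfl⟩ := mem_sup.1 (hs.ge (mem_top (x := v)))
        show mat Q g *ᵥ (mat Q g *ᵥ (a + b)) = a + b
        rw [Matrix.mulVec_add, Matrix.mulVec_add, hneg a ha, Matrix.mulVec_neg, hneg a ha, hfix b hb, hfix b hb, neg_neg]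
      · obtain ⟨a, ha, ha0⟩ := P.exists_mem_ne_zero_of_ne_bot (fun e => by rw [e, finrank_bot] at hPd; omega)
        have h1 := hneg a ha
        rw [show mat Q g = ((g : GL ι F) : Matrix ι ι F) from rfl, e, Units.val_one, Matrix.one_mulVec] at h1
        have : (2 : F) • a = 0 := by rw [two_smul]; nth_rewrite 2 [h1]; exact add_neg_cancel a
        exact ha0 ((smul_eq_zero.1 this).resolve_left h2)
    obtain ⟨W, ⟨hWd, hWts⟩, hmap⟩ := h g ((Cfsg.Lib.Classical.Refl.mem_omegaGL Q _).mpr ⟨g, hg, rfl⟩) hord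
    have h6 := minus_plane_bound hQ h2 hPn hPd hPp hneg hfix hWts hmap
    have h7 := (idx_formula hRn).2.2 (Nat.odd_iff.2 (by omega))
    omega
  · intro h X hX hord
    obtain ⟨g, hg, rfl⟩ := (Cfsg.Lib.Classical.Refl.mem_omegaGL Q X).mp hX
    have hg2 : ∀ v, mat Q g *ᵥ (mat Q g *ᵥ v) = v := fun v => by
      show ((g : GL ι F) : Matrix ι ι F) *ᵥ (((g : GL ι F) : Matrix ι ι F) *ᵥ v) = v
      rw [Matrix.mulVec_mulVec, ← Units.val_mul, ← _root_.sq]
      erw [show ((g : GL ι F)) ^ 2 = 1 from hord ▸ pow_orderOf_eq_one _]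
      rw [Units.val_one, Matrix.one_mulVec]
    obtain ⟨C, D, k, hC, hD, hor, htop, hCx, hDx, hDd, hDp⟩ := omega_invol_data hQ h2 hn2 hg hg2
    have hsum := finrank_sup_orth hC hor
    rw [htop, finrank_top, hV] at hsum
    have h1 := (idx_formula hC).2.2 (Nat.odd_iff.2 (by omega))
    have h3 := (idx_bounds hD).2
    have hbound : m ≤ idx Q C + idx Q D := by
      rcases h with h | h
      · omega
      · have := (idx_formula hD).1 (hDp.2 (Or.inl (hm1.2 h)))
        omega
    obtain ⟨U, hU, hi⟩ := invol_ts (x := Matrix.toLin' (mat Q g)) (fun w hw => (hCx w).1 hw)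
      (fun w hw => (hDx w).1 hw) hC hor hbound
    exact ⟨U, hU, map_le_of_inv hi⟩

/-- The step shared by both even-dimensional types. -/
theorem ts_two_even_dim (hn : Fintype.card ι = 2 * d) (hmd : m ≤ d)
    (hinv : ∀ (C D : Submodule F (ι → F)) (k : ℕ), ND Q C → ND Q D → Orth Q C D → C ⊔ D = ⊤ →
      Module.finrank F C + 2 * k = 2 * d → Module.finrank F D = 2 * k →
      (Plus Q D ↔ (IsSquare (-1 : F) ∨ Even k)) → m ≤ idx Q C + idx Q D)
    (hneg : (Plus Q (⊤ : Submodule F (ι → F)) ↔ (IsSquare (-1 : F) ∨ Even d)) → (IsSquare (2 : F) ∨ Even d) →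
      IsSquare (-1 : F) ∨ Even m)
    (X : GL ι F) (hX : X ∈ Cfsg.Geo.omegaGL (⇑Q)) {z : F}
    (hz : ((X ^ 2 : GL ι F) : Matrix ι ι F) = z • (1 : Matrix ι ι F)) (hn2 : 2 ≤ Fintype.card ι) :
    ∃ W : Submodule F (ι → F), (Module.finrank F W = m ∧ TS Q W) ∧ W.map (Matrix.toLin' (X : Matrix ι ι F)) ≤ W := by
  classical
  have hV : Module.finrank F (ι → F) = 2 * d := by rw [Module.finrank_fintype_fun_eq_card, hn]
  obtain ⟨g, hg, rfl⟩ := (Cfsg.Lib.Classical.Refl.mem_omegaGL Q X).mp hX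
  have hiso : ∀ v, Q (Matrix.toLin' (mat Q g) v) = Q v := fun v => by rw [Matrix.toLin'_apply]; exact mat_iso g v
  rcases sq_scalar_cases hQ hn2 hX hz with hs | hs
  · obtain ⟨C, D, k, hC, hD, hor, htop, hCx, hDx, hDd, hDp⟩ := omega_invol_data hQ h2 hn2 hg hs
    have hsum := finrank_sup_orth hC hor
    rw [htop, finrank_top, hV, hDd] at hsum
    obtain ⟨U, hU, hi⟩ := invol_ts (x := Matrix.toLin' (mat Q g)) (fun w hw => (hCx w).1 hw)
      (fun w hw => (hDx w).1 hw) hC hor (hinv C D k hC hD hor htop hsum.symm hDd hDp)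
    exact ⟨U, hU, map_le_of_inv hi⟩
  · obtain ⟨h3, h4⟩ := (exists_omega_sq_neg_iff hQ h2 hn2 hn).1 ⟨g, hg, hs⟩
    have hx2 : ∀ v, Matrix.toLin' (mat Q g) (Matrix.toLin' (mat Q g) v) = -v := fun v => by
      rw [Matrix.toLin'_apply, Matrix.toLin'_apply]; exact hs v
    by_cases hsq : IsSquare (-1 : F)
    · obtain ⟨U, hU, hi⟩ := sq_neg_ts_square h2 hsq (nd_top_of_nondeg hQ) hiso hx2 (m := m) (by omega)
      exact ⟨U, hU, map_le_of_inv hi⟩
    · obtain ⟨j, rfl⟩ := (hneg h3 h4).resolve_left hsq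
      obtain ⟨U, -, hi, hts, hd⟩ := sq_neg_ts h2 hiso j ⊤ (nd_top_of_nondeg hQ) (fun _ _ => trivial)
        (fun w _ => hx2 w) (by rw [finrank_top, hV]; omega)
      exact ⟨U, ⟨by omega, hts⟩, map_le_of_inv hi⟩

/-- An odd member is not fixed by an element squaring to minus one. -/
theorem sq_neg_even (hn : Fintype.card ι = 2 * d) (hd : 1 ≤ d)
    (hs : ¬ IsSquare (-1 : F)) (hex : (Plus Q (⊤ : Submodule F (ι → F)) ↔ (IsSquare (-1 : F) ∨ Even d)) ∧ (IsSquare (2 : F) ∨ Even d))
    (h : ∀ X : GL ι F, X ∈ Cfsg.Geo.omegaGL (⇑Q) →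
      (∃ z : F, ((X ^ 2 : GL ι F) : Matrix ι ι F) = z • (1 : Matrix ι ι F)) →
      (∀ z : F, (X : Matrix ι ι F) ≠ z • (1 : Matrix ι ι F)) →
      ∃ W : Submodule F (ι → F), (Module.finrank F W = m ∧ TS Q W) ∧
        W.map (Matrix.toLin' (X : Matrix ι ι F)) ≤ W) : Even m := by
  classical
  obtain ⟨g, hg, hsq⟩ := (exists_omega_sq_neg_iff hQ h2 (by omega) hn).2 hex
  have hsc : ∀ z : F, ((g : GL ι F) : Matrix ι ι F) ≠ z • (1 : Matrix ι ι F) := fun z hz => by
    obtain ⟨v, -, hv⟩ := exists_value Q ⊤ (nd_top_of_nondeg hQ) (by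
      rw [finrank_top, Module.finrank_fintype_fun_eq_card]; omega) 1 one_ne_zero
    have e := hsq v
    rw [show mat Q g = _ from hz, Matrix.smul_mulVec, Matrix.one_mulVec, Matrix.smul_mulVec, Matrix.one_mulVec,
      smul_smul, ← neg_one_smul F v] at e
    have hv0 : v ≠ 0 := fun e' => one_ne_zero (α := F) (by rw [← hv, e', QuadraticMap.map_zero])
    exact hs ⟨z, (smul_left_injective F hv0 e).symm⟩
  obtain ⟨W, ⟨hWd, -⟩, hmap⟩ := h g ((Cfsg.Lib.Classical.Refl.mem_omegaGL Q _).mpr ⟨g, hg, rfl⟩)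
    ⟨-1, Matrix.toLin'.injective (LinearMap.ext fun v => by
      rw [Matrix.toLin'_apply, Matrix.toLin'_apply, _root_.sq, Units.val_mul, ← Matrix.mulVec_mulVec,
        Matrix.smul_mulVec, Matrix.one_mulVec, neg_one_smul]
      exact hsq v)⟩ hsc
  have := sq_neg_inv_even (x := Matrix.toLin' (mat Q g)) hs
    (fun v => by rw [Matrix.toLin'_apply, Matrix.toLin'_apply]; exact hsq v) (inv_of_map_le hmap)
  rwa [hWd] at this

/-- Plus type. -/
theorem ts_two_plus (hn : Fintype.card ι = 2 * d) (hp : Plus Q (⊤ : Submodule F (ι → F))) (hd : 2 ≤ d) (hmd : m < d) :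
    (∀ X : GL ι F, X ∈ Cfsg.Geo.omegaGL (⇑Q) →
      (∃ z : F, ((X ^ 2 : GL ι F) : Matrix ι ι F) = z • (1 : Matrix ι ι F)) →
      (∀ z : F, (X : Matrix ι ι F) ≠ z • (1 : Matrix ι ι F)) →
      ∃ W : Submodule F (ι → F), (Module.finrank F W = m ∧ TS Q W) ∧
        W.map (Matrix.toLin' (X : Matrix ι ι F)) ≤ W) ↔
    (q % 4 = 1 ∨ (q % 4 = 3 ∧ m + 2 ≤ d ∧ (Even m ∨ (2 * d) % 4 = 2))) := by
  classical
  obtain ⟨hm1, hm2⟩ := square_facts hq hodd
  have hV : Module.finrank F (ι → F) = 2 * d := by rw [Module.finrank_fintype_fun_eq_card, hn]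
  have hqo := Nat.odd_iff.1 hodd
  constructor
  · intro h
    by_cases hs : IsSquare (-1 : F)
    · exact Or.inl (hm1.1 hs)
    have hq4 : q % 4 = 3 := by have := mt hm1.2 hs; omega
    refine Or.inr ⟨hq4, ?_, ?_⟩
    · obtain ⟨g, P, hg, hPn, hPd, hPp, hneg, hfix⟩ := exists_minus_plane_invol hQ h2 hs (by omega)
      obtain ⟨hs', hRn⟩ := sup_perp (nd_top_of_nondeg hQ) (le_top (a := P)) hPn
      have hd' := finrank_perp (nd_top_of_nondeg hQ) (le_top (a := P))
      rw [finrank_top, hV, hPd] at hd'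
      have hRe : Even (Module.finrank F (perp Q ⊤ P)) := Nat.even_iff.2 (by omega)
      have hRp : ¬ Plus Q (perp Q ⊤ P) := fun e => by
        have := plus_sup_iff hPn hRn (orth_perp _ _) (by rw [hPd]; exact even_two) hRe
        rw [hs'] at this
        exact hPp ((this.1 hp).2 e)
      obtain ⟨W, ⟨hWd, hWts⟩, hmap⟩ := h g ((Cfsg.Lib.Classical.Refl.mem_omegaGL Q _).mpr ⟨g, hg, rfl⟩)
        ⟨1, Matrix.toLin'.injective (LinearMap.ext fun v => by
          rw [Matrix.toLin'_apply, one_smul, Matrix.toLin'_one, LinearMap.id_apply, _root_.sq, Units.val_mul,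
            ← Matrix.mulVec_mulVec]
          obtain ⟨a, ha, b, hb, rfl⟩ := mem_sup.1 (hs'.ge (mem_top (x := v)))
          show mat Q g *ᵥ (mat Q g *ᵥ (a + b)) = a + b
          rw [Matrix.mulVec_add, Matrix.mulVec_add, hneg a ha, Matrix.mulVec_neg, hneg a ha, hfix b hb, hfix b hb,
            neg_neg])⟩
        (fun z hz => by
          obtain ⟨a, ha, ha0⟩ := P.exists_mem_ne_zero_of_ne_bot (fun e => by rw [e, finrank_bot] at hPd; omega)
          obtain ⟨b, hb, hb0⟩ := (perp Q ⊤ P).exists_mem_ne_zero_of_ne_bot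
            (fun e => by rw [e, finrank_bot] at hd'; omega)
          have h1 := hneg a ha
          have h1' := hfix b hb
          rw [show mat Q g = _ from hz, Matrix.smul_mulVec, Matrix.one_mulVec] at h1 h1'
          rw [← neg_one_smul F a] at h1
          have e1 := smul_left_injective F ha0 h1
          have e2 : z = 1 := smul_left_injective F hb0 (h1'.trans (one_smul F b).symm)
          rw [e2] at e1
          exact h2 (by linear_combination e1))
      have h6 := minus_plane_bound hQ h2 hPn hPd hPp hneg hfix hWts hmap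
      have h7 := (idx_formula hRn).2.1 hRp hRe
      omega
    · rcases Nat.even_or_odd d with he | ho
      · exact Or.inl (sq_neg_even hQ h2 hq hodd hn (by omega) hs ⟨iff_of_true hp (Or.inr he), Or.inr he⟩ h)
      · have := Nat.odd_iff.1 ho
        exact Or.inr (by omega)
  · rintro h X hX ⟨z, hz⟩ -
    refine ts_two_even_dim hQ h2 hq hodd hn (by omega) (fun C D k hC hD hor htop hCd hDd hDp => ?_) (fun h3 _ => ?_)
      X hX hz (by omega)
    · have hCe : Even (Module.finrank F C) := Nat.even_iff.2 (by omega)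
      have hps := plus_sup_iff hC hD hor hCe (by rw [hDd]; exact even_two_mul k)
      rw [htop] at hps
      have hCD := hps.1 hp
      have b1 := idx_formula hC
      have b2 := idx_formula hD
      have b3 := (idx_bounds hC).2
      have b4 := (idx_bounds hD).2
      rcases h with h | ⟨-, h, -⟩
      · have hD1 := hDp.2 (Or.inl (hm1.2 h))
        have := b1.1 (hCD.2 hD1)
        have := b2.1 hD1
        omega
      · omega
    · rcases h with h | ⟨h, -, he | he⟩
      · exact Or.inl (hm1.2 h)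
      · exact Or.inr he
      · refine absurd (h3.1 hp) ?_
        rintro (h' | h')
        · have := hm1.1 h'; omega
        · have := Nat.even_iff.1 h'; omega

/-- Minus type. -/
theorem ts_two_minus (hn : Fintype.card ι = 2 * d) (hp : ¬ Plus Q (⊤ : Submodule F (ι → F))) (hd : 2 ≤ d)
    (hmd : m + 1 ≤ d) :
    (∀ X : GL ι F, X ∈ Cfsg.Geo.omegaGL (⇑Q) →
      (∃ z : F, ((X ^ 2 : GL ι F) : Matrix ι ι F) = z • (1 : Matrix ι ι F)) →
      (∀ z : F, (X : Matrix ι ι F) ≠ z • (1 : Matrix ι ι F)) →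
      ∃ W : Submodule F (ι → F), (Module.finrank F W = m ∧ TS Q W) ∧
        W.map (Matrix.toLin' (X : Matrix ι ι F)) ≤ W) ↔
    (Even d ∨ Even m ∨ q % 8 ≠ 7) := by
  classical
  obtain ⟨hm1, hm2⟩ := square_facts hq hodd
  have hqo := Nat.odd_iff.1 hodd
  constructor
  · intro h
    by_contra hh
    push Not at hh
    obtain ⟨h1, h3, h4⟩ := hh
    have hs : ¬ IsSquare (-1 : F) := fun e => by have := hm1.1 e; omega
    have h2' : IsSquare (2 : F) := hm2.2 (Or.inr h4)
    exact h3 (sq_neg_even hQ h2 hq hodd hn (by omega) hs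
      ⟨iff_of_false hp (by rintro (e | e); exacts [hs e, h1 e]), Or.inl h2'⟩ h)
  · rintro h X hX ⟨z, hz⟩ -
    refine ts_two_even_dim hQ h2 hq hodd hn (by omega) (fun C D k hC hD hor htop hCd hDd hDp => ?_) (fun h3 h4 => ?_)
      X hX hz (by omega)
    · have hCe : Even (Module.finrank F C) := Nat.even_iff.2 (by omega)
      have hps := plus_sup_iff hC hD hor hCe (by rw [hDd]; exact even_two_mul k)
      rw [htop] at hps
      have b1 := idx_formula hC
      have b2 := idx_formula hD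
      have b3 := (idx_bounds hC).2
      have b4 := (idx_bounds hD).2
      by_cases hD1 : Plus Q D
      · have := b2.1 hD1
        omega
      · have hC1 : Plus Q C := by
          by_contra hC1
          exact hp (hps.2 (iff_of_false hC1 hD1))
        have := b1.1 hC1
        omega
    · by_cases hs : IsSquare (-1 : F)
      · exact Or.inl hs
      refine Or.inr ?_
      have hde : ¬ Even d := fun e => hp (h3.2 (Or.inr e))
      have := mt hm1.2 hs
      rcases h with h | h | h
      · exact absurd h hde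
      · exact h
      · have := hm2.1 (h4.resolve_right hde)
        omega

end Cfsg.Lib.OrthEl
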