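import Cfsg.Agent.Classical.OrthElusive.InvOddOmega
import Cfsg.Agent.Classical.OrthElusive.NondegOdd

/-!
# The prime two in odd characteristic
-/

set_option autoImplicit false
set_option linter.unusedSectionVars false

open QuadraticMap Submodule Cfsg.Lib.FormNormal Matrix
open Cfsg.Lib.Classical.PrimeOrd (Inv)
open Cfsg.Lib.Classical.Refl (mat)

namespace Cfsg.Lib.OrthEl

universe u

variable {F : Type u} [Field F] [Fintype F] {ι : Type} [Fintype ι] [DecidableEq ι]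
  {Q : QuadraticForm F (ι → F)}

theorem sq_scalar_cases (hQ : (polarBilin Q).Nondegenerate) (hn : 2 ≤ Fintype.card ι) {X : GL ι F}
    (hXΩ : X ∈ Cfsg.Geo.omegaGL (⇑Q)) {z : F}
    (hz : ((X ^ 2 : GL ι F) : Matrix ι ι F) = z • (1 : Matrix ι ι F)) :
    (∀ v, (X : Matrix ι ι F) *ᵥ ((X : Matrix ι ι F) *ᵥ v) = v) ∨
      (∀ v, (X : Matrix ι ι F) *ᵥ ((X : Matrix ι ι F) *ᵥ v) = -v) := by
  have h : ∀ v, (X : Matrix ι ι F) *ᵥ ((X : Matrix ι ι F) *ᵥ v) = z • v := fun v => by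
    rw [Matrix.mulVec_mulVec, ← Units.val_mul, ← _root_.sq, hz, Matrix.smul_mulVec, Matrix.one_mulVec]
  obtain ⟨v, -, hv⟩ := exists_value Q ⊤ (nd_top_of_nondeg hQ) (by
    rw [finrank_top, Module.finrank_fintype_fun_eq_card]; omega) 1 one_ne_zero
  have hzz : z * z = 1 := by
    have e : Q ((X : Matrix ι ι F) *ᵥ ((X : Matrix ι ι F) *ᵥ v)) = Q v := by rw [omega_isom hXΩ, omega_isom hXΩ]
    rw [h, QuadraticMap.map_smul, hv, smul_eq_mul, mul_one] at e
    exact e
  rcases mul_self_eq_one_iff.1 hzz with rfl | rfl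
  · exact Or.inl fun v => by rw [h, one_smul]
  · exact Or.inr fun v => by rw [h, neg_one_smul]

variable (hQ : (polarBilin Q).Nondegenerate) (h2 : (2 : F) ≠ 0) {W₀ : Submodule F (ι → F)} (hW₀ : ND Q W₀) {m : ℕ}
  (hm : Module.finrank F W₀ = m) (P : Submodule F (ι → F) → Prop) (hP : ∀ W, P W ↔ Iso Q W₀ W)

include hQ h2 hW₀ hm hP in
theorem two_even_iff {d : ℕ} (hn : Fintype.card ι = 2 * d) (hd : 2 ≤ d) (hmn : m < 2 * d) :
    (∀ X : GL ι F, X ∈ Cfsg.Geo.omegaGL (⇑Q) →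
      (∃ z : F, ((X ^ 2 : GL ι F) : Matrix ι ι F) = z • (1 : Matrix ι ι F)) →
      (∀ z : F, (X : Matrix ι ι F) ≠ z • (1 : Matrix ι ι F)) →
      ∃ W, P W ∧ W.map (Matrix.toLin' (X : Matrix ι ι F)) ≤ W) ↔
    (((Plus Q (⊤ : Submodule F (ι → F)) ↔ (IsSquare (-1 : F) ∨ Even d)) ∧ (IsSquare (2 : F) ∨ Even d)) →
      (Even m ∧ (Plus Q W₀ ↔ (IsSquare (-1 : F) ∨ Even (m / 2))))) := by
  classical
  have hV : Module.finrank F (ι → F) = 2 * d := by rw [Module.finrank_fintype_fun_eq_card, hn]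
  constructor
  · intro h hex
    obtain ⟨g, hg, hsq⟩ := (exists_omega_sq_neg_iff hQ h2 (by omega) hn).2 hex
    have hns : ∀ z : F, ((g : GL ι F) : Matrix ι ι F) ≠ z • (1 : Matrix ι ι F) := by
      intro z hz
      obtain ⟨v, -, hv⟩ := exists_value Q ⊤ (nd_top_of_nondeg hQ) (by rw [finrank_top, hV]; omega) 1 one_ne_zero
      have e1 := hsq v
      have e2 := mat_iso g v
      rw [show mat Q g = _ from hz, Matrix.smul_mulVec, Matrix.one_mulVec] at e1 e2
      rw [QuadraticMap.map_smul, hv, smul_eq_mul, mul_one] at e2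
      rw [Matrix.smul_mulVec, Matrix.one_mulVec, smul_smul, e2, one_smul] at e1
      have h4 : polar (⇑Q) v v = polar (⇑Q) (-v) v := by rw [← e1]
      rw [QuadraticMap.polar_neg_left, FormNormal.polar_self', hv] at h4
      exact mul_ne_zero h2 h2 (by linear_combination h4)
    obtain ⟨W, hW, hmap⟩ := h g ((Cfsg.Lib.Classical.Refl.mem_omegaGL Q _).mpr ⟨g, hg, rfl⟩)
      ⟨-1, Matrix.toLin'.injective (LinearMap.ext fun v => by
        rw [Matrix.toLin'_apply, Matrix.toLin'_apply, _root_.sq, Units.val_mul, ← Matrix.mulVec_mulVec,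
          Matrix.smul_mulVec, Matrix.one_mulVec, neg_one_smul]
        exact hsq v)⟩ hns
    exact (sq_neg_member (x := Matrix.toLin' ((g : GL ι F) : Matrix ι ι F)) h2 (nd_top_of_nondeg hQ)
      (fun v => by rw [Matrix.toLin'_apply]; exact mat_iso g v)
      (fun v => by rw [Matrix.toLin'_apply, Matrix.toLin'_apply]; exact hsq v) hW₀ hm (by omega)).1
      ⟨W, (hP W).1 hW, inv_of_map_le hmap⟩
  · rintro h X hX ⟨z, hz⟩ -
    have hiso : ∀ v, Q (Matrix.toLin' (X : Matrix ι ι F) v) = Q v := fun v => by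
      rw [Matrix.toLin'_apply]; exact omega_isom hX v
    rcases sq_scalar_cases hQ (by omega) hX hz with hs | hs
    · obtain ⟨W, hW, hi⟩ := invol_member (x := Matrix.toLin' (X : Matrix ι ι F)) h2 (nd_top_of_nondeg hQ) hiso
        (fun v => by rw [Matrix.toLin'_apply, Matrix.toLin'_apply]; exact hs v) hW₀ (by omega) (by omega)
      exact ⟨W, (hP W).2 hW, map_le_of_inv hi⟩
    · obtain ⟨g, hg, rfl⟩ := (Cfsg.Lib.Classical.Refl.mem_omegaGL Q X).mp hX
      obtain ⟨W, hW, hi⟩ := (sq_neg_member (x := Matrix.toLin' ((g : GL ι F) : Matrix ι ι F)) h2 (nd_top_of_nondeg hQ)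
        hiso (fun v => by rw [Matrix.toLin'_apply, Matrix.toLin'_apply]; exact hs v) hW₀ hm (by omega)).2
        (h ((exists_omega_sq_neg_iff hQ h2 (by omega) hn).1 ⟨g, hg, hs⟩))
      exact ⟨W, (hP W).2 hW, map_le_of_inv hi⟩

include hQ h2 hW₀ hm hP in
theorem two_odd_all (hn : 3 ≤ Fintype.card ι) (hmn : m < Fintype.card ι) (X : GL ι F)
    (hX : X ∈ Cfsg.Geo.omegaGL (⇑Q)) (h : orderOf X = 2) :
    ∃ W, P W ∧ W.map (Matrix.toLin' (X : Matrix ι ι F)) ≤ W := by
  have hX2 : X ^ 2 = 1 := h ▸ pow_orderOf_eq_one X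
  obtain ⟨W, hW, hi⟩ := invol_member (x := Matrix.toLin' (X : Matrix ι ι F)) h2 (nd_top_of_nondeg hQ)
    (fun v => by rw [Matrix.toLin'_apply]; exact omega_isom hX v)
    (fun v => by rw [Matrix.toLin'_apply, Matrix.toLin'_apply, Matrix.mulVec_mulVec, ← Units.val_mul, ← _root_.sq,
      hX2, Units.val_one, Matrix.one_mulVec]) hW₀ (by rw [Module.finrank_fintype_fun_eq_card]; omega)
    (by rw [Module.finrank_fintype_fun_eq_card]; omega)
  exact ⟨W, (hP W).2 hW, map_le_of_inv hi⟩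

omit [Fintype ι] [DecidableEq ι] in
/-- Squares in terms of the order of the field. -/
theorem square_facts {q : ℕ} (hq : Fintype.card F = q) (hodd : Odd q) :
    (IsSquare (-1 : F) ↔ q % 4 = 1) ∧ (IsSquare (2 : F) ↔ (q % 8 = 1 ∨ q % 8 = 7)) := by
  subst hq
  have := Nat.odd_iff.1 hodd
  rw [FiniteField.isSquare_neg_one_iff, FiniteField.isSquare_two_iff]
  omega

end Cfsg.Lib.OrthEl
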