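import Cfsg.Agent.Classical.OrthElusive.AType
import Cfsg.Agent.Classical.OrthElusive.Bridge
import Cfsg.Agent.Classical.Misc.NonsingularDerangement
import Cfsg.Agent.Classical.Misc.OrthUnipotentFixed

/-!
# Unipotent elements of `Ω` without fixed members of a class
-/

set_option autoImplicit false
set_option linter.unusedSectionVars false

open QuadraticMap Submodule Cfsg.Lib.FormNormal Matrix
open Cfsg.Lib.Classical.PrimeOrd (Inv)
open Cfsg.Lib.Classical.Refl (mat)

namespace Cfsg.Lib.OrthEl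

universe u

variable {F : Type u} [Field F] [Fintype F] {ι : Type} [Fintype ι] [DecidableEq ι]
  {Q : QuadraticForm F (ι → F)} {p : ℕ} [Fact p.Prime] [CharP F p]

/-- What an element fixing no member looks like: order `p`, not scalar. -/
def PElem (Q : QuadraticForm F (ι → F)) (p : ℕ) (X : GL ι F) : Prop :=
  X ∈ Cfsg.Geo.omegaGL (⇑Q) ∧ X ^ p = 1 ∧ X ≠ 1 ∧ ∀ z : F, (X : Matrix ι ι F) ≠ z • (1 : Matrix ι ι F)

include p in
theorem pElem_of {X : GL ι F} (hn : 0 < Fintype.card ι) (hΩ : X ∈ Cfsg.Geo.omegaGL (⇑Q)) (hp : X ^ p = 1)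
    (h1 : X ≠ 1) : PElem Q p X := by
  refine ⟨hΩ, hp, h1, fun z hz => h1 (Units.ext ?_)⟩
  have e := congrArg (fun g : GL ι F => (g : Matrix ι ι F)) hp
  simp only [Units.val_pow_eq_pow_val, hz, _root_.smul_pow, one_pow, Units.val_one] at e
  haveI : Nonempty ι := Fintype.card_pos_iff.mp hn
  have hzp : z ^ p = 1 := by
    have := congrFun (congrFun e (Classical.arbitrary ι)) (Classical.arbitrary ι)
    simpa using this
  have h0 : (z - 1) ^ p = 0 := by rw [sub_pow_char, hzp, one_pow, sub_self]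
  rw [hz, sub_eq_zero.mp (pow_eq_zero_iff (Fact.out : p.Prime).ne_zero |>.mp h0), one_smul, Units.val_one]

/-- The shape of the members an element may fix. -/
def Shape (Q : QuadraticForm F (ι → F)) (b : ℕ) (bp : Prop) (W : Submodule F (ι → F)) : Prop :=
  ∃ s e : ℕ, Even s ∧ Module.finrank F W = 2 * s + e ∧ e ≤ b ∧ (e = 0 → Plus Q W) ∧
    (e = b → Even b → (Plus Q W ↔ bp))

include p in
/-- An element of order `p` with square zero displacement and alternating pairing. -/
theorem exists_atype_elem (hQ : (polarBilin Q).Nondegenerate) (hn : 6 ≤ Fintype.card ι) {t : ℕ} (ht0 : 0 < t)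
    (ht : 2 * t ≤ idx Q (⊤ : Submodule F (ι → F))) :
    ∃ (X : GL ι F) (bp : Prop), PElem Q p X ∧ (Even (Fintype.card ι) → (bp ↔ Plus Q (⊤ : Submodule F (ι → F)))) ∧
      ∀ W : Submodule F (ι → F), ND Q W → W.map (Matrix.toLin' (X : Matrix ι ι F)) ≤ W →
        Shape Q (Fintype.card ι - 4 * t) bp W := by
  classical
  have hV : Module.finrank F (ι → F) = Fintype.card ι := Module.finrank_fintype_fun_eq_card F
  obtain ⟨x, P, hiso, hPn, hPd, hPp, hsq, hts, hrd, horP, hsupP, hdisP⟩ := exists_atype (nd_top_of_nondeg hQ) ht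
  rw [hV] at hPd hPp
  have hx : ∀ v, x v = v + disp x v := fun v => x_eq v
  have hpow : ∀ (j : ℕ) (v : ι → F), (x ^ j) v = v + (j : F) • disp x v := fun j => by
    induction j with
    | zero => intro v; simp
    | succ j ih =>
      intro v
      rw [pow_succ', Module.End.mul_apply, ih, hx, map_add, map_smul, hsq, smul_zero, add_zero, Nat.cast_succ, add_smul,
        one_smul, add_assoc]
  have hxp : x ^ p = 1 := LinearMap.ext fun v => by rw [hpow, CharP.cast_eq_zero, zero_smul, add_zero]; rfl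
  have hM : LinearMap.toMatrix' x ^ p = 1 := Matrix.toLin'.injective (by
    rw [pow_toLin', Matrix.toLin'_toMatrix', hxp, Matrix.toLin'_one]; rfl)
  let X : GL ι F := Units.ofPowEqOne _ p hM (Fact.out : p.Prime).ne_zero
  have hX : Matrix.toLin' (X : Matrix ι ι F) = x := Matrix.toLin'_toMatrix' x
  have hXp : X ^ p = 1 := Units.ext (by rw [Units.val_pow_eq_pow_val]; exact hM)
  have hXi : ∀ v, Q ((X : Matrix ι ι F).mulVec v) = Q v := fun v => by
    rw [← Matrix.toLin'_apply, hX]; exact hiso v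
  have hXΩ : X ∈ Cfsg.Geo.omegaGL (⇑Q) := by
    by_cases hp2 : p = 2
    · subst hp2
      let g : Cfsg.isometryGroup F (⇑Q) := ⟨X, (Cfsg.Lib.Classical.Refl.mem_iff Q).mpr hXi⟩
      refine (Cfsg.Lib.Classical.Refl.mem_omegaGL Q X).mpr
        ⟨g, Cfsg.Lib.Classical.NsPoint.mem_omega_dickson Q hQ hn g ?_, rfl⟩
      show (-1 : ℤˣ) ^ Cfsg.Lib.Classical.Refl.gap Q g 1 = 1
      refine Even.neg_one_pow ?_
      have hker : LinearMap.ker (Matrix.toLin' (mat Q g) - Matrix.toLin' (mat Q 1)) = LinearMap.ker (disp x) := by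
        rw [show mat Q g = (X : Matrix ι ι F) from rfl, hX, show mat Q 1 = 1 from rfl, Matrix.toLin'_one]
        rfl
      have hd := LinearMap.finrank_range_add_finrank_ker (disp x)
      rw [hrd, hV] at hd
      rw [Cfsg.Lib.Classical.Refl.gap, hker]
      exact ⟨t, by omega⟩
    · exact mem_omega_odd_order hQ hn X hXi ((Fact.out : p.Prime).odd_of_ne_two hp2) hXp
  have hX1 : X ≠ 1 := fun e => by
    have h0 : disp x = 0 := by rw [← hX, e, Units.val_one, Matrix.toLin'_one]; exact sub_self _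
    rw [h0, LinearMap.range_zero, finrank_bot] at hrd
    omega
  refine ⟨X, Plus Q P, pElem_of (by omega) hXΩ hXp hX1, hPp, fun W hW hmap => ?_⟩
  have hWi : Inv x W := hX ▸ inv_of_map_le hmap
  obtain ⟨s, Z, E, hs, hEK, hEn, hZn, hZp, hZd, hor, hsup, hER⟩ :=
    atype_member hiso hW hWi (fun w _ => hsq w) (fun w _ => hts w)
  have hEle : E ≤ LinearMap.range (disp x) ⊔ P := by rw [hsupP]; exact hEK.trans inf_le_right
  obtain ⟨hle, hiso'⟩ := atype_embed (fun v hv => by obtain ⟨u, rfl⟩ := hv; exact hts u) horP hEle hER hdisP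
  have hWd : Module.finrank F W = 2 * s + Module.finrank F E := by
    rw [← hsup, finrank_sup_orth hZn hor, hZd]
  refine ⟨s, Module.finrank F E, hs, hWd, by omega, fun he => ?_, fun he hbe => ?_⟩
  · rw [← hsup, Submodule.finrank_eq_zero.1 he, sup_bot_eq]; exact hZp
  · have hEP := hiso' (by omega)
    rw [← hsup, plus_sup_iff hZn hEn hor (by rw [hZd]; exact even_two_mul s) (he ▸ hbe), iff_true_intro hZp, true_iff]
    exact ⟨hEP.plus, hEP.symm.plus⟩

include p in
/-- An element with prescribed blocks none of whose sub-sums is `m`. -/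
theorem exists_partition_elem (hQ : (polarBilin Q).Nondegenerate) (hp : Odd p) (h2 : (2 : F) ≠ 0)
    (μ : Multiset ℕ) (hle : ∀ e ∈ μ, 0 < e ∧ e ≤ p) (hev : ∀ e : ℕ, Even e → Even (μ.count e))
    (hsum : μ.sum = Fintype.card ι) {a₀ : ℕ} (ha₀ : a₀ ∈ μ) (hodd : Odd a₀) (hbig : ∃ e ∈ μ, e ≠ 1) {m : ℕ}
    (hno : ∀ ν ≤ μ, (∀ e : ℕ, Even e → Even (ν.count e)) → ν.sum ≠ m) :
    ∃ X : GL ι F, PElem Q p X ∧ ∀ W : Submodule F (ι → F), ND Q W → Module.finrank F W = m →
      ¬ W.map (Matrix.toLin' (X : Matrix ι ι F)) ≤ W := by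
  classical
  haveI : Nonempty ι := Fintype.card_pos_iff.mp (by
    rcases Nat.eq_zero_or_pos (Fintype.card ι) with h | h
    · rw [h, Multiset.sum_eq_zero_iff] at hsum
      have := hsum a₀ ha₀
      have := (hle a₀ ha₀).1
      omega
    · exact h)
  obtain ⟨X, hXΩ, hXp, hX, hrk⟩ := Cfsg.Lib.Classical.OrthUni.witness hp h2 Q hQ μ hle hev hsum ha₀ hodd
  refine ⟨X, pElem_of Fintype.card_pos hXΩ hXp (fun h1 => ?_), fun W hW hWm hmap => ?_⟩
  · obtain ⟨e, he, he1⟩ := hbig
    exact he1 (Cfsg.Lib.Classical.OrthUni.scalar_ones X hXp μ hle hrk (Or.inl h1) e he)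
  · obtain ⟨ν, h1, h2', h3, -⟩ :=
      Cfsg.Lib.Classical.OrthUni.sub_partition h2 Q X hX hp hXp μ hle hrk W hmap (isND_iff.2 hW)
    exact hno ν h1 h3 (h2'.trans hWm)

/-- Sub-sums of pairs of twos and threes. -/
theorem subsum_threes {k a : ℕ} {ν : Multiset ℕ} (hν : ν ≤ Multiset.replicate k 2 + Multiset.replicate a 3)
    (hev : Even (ν.count 2)) : ∃ j l, j ≤ a ∧ ν.sum = 3 * j + 4 * l := by
  obtain ⟨s, hs, hdvd, hle⟩ := Cfsg.Lib.Classical.OrthUni.sub_sum hν (by simp [Multiset.mem_replicate]) hev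
  obtain ⟨l, hl⟩ := hdvd
  have hs' := Multiset.eq_replicate_card.mpr fun e he => Multiset.eq_of_mem_replicate (Multiset.mem_of_le hs he)
  have hcard := Multiset.card_le_card hs
  rw [Multiset.card_replicate] at hcard
  have hsum : s.sum = 3 * s.card := by
    conv_lhs => rw [hs']
    rw [Multiset.sum_replicate, smul_eq_mul, mul_comm]
  exact ⟨s.card, l, hcard, by omega⟩

theorem char_three {p : ℕ} (hp : p.Prime) (hodd : Odd p) : 3 ≤ p := by
  have := hp.two_le
  have := Nat.odd_iff.1 hodd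
  omega

include p in
/-- Twos and threes. -/
theorem exists_threes_elem (hQ : (polarBilin Q).Nondegenerate) (hp : Odd p) (h2 : (2 : F) ≠ 0) {k a : ℕ}
    (hk : Even k) (ha : 0 < a) (hsum : 2 * k + 3 * a = Fintype.card ι) {m : ℕ}
    (hno : ∀ j l, j ≤ a → 3 * j + 4 * l ≠ m) :
    ∃ X : GL ι F, PElem Q p X ∧ ∀ W : Submodule F (ι → F), ND Q W → Module.finrank F W = m →
      ¬ W.map (Matrix.toLin' (X : Matrix ι ι F)) ≤ W := by
  have hp3 := char_three (Fact.out : p.Prime) hp
  refine exists_partition_elem hQ hp h2 (Multiset.replicate k 2 + Multiset.replicate a 3) ?_ ?_ ?_ (a₀ := 3) ?_ (by decide)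
    ⟨3, ?_, by decide⟩ fun ν hν hev hs => ?_
  · intro e he
    simp only [Multiset.mem_add, Multiset.mem_replicate] at he
    rcases he with ⟨-, rfl⟩ | ⟨-, rfl⟩ <;> omega
  · intro e he
    rw [Multiset.count_add, Multiset.count_replicate, Multiset.count_replicate,
      if_neg (c := (3 : ℕ) = e) (fun e' => by subst e'; exact absurd he (by decide)), add_zero]
    split_ifs
    exacts [hk, Even.zero]
  · simp; omega
  · simp [Multiset.mem_add, Multiset.mem_replicate]; omega
  · simp [Multiset.mem_add, Multiset.mem_replicate]; omega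
  · obtain ⟨j, l, hj, he⟩ := subsum_threes hν (hev 2 even_two)
    exact hno j l hj (he.symm.trans hs)

/-- An element violates a criterion. -/
theorem not_allFix_scalar {P : Submodule F (ι → F) → Prop} {X : GL ι F} (hX : PElem Q p X)
    (hno : ∀ W, P W → ¬ W.map (Matrix.toLin' (X : Matrix ι ι F)) ≤ W) :
    ¬ ∀ x : GL ι F, x ∈ Cfsg.Geo.omegaGL (⇑Q) →
      (∃ z : F, ((x ^ p : GL ι F) : Matrix ι ι F) = z • (1 : Matrix ι ι F)) →
      (∀ z : F, (x : Matrix ι ι F) ≠ z • (1 : Matrix ι ι F)) →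
      ∃ W, P W ∧ W.map (Matrix.toLin' (x : Matrix ι ι F)) ≤ W := fun h => by
  obtain ⟨W, hW, hmap⟩ := h X hX.1 ⟨1, by rw [hX.2.1, one_smul, Units.val_one]⟩ hX.2.2.2
  exact hno W hW hmap

theorem not_allFix_order {P : Submodule F (ι → F) → Prop} {X : GL ι F} (hX : PElem Q p X)
    (hno : ∀ W, P W → ¬ W.map (Matrix.toLin' (X : Matrix ι ι F)) ≤ W) :
    ¬ ∀ x : GL ι F, x ∈ Cfsg.Geo.omegaGL (⇑Q) → orderOf x = p →
      ∃ W, P W ∧ W.map (Matrix.toLin' (x : Matrix ι ι F)) ≤ W := fun h => by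
  obtain ⟨W, hW, hmap⟩ := h X hX.1 (orderOf_eq_prime hX.2.1 hX.2.2.1)
  exact hno W hW hmap

end Cfsg.Lib.OrthEl
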